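import Groth.Prelude.Def_BlowUp2
import Groth.Agent.Divis.CartierBasic
import Groth.Agent.Divis.CartierStalk

/-!
# Stalks of sums of ideal sheaves on blow-ups: which summand generates the exceptional ideal
-/

set_option autoImplicit false
universe u

open CategoryTheory AlgebraicGeometry TopologicalSpace IsLocalRing
open Groth.Agent.Divis.CartierBasic Groth.Agent.Divis.CartierStalk

namespace K484.StalkAux

/-- In a local ring, an ideal contained in a principal ideal `(t)` is `(t)` or is contained in `m t`. -/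
theorem eq_or_le_mul_of_le_span {A : Type*} [CommRing A] [IsLocalRing A] {t : A} {P : Ideal A}
    (h : P ≤ Ideal.span {t}) : P = Ideal.span {t} ∨ P ≤ Ideal.span {t} * maximalIdeal A := by
  by_cases hc : P ≤ Ideal.span {t} * maximalIdeal A
  · exact Or.inr hc
  · left
    refine le_antisymm h ?_
    obtain ⟨p, hp, hpn⟩ := SetLike.not_le_iff_exists.1 hc
    obtain ⟨a, ha⟩ := Ideal.mem_span_singleton.1 (h hp)
    rw [Ideal.span_singleton_le_iff_mem]
    have hu : IsUnit a := by
      by_contra hau
      apply hpn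
      rw [Ideal.mem_span_singleton_mul]
      exact ⟨a, hau, ha.symm⟩
    obtain ⟨v, rfl⟩ := hu
    have : t = p * (↑v⁻¹ : A) := by rw [ha, mul_assoc, Units.mul_inv, mul_one]
    rw [this]
    exact P.mul_mem_right _ hp

/-- In a local ring, if a sum of ideals is generated by a nonzerodivisor then it is equal to one of the
summands. -/
theorem exists_eq_of_iSup_eq_span {A : Type*} [CommRing A] [IsLocalRing A] {t : A}
    (ht : t ∈ nonZeroDivisors A) {ι : Type*} {P : ι → Ideal A} (h : ⨆ i, P i = Ideal.span {t}) :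
    ∃ i, P i = Ideal.span {t} := by
  by_contra hc
  push Not at hc
  have h1 : ∀ i, P i ≤ Ideal.span {t} * maximalIdeal A := fun i =>
    (eq_or_le_mul_of_le_span (h ▸ le_iSup P i)).resolve_left (hc i)
  have h2 : t ∈ Ideal.span {t} * maximalIdeal A :=
    (h.ge.trans (iSup_le h1)) (Ideal.mem_span_singleton_self t)
  obtain ⟨z, hz, hz'⟩ := Ideal.mem_span_singleton_mul.1 h2
  have h5 : z = 1 := by
    have : t * z = t * 1 := by rw [hz', mul_one]
    exact (mul_cancel_left_mem_nonZeroDivisors ht).1 this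
  rw [h5] at hz
  exact (Ideal.ne_top_iff_one _).1 (Ideal.IsPrime.ne_top (I := maximalIdeal A) inferInstance) hz

theorem exists_eq_of_sup_eq_span {A : Type*} [CommRing A] [IsLocalRing A] {t : A}
    (ht : t ∈ nonZeroDivisors A) {P Q : Ideal A} (h : P ⊔ Q = Ideal.span {t}) :
    P = Ideal.span {t} ∨ Q = Ideal.span {t} := by
  have h' : ⨆ i : Bool, cond i P Q = Ideal.span {t} := by rw [iSup_bool_eq]; exact h
  obtain ⟨i, hi⟩ := exists_eq_of_iSup_eq_span ht h'
  cases i
  · exact Or.inr hi
  · exact Or.inl hi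

variable {X Y : Scheme.{u}}

theorem stalkIdeal_iSup {ι : Type*} (𝓙 : ι → X.IdealSheafData) (x : X) :
    stalkIdeal (⨆ i, 𝓙 i) x = ⨆ i, stalkIdeal (𝓙 i) x := by
  obtain ⟨U, hx⟩ := exists_affine x
  rw [stalkIdeal_eq _ U hx, Scheme.IdealSheafData.ideal_iSup, iSup_apply, Ideal.map_iSup]
  exact iSup_congr fun i => (stalkIdeal_eq _ U hx).symm

theorem stalk_nontrivial (x : X) : Nontrivial (X.presheaf.stalk x) := inferInstance

/-- The support of a comap, at a point, in terms of stalk ideals. -/
theorem mem_support_comap_iff (𝓘 : X.IdealSheafData) (f : Y ⟶ X) (y : Y) :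
    y ∈ (𝓘.comap f).support ↔ f y ∈ 𝓘.support := by
  rw [Scheme.IdealSheafData.support_comap]
  rfl

/-- The stalk ideal of an inverse image which is zero. -/
theorem comap_subschemeι (𝓘 : X.IdealSheafData) : 𝓘.comap 𝓘.subschemeι = ⊥ := by
  apply ext_stalkIdeal
  intro d
  rw [stalkIdeal_comap, stalkIdeal_bot, ← ker_stalkMap_subschemeι]
  exact (Ideal.map_eq_bot_iff_le_ker _).2 le_rfl

end K484.StalkAux
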