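import Groth.Agent.BlowUp.K484.CocTwist
import Groth.Agent.BlowUp.K484.StalkAux
import Groth.Agent.Ega1.IdealGen
import Groth.Agent.S2122

/-!
# The Cartier cocycle of the module of an effective Cartier divisor

`X` is an integral scheme, `E` an effective Cartier ideal.

* `exists_hasCoc_idealMod`: `ClSub.idealMod E` has a cocycle given by the local equations of `E`;
* `unitAt_of_notMem_support`, `ord_eq_one`: it is a unit outside of the support of `E`, and has order one
  at a point where `E` is the maximal ideal;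
* `hasCoc_inverse`: the cocycle of an inverse;
* `nonempty_iso_of_agree`: **invertible modules which agree outside of a prime effective Cartier divisor
  differ by a multiple of the divisor**.
-/

set_option autoImplicit false
universe u
open CategoryTheory CategoryTheory.Limits AlgebraicGeometry TopologicalSpace Opposite

namespace K484.CocIdeal

open Groth.Agent.Fdesc.LocGen Groth.Agent.Lefpen.H725.CocDef Groth.Agent.Lefpen.H521.CartierCoc
open Groth.Agent.PerfA.IdealModule Groth.Agent.Ega1.IdealGen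
open Groth.Agent.Divis.CartierBasic Groth.Agent.Divis.CartierStalk
open K484.CocTwist

variable {X : Scheme.{u}} [IsIntegral X]

/-- The cocycle `t` consists of local equations of `E`. -/
def IsEq (E : X.IdealSheafData) (t : X → X.functionField) : Prop :=
  ∀ x, ∃ (W : X.affineOpens) (hx : x ∈ W.1) (τ : Γ(X, W.1)), τ ∈ nonZeroDivisors Γ(X, W.1) ∧
    E.ideal W = Ideal.span {τ} ∧ t x = ff W.1 (gen_mem hx) τ

/-- The module of an effective Cartier divisor has a cocycle of local equations. -/
theorem exists_hasCoc_idealMod {E : X.IdealSheafData} (hE : BlowUp.IsEffCartierIdeal E) :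
    ∃ t, HasCoc (ClSub.idealMod E) t ∧ IsEq E t := by
  choose W hxW τ hτ hEτ using hE
  have h1 : ∀ x, ∃ e : Γ(ClSub.idealMod E, (W x).1), val E e = τ x := fun x =>
    exists_val_eq E (W x) (by rw [hEτ]; exact Ideal.mem_span_singleton_self _)
  choose e he using h1
  have hη : ∀ x, genericPoint X ∈ (W x).1 := fun x => gen_mem (hxW x)
  have hgen : ∀ x, IsGen (e x) := fun x =>
    isGen_of_span E (by rw [he, hEτ]) (by rw [he]; exact hτ x)
  refine ⟨fun x => ff (W x).1 (hη x) (τ x), ⟨fun x h0 => ?_, fun x => (W x).1, hxW, e, hgen,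
    fun x y => ?_⟩, fun x => ⟨W x, hxW x, τ x, hτ x, hEτ x, rfl⟩⟩
  · have h2 : τ x = 0 := ff_injective _ (hη x) (by rw [map_zero]; exact h0)
    have hne : Nontrivial Γ(X, (W x).1) := by
      have : Nonempty (W x).1 := ⟨⟨x, hxW x⟩⟩
      infer_instance
    exact zero_notMem_nonZeroDivisors (h2 ▸ hτ x)
  · obtain ⟨g, -, hg⟩ := ((hgen y).res (inf_le_right : (W x).1 ⊓ (W y).1 ≤ (W y).1)).exists_unit
      ((hgen x).res (inf_le_left : (W x).1 ⊓ (W y).1 ≤ (W x).1))
    refine ⟨g, ⟨hη x, hη y⟩, hg, ?_⟩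
    have h3 := congrArg (val E) hg
    rw [val_smul, val_res', val_res', he, he] at h3
    have h4 := congrArg (ff ((W x).1 ⊓ (W y).1) ⟨hη x, hη y⟩) h3
    rw [map_mul, ff_ores, ff_ores] at h4
    exact h4

theorem unitAt_of_notMem_support {E : X.IdealSheafData} {t : X → X.functionField} (ht : IsEq E t)
    {x : X} (hx : x ∉ E.support) : UnitAt x (t x) := by
  obtain ⟨W, hxW, τ, hτ, hEτ, h⟩ := ht x
  have h1 : x ∈ X.basicOpen τ := by
    by_contra hn
    apply hx
    rw [Scheme.IdealSheafData.mem_support_iff_of_mem hxW, hEτ, Scheme.zeroLocus_span,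
      Scheme.mem_zeroLocus_iff]
    rintro f rfl
    exact hn
  refine ⟨X.basicOpen τ, h1, gen_mem h1, ores (X.basicOpen_le τ) τ, ?_, ?_⟩
  · exact RingedSpace.isUnit_res_basicOpen _ τ
  · rw [ff_ores, h]

/-- The germ of a local equation. -/
theorem exists_stalk_eq {E : X.IdealSheafData} {t : X → X.functionField} (ht : IsEq E t) (x : X) :
    ∃ τ : X.presheaf.stalk x, stalkIdeal E x = Ideal.span {τ} ∧
      algebraMap (X.presheaf.stalk x) X.functionField τ = t x := by
  obtain ⟨W, hxW, τ, hτ, hEτ, h⟩ := ht x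
  refine ⟨X.presheaf.germ W.1 x hxW τ, ?_, ?_⟩
  · rw [stalkIdeal_eq E W hxW, hEτ, Ideal.map_span, Set.image_singleton]
  · rw [h]
    exact Groth.Agent.CurvesA.UfdStalk.sp_germ (genericPoint_specializes x) hxW τ

/-- The local equation has order one at a point where it generates the maximal ideal. -/
theorem ord_eq_one [IsLocallyNoetherian X] {E : X.IdealSheafData} {t : X → X.functionField}
    (ht : IsEq E t) (h0 : ∀ x, t x ≠ 0) {ξ : X}
    (hξ : stalkIdeal E ξ = IsLocalRing.maximalIdeal (X.presheaf.stalk ξ)) :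
    Order.coheight ξ = 1 ∧ Scheme.ord (t ξ) ξ = 1 := by
  obtain ⟨τ, hτ, hτt⟩ := exists_stalk_eq ht ξ
  rw [hξ] at hτ
  have hτ0 : τ ≠ 0 := by
    rintro rfl
    exact h0 ξ (by rw [← hτt, map_zero])
  have hfield : ¬ IsField (X.presheaf.stalk ξ) := by
    intro h
    rw [IsLocalRing.isField_iff_maximalIdeal_eq] at h
    rw [h] at hτ
    exact hτ0 (by simpa using (Ideal.span_singleton_eq_bot.1 hτ.symm))
  have hpr : (IsLocalRing.maximalIdeal (X.presheaf.stalk ξ)).IsPrincipal := ⟨τ, hτ⟩
  have hdvr : IsDiscreteValuationRing (X.presheaf.stalk ξ) :=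
    ((IsDiscreteValuationRing.TFAE (X.presheaf.stalk ξ) hfield).out 4 0).mp hpr
  have h1 : Order.coheight ξ = 1 := Groth.Agent.Ega4dB.CDivNormal.coheight_eq_one ξ
  refine ⟨h1, ?_⟩
  have hirr : Irreducible τ := (IsDiscreteValuationRing.irreducible_iff_uniformizer τ).2 hτ
  rw [Scheme.ord_eq_iff h1 (h0 ξ)]
  have h6 := Ring.ordFrac_irreducible (K := X.functionField) hirr
  rw [← hτt]
  exact h6

/-- Scaling a cocycle. -/
theorem hasCoc_const {L : X.Modules} {a : X → X.functionField} (h : HasCoc L a) {c : X.functionField}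
    (hc : c ≠ 0) : HasCoc L (fun x => c * a x) := by
  obtain ⟨h0, U, hU, e, he, h⟩ := h
  refine ⟨fun x => mul_ne_zero hc (h0 x), U, hU, e, he, fun x y => ?_⟩
  obtain ⟨g, hη, hg, ha⟩ := h x y
  refine ⟨g, hη, hg, ?_⟩
  change c * a x = _ * (c * a y)
  rw [ha]
  ring

theorem hasCoc_structure : HasCoc (Coh.structureModule X) (fun _ => (1 : X.functionField)) := by
  refine ⟨fun _ => one_ne_zero, fun _ => ⊤, fun _ => trivial, fun _ => one ⊤, fun _ => isGen_one ⊤,
    fun x y => ⟨1, ⟨trivial, trivial⟩, ?_, ?_⟩⟩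
  · change res (Coh.structureModule X) _ (one ⊤) = (1 : Γ(X, ⊤ ⊓ ⊤)) • res (Coh.structureModule X) _ (one ⊤)
    rw [one_smul]
  · rw [map_one, one_mul]

/-- A constant comparing the cocycles of isomorphic modules. -/
theorem exists_const_of_iso {P Q : X.Modules} {a b : X → X.functionField} (h : HasCoc P a)
    (h' : HasCoc Q b) (φ : P ≅ Q) : ∃ c : X.functionField, c ≠ 0 ∧ ∀ x, UnitAt x (c * a x / b x) := by
  obtain ⟨c, hc, h⟩ := exists_const_of_restrict_iso h h' ⊤ (genericPoint X) trivial
    ((Scheme.Modules.restrictFunctor (⊤ : X.Opens).ι).mapIso φ)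
  exact ⟨c, hc, fun x => h x trivial⟩

/-- The cocycle of an inverse. -/
theorem exists_hasCoc_inverse {M I : X.Modules} (hM : ClSub.IsInverseOf M I) {t : X → X.functionField}
    (ht : HasCoc I t) : ∃ s : X → X.functionField, HasCoc M s ∧ ∀ x, UnitAt x (s x * t x) := by
  obtain ⟨e⟩ := hM
  obtain ⟨s, hs⟩ := exists_hasCoc (Groth.Agent.S2122.result M I e)
  obtain ⟨c, hc, h⟩ := exists_const_of_iso (hasCoc_tensor hs ht) hasCoc_structure e
  refine ⟨fun x => c * s x, hasCoc_const hs hc, fun x => ?_⟩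
  have := h x
  rw [div_one] at this
  rwa [mul_assoc]

/-- The ratio of two cocycles is a power of `t`: conclusion for the modules. -/
theorem nonempty_iso_of_zpow {P Q I M : X.Modules} {p q t s : X → X.functionField} (hp : HasCoc P p)
    (hq : HasCoc Q q) (ht : HasCoc I t) (hs : HasCoc M s) (hst : ∀ x, UnitAt x (s x * t x))
    {c : X.functionField} (hc : c ≠ 0) {m : ℤ} (h : ∀ x, UnitAt x (c * p x / q x * (t x) ^ m)) :
    ∃ n : ℕ, Nonempty (P ≅ CohB1.tensorMod Q (CohB1.tensorPow I n)) ∨
      Nonempty (P ≅ CohB1.tensorMod Q (CohB1.tensorPow M n)) := by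
  obtain ⟨n, rfl | rfl⟩ := m.eq_nat_or_neg
  · refine ⟨n, Or.inr (hasCoc_iso hp (hasCoc_tensor hq (hasCoc_pow hs n)) c hc fun x => ?_)⟩
    have h1 := unitAt_div (h x) (unitAt_pow (hst x) n)
    have e1 : c * p x / q x * t x ^ (n : ℤ) / (s x * t x) ^ n = c * p x / (q x * s x ^ n) := by
      rw [zpow_natCast, mul_pow]
      have a1 := hq.1 x
      have a2 := pow_ne_zero n (ht.1 x)
      have a3 := pow_ne_zero n (hs.1 x)
      field_simp
    rwa [e1] at h1
  · refine ⟨n, Or.inl (hasCoc_iso hp (hasCoc_tensor hq (hasCoc_pow ht n)) c hc fun x => ?_)⟩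
    have h1 := h x
    have e1 : c * p x / q x * t x ^ (-(n : ℤ)) = c * p x / (q x * t x ^ n) := by
      rw [zpow_neg, zpow_natCast]
      have a1 := hq.1 x
      have a2 := pow_ne_zero n (ht.1 x)
      field_simp
    rwa [e1] at h1

section agree

variable [IsLocallyNoetherian X] (hX : ∀ x : X, IsIntegrallyClosed (X.presheaf.stalk x))
  {E : X.IdealSheafData} (hE : BlowUp.IsEffCartierIdeal E) {ξ : X}
  (hξ : stalkIdeal E ξ = IsLocalRing.maximalIdeal (X.presheaf.stalk ξ))
  (hgen : ∀ z ∈ E.support, ξ ⤳ z)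

include hX hE hξ hgen

/-- Invertible modules which agree outside of a prime effective Cartier divisor differ by a multiple of
the divisor. -/
theorem exists_iso_of_agree {P Q M : X.Modules} (hP : PicF.IsInvertible P) (hQ : PicF.IsInvertible Q)
    (hM : ClSub.IsInverseOf M (ClSub.idealMod E)) (O : X.Opens) (hO : ∀ x, x ∈ O ↔ x ∉ E.support)
    (φ : P.restrict O.ι ≅ Q.restrict O.ι) :
    ∃ n : ℕ, Nonempty (P ≅ CohB1.tensorMod Q (CohB1.tensorPow (ClSub.idealMod E) n)) ∨
      Nonempty (P ≅ CohB1.tensorMod Q (CohB1.tensorPow M n)) := by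
  obtain ⟨t, ht, htE⟩ := exists_hasCoc_idealMod hE
  obtain ⟨s, hs, hst⟩ := exists_hasCoc_inverse hM ht
  obtain ⟨p, hp⟩ := exists_hasCoc hP
  obtain ⟨q, hq⟩ := exists_hasCoc hQ
  obtain ⟨h1, h2⟩ := ord_eq_one htE ht.1 hξ
  have htO : ∀ x ∈ O, UnitAt x (t x) := fun x hx => unitAt_of_notMem_support htE ((hO x).1 hx)
  have hcod : ∀ z : X, Order.coheight z = 1 → z ∉ O → z = ξ := by
    intro z hz hzO
    have hzE : z ∈ E.support := by
      by_contra hn
      exact hzO ((hO z).2 hn)
    by_contra hne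
    have hlt : z < ξ := by
      refine lt_of_le_not_ge (show z ≤ ξ from hgen z hzE) (fun h' => ?_)
      have h'' : z ⤳ ξ := h'
      exact hne (h''.antisymm (hgen z hzE)).eq
    have := Order.coheight_add_one_le hlt
    rw [h1, hz] at this
    exact absurd this (by decide)
  have hη : genericPoint X ∈ O := by
    rw [hO]
    intro hn
    have h3 : genericPoint X = ξ := ((genericPoint_specializes ξ).antisymm (hgen _ hn)).eq
    have h4 : Order.coheight (genericPoint X) = 0 := by
      rw [Order.coheight_eq_zero]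
      intro b hb
      exact (show genericPoint X ⤳ b from genericPoint_specializes b)
    rw [h3, h1] at h4
    exact absurd h4 (by decide)
  obtain ⟨c, hc, hcO⟩ := exists_const_of_restrict_iso hp hq O (genericPoint X) hη φ
  obtain ⟨m, hm⟩ := unitAt_twist hX hp hq ht htO hcod h2 hc hcO
  exact nonempty_iso_of_zpow hp hq ht hs hst hc hm

end agree

/-- If a power of the ideal or of its inverse is the principal module generated by a rational function
which is a unit at `ξ`, then the exponent is zero. -/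
theorem eq_zero_of_zpow [IsLocallyNoetherian X] {E : X.IdealSheafData} {ξ : X}
    (hξ : stalkIdeal E ξ = IsLocalRing.maximalIdeal (X.presheaf.stalk ξ))
    {t : X → X.functionField} (ht : IsEq E t) (h0 : ∀ x, t x ≠ 0)
    {c : X.functionField} (hc : UnitAt ξ c) {m : ℤ} (h : UnitAt ξ (c * (t ξ) ^ m)) : m = 0 := by
  obtain ⟨-, h2⟩ := ord_eq_one ht h0 hξ
  have h3 := ord_of_unitAt h
  rw [Scheme.ord_mul (unitAt_ne_zero hc) (zpow_ne_zero _ (h0 ξ)), ord_of_unitAt hc,
    Groth.Agent.Ega4late.H535.PicPrincipal.ord_zpow ξ _ (h0 ξ), h2] at h3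
  omega

end K484.CocIdeal
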