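import Groth.Agent.Lefpen.H521.CartierCoc
import Groth.Agent.Ega4late.H535.PicPrincipal

/-!
# Invertible modules which agree outside of a prime effective Cartier divisor

`X` is an integral scheme. For invertible modules with Cartier cocycles:

* `exists_const_of_restrict_iso`: an isomorphism over a nonempty open `U` gives a constant `c` with
  `c a x / b x` a unit at all `x ∈ U`;
* `unitAt_of_ord`: on a normal scheme a rational function of order zero at the codimension one
  generizations of `x` is a unit at `x`;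
* `unitAt_twist`: if every codimension one point outside of `U` is `ξ`, the ratio of two cocycles which
  agree over `U` is a power of the local equation of a divisor which is prime at `ξ`.
-/

set_option autoImplicit false
universe u
open CategoryTheory CategoryTheory.Limits AlgebraicGeometry TopologicalSpace Opposite

namespace K484.CocTwist

open Groth.Agent.Fdesc.LocGen Groth.Agent.Lefpen.H725.CocDef Groth.Agent.Lefpen.H521.CartierCoc

variable {X : Scheme.{u}} [IsIntegral X]

theorem unitAt_one (x : X) : UnitAt x (1 : X.functionField) :=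
  ⟨⊤, trivial, trivial, 1, isUnit_one, map_one _⟩

theorem unitAt_pow {x : X} {w : X.functionField} (h : UnitAt x w) (n : ℕ) : UnitAt x (w ^ n) := by
  induction n with
  | zero => rw [pow_zero]; exact unitAt_one x
  | succ n ih => rw [pow_succ]; exact unitAt_mul ih h

theorem unitAt_zpow {x : X} {w : X.functionField} (h : UnitAt x w) (n : ℤ) : UnitAt x (w ^ n) := by
  rcases n with n | n
  · rw [Int.ofNat_eq_natCast, zpow_natCast]
    exact unitAt_pow h n
  · rw [zpow_negSucc]
    exact unitAt_inv (unitAt_pow h (n + 1))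

/-- An isomorphism over a nonempty open `U` gives a constant `c` with `c a x / b x` a unit on `U`. -/
theorem exists_const_of_restrict_iso {P Q : X.Modules} {a b : X → X.functionField} (h : HasCoc P a)
    (h' : HasCoc Q b) (O : X.Opens) (x₀ : X) (hx₀ : x₀ ∈ O) (φ : P.restrict O.ι ≅ Q.restrict O.ι) :
    ∃ c : X.functionField, c ≠ 0 ∧ ∀ x ∈ O, UnitAt x (c * a x / b x) := by
  obtain ⟨ha, U, hU, e, he, hg⟩ := h
  obtain ⟨hb, V, hV, f, hf, hh⟩ := h'
  let T : X → X.Opens := fun x => O.ι ''ᵁ (O.ι ⁻¹ᵁ (U x ⊓ V x))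
  have hTO : ∀ x, T x = O ⊓ (U x ⊓ V x) := by
    intro x
    change O.ι ''ᵁ (O.ι ⁻¹ᵁ (U x ⊓ V x)) = _
    rw [O.ι.image_preimage_eq_opensRange_inf, Scheme.Opens.opensRange_ι]
  have hTU : ∀ x, T x ≤ U x := fun x => (hTO x).le.trans (inf_le_right.trans inf_le_left)
  have hTV : ∀ x, T x ≤ V x := fun x => (hTO x).le.trans (inf_le_right.trans inf_le_right)
  have hxT : ∀ x ∈ O, x ∈ T x := fun x hx => (hTO x).ge ⟨hx, hU x, hV x⟩
  have h1 : ∀ x : X, ∃ v : Γ(X, T x), IsUnit v ∧
      (toRestrict O.ι).symm (φ.hom.app (O.ι ⁻¹ᵁ (U x ⊓ V x)) (toRestrict O.ι (res P (hTU x) (e x)))) =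
        v • res Q (hTV x) (f x) := by
    intro x
    have k1 : IsGen (toRestrict O.ι (U := O.ι ⁻¹ᵁ (U x ⊓ V x)) (res P (hTU x) (e x))) :=
      (isGen_toRestrict_iff _ _).mpr ((he x).res _)
    have k2 := k1.app φ.hom
    have k3 : IsGen ((toRestrict O.ι).symm (φ.hom.app (O.ι ⁻¹ᵁ (U x ⊓ V x))
        (toRestrict O.ι (res P (hTU x) (e x))))) := by
      rw [← isGen_toRestrict_iff O.ι, AddEquiv.apply_symm_apply]
      exact k2
    exact IsGen.exists_unit ((hf x).res _) k3
  choose v hv hv' using h1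
  have hη : ∀ x ∈ O, genericPoint X ∈ T x := fun x hx => gen_mem (hxT x hx)
  have hne : ∀ x (hx : x ∈ O), ff (T x) (hη x hx) (v x) ≠ 0 := fun x hx =>
    ((hv x).map (ff (T x) (hη x hx))).ne_zero
  have key : ∀ x (hx : x ∈ O) y (hy : y ∈ O), ff (T x) (hη x hx) (v x) * b x / a x =
      ff (T y) (hη y hy) (v y) * b y / a y := by
    intro x hx y hy
    obtain ⟨g, hgη, hg1, hg2⟩ := hg x y
    obtain ⟨t, htη, ht1, ht2⟩ := hh x y
    let S : (O : Scheme.{u}).Opens := O.ι ⁻¹ᵁ (U x ⊓ V x) ⊓ O.ι ⁻¹ᵁ (U y ⊓ V y)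
    have s1 : S ≤ O.ι ⁻¹ᵁ (U x ⊓ V x) := inf_le_left
    have s2 : S ≤ O.ι ⁻¹ᵁ (U y ⊓ V y) := inf_le_right
    have e3 : O.ι ''ᵁ S ≤ T x := O.ι.image_mono s1
    have e4 : O.ι ''ᵁ S ≤ T y := O.ι.image_mono s2
    have e1 : O.ι ''ᵁ S ≤ U x ⊓ U y := le_inf (e3.trans (hTU x)) (e4.trans (hTU y))
    have e2 : O.ι ''ᵁ S ≤ V x ⊓ V y := le_inf (e3.trans (hTV x)) (e4.trans (hTV y))
    have e5 : O.ι ''ᵁ S ≤ V y := e4.trans (hTV y)
    have hT : genericPoint X ∈ O.ι ''ᵁ S := by
      have h0 : genericPoint X ∈ O := gen_mem hx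
      refine ⟨⟨genericPoint X, h0⟩, ⟨?_, ?_⟩, rfl⟩
      · exact ⟨gen_mem (hU x), gen_mem (hV x)⟩
      · exact ⟨gen_mem (hU y), gen_mem (hV y)⟩
    have k1 := congrArg (res Q e3) (hv' x)
    have k2 := congrArg (res Q e4) (hv' y)
    have k3 := congrArg (res P e1) hg1
    have k4 := congrArg (res Q e2) ht1
    have r1 : res Q e3 ((toRestrict O.ι).symm (φ.hom.app (O.ι ⁻¹ᵁ (U x ⊓ V x))
        (toRestrict O.ι (res P (hTU x) (e x))))) =
        (toRestrict O.ι).symm (φ.hom.app S (toRestrict O.ι (res P (e3.trans (hTU x)) (e x)))) := by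
      have := app_res φ.hom s1 (toRestrict O.ι (res P (hTU x) (e x)))
      rw [res_toRestrict, res_res] at this
      rw [this]
      rfl
    have r2 : res Q e4 ((toRestrict O.ι).symm (φ.hom.app (O.ι ⁻¹ᵁ (U y ⊓ V y))
        (toRestrict O.ι (res P (hTU y) (e y))))) =
        (toRestrict O.ι).symm (φ.hom.app S (toRestrict O.ι (res P (e4.trans (hTU y)) (e y)))) := by
      have := app_res φ.hom s2 (toRestrict O.ι (res P (hTU y) (e y)))
      rw [res_toRestrict, res_res] at this
      rw [this]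
      rfl
    rw [r1, res_smul, res_res] at k1
    rw [r2, res_smul, res_res] at k2
    rw [res_smul, res_res, res_res] at k3 k4
    rw [k3, toRestrict_smul, Scheme.Modules.Hom.app_smul, toRestrict_symm_smul, k2, k4] at k1
    have k5 : (O.ι.appIso S).inv ((O.ι.appIso S).hom (ores e1 g)) = ores e1 g := by
      rw [← ConcreteCategory.comp_apply, Iso.hom_inv_id]; rfl
    rw [k5, smul_smul, smul_smul] at k1
    have k6 := ((hf y).res e5).ext k1
    have k7 := congrArg (ff _ hT) k6
    rw [map_mul, map_mul, ff_ores, ff_ores, ff_ores, ff_ores] at k7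
    have hax := ha x
    have hay := ha y
    have hbx := hb x
    have hby := hb y
    rw [div_eq_div_iff hax hay, hg2, ht2]
    linear_combination (-(b y * a y)) * k7
  refine ⟨ff (T x₀) (hη x₀ hx₀) (v x₀) * b x₀ / a x₀,
    div_ne_zero (mul_ne_zero (hne x₀ hx₀) (hb x₀)) (ha x₀), fun x hx => ?_⟩
  rw [key x₀ hx₀ x hx, div_mul_cancel₀ _ (ha x), mul_div_cancel_right₀ _ (hb x)]
  exact ⟨T x, hxT x hx, hη x hx, v x, hv x, rfl⟩

/-! ### Units and orders -/

open Groth.Agent.CurvesA.UfdStalk Groth.Agent.Ega4dB.CDivNormal Groth.Agent.Ega4dB.CDivUFD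
open Groth.Agent.Ega4late.H535.PicPrincipal

theorem unitAt_of_regPt {x : X} {f : X.functionField} (hf0 : f ≠ 0)
    (hf : RegPt (genericPoint_specializes x) f) (hf' : RegPt (genericPoint_specializes x) f⁻¹) :
    UnitAt x f := by
  obtain ⟨s, hs⟩ := hf
  obtain ⟨s', hs'⟩ := hf'
  have hinj : Function.Injective (algebraMap (X.presheaf.stalk x) X.functionField) :=
    IsFractionRing.injective _ _
  have h1 : s * s' = 1 := by
    apply hinj
    rw [map_mul, map_one]
    change sp (genericPoint_specializes x) s * sp (genericPoint_specializes x) s' = 1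
    rw [hs, hs']
    exact mul_inv_cancel₀ hf0
  obtain ⟨U, hxU, g, hg⟩ := X.presheaf.exists_germ_eq s
  have hu : IsUnit (X.presheaf.germ U x hxU g) := by
    rw [hg]
    exact IsUnit.of_mul_eq_one _ h1
  have hxb : x ∈ X.basicOpen g := (Scheme.mem_basicOpen X g x hxU).mpr hu
  have hle : X.basicOpen g ≤ U := X.basicOpen_le g
  refine ⟨X.basicOpen g, hxb, gen_mem hxb, ores hle g, ?_, ?_⟩
  · exact RingedSpace.isUnit_res_basicOpen _ g
  · rw [ff_ores, ← hs, ← hg]
    exact (sp_germ (genericPoint_specializes x) hxU g).symm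

theorem unitAt_range {x : X} {f : X.functionField} (h : UnitAt x f) :
    ∃ a : (X.presheaf.stalk x)ˣ, algebraMap (X.presheaf.stalk x) X.functionField a = f := by
  obtain ⟨U, hx, hη, g, hg, rfl⟩ := h
  obtain ⟨g, rfl⟩ := hg
  exact ⟨Units.map (X.presheaf.germ U x hx).hom.toMonoidHom g,
    sp_germ (genericPoint_specializes x) hx g.1⟩

variable [IsLocallyNoetherian X]

theorem ord_of_unitAt {x : X} {f : X.functionField} (h : UnitAt x f) : Scheme.ord f x = 0 := by
  obtain ⟨a, rfl⟩ := unitAt_range h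
  exact ord_algebraMap_unit x a

/-- On a normal scheme a rational function with order zero at the codimension one generizations of `x` is a
unit at `x`. -/
theorem unitAt_of_ord (hX : ∀ x : X, IsIntegrallyClosed (X.presheaf.stalk x)) {x : X}
    {f : X.functionField} (hf : f ≠ 0)
    (h : ∀ z : X, z ⤳ x → Order.coheight z = 1 → Scheme.ord f z = 0) : UnitAt x f :=
  unitAt_of_regPt hf (regPt_of_ord_nonneg hX x f hf fun z hz h1 => (h z hz h1).ge)
    (regPt_of_ord_nonneg hX x f⁻¹ (inv_ne_zero hf) fun z hz h1 => by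
      rw [ord_inv z f hf, h z hz h1, neg_zero])

/-- Two cocycles which agree over `U`, where `ξ` is the only codimension one point outside of `U`, differ by
a power of the cocycle of a divisor supported outside of `U` and prime at `ξ`. -/
theorem unitAt_twist (hX : ∀ x : X, IsIntegrallyClosed (X.presheaf.stalk x)) {P Q I : X.Modules}
    {p q t : X → X.functionField} (hp : HasCoc P p) (hq : HasCoc Q q) (ht : HasCoc I t) {O : X.Opens}
    (htO : ∀ x ∈ O, UnitAt x (t x)) {ξ : X}
    (hξ : ∀ z : X, Order.coheight z = 1 → z ∉ O → z = ξ) (h1 : Scheme.ord (t ξ) ξ = 1)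
    {c : X.functionField} (hc : c ≠ 0) (hcO : ∀ x ∈ O, UnitAt x (c * p x / q x)) :
    ∃ m : ℤ, ∀ x : X, UnitAt x (c * p x / q x * (t x) ^ m) := by
  have hp0 := hp.1
  have hq0 := hq.1
  have ht0 := ht.1
  refine ⟨- Scheme.ord (c * p ξ / q ξ) ξ, fun x => ?_⟩
  set m : ℤ := - Scheme.ord (c * p ξ / q ξ) ξ with hm
  have hne : ∀ x, c * p x / q x * (t x) ^ m ≠ 0 := fun x =>
    mul_ne_zero (div_ne_zero (mul_ne_zero hc (hp0 x)) (hq0 x)) (zpow_ne_zero _ (ht0 x))
  refine unitAt_of_ord hX (hne x) fun z hz hz1 => ?_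
  obtain ⟨U, hxU, hU⟩ := hasCoc_loc hp x
  obtain ⟨V, hxV, hV⟩ := hasCoc_loc hq x
  obtain ⟨W, hxW, hW⟩ := hasCoc_loc ht x
  have u1 := hU z (hz.mem_open U.2 hxU)
  have u2 := hV z (hz.mem_open V.2 hxV)
  have u3 := hW z (hz.mem_open W.2 hxW)
  have u4 : UnitAt z ((p x / p z) / (q x / q z) * (t x / t z) ^ m) :=
    unitAt_mul (unitAt_div u1 u2) (unitAt_zpow u3 m)
  have e1 : c * p x / q x * (t x) ^ m =
      ((p x / p z) / (q x / q z) * (t x / t z) ^ m) * (c * p z / q z * (t z) ^ m) := by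
    have a1 := hp0 x
    have a2 := hp0 z
    have a3 := hq0 x
    have a4 := hq0 z
    have a5 := zpow_ne_zero m (ht0 z)
    rw [div_zpow]
    field_simp
  rw [e1, Scheme.ord_mul (unitAt_ne_zero u4) (hne z), ord_of_unitAt u4, zero_add]
  by_cases hzO : z ∈ O
  · exact ord_of_unitAt (unitAt_mul (hcO z hzO) (unitAt_zpow (htO z hzO) m))
  · obtain rfl := hξ z hz1 hzO
    rw [Scheme.ord_mul (div_ne_zero (mul_ne_zero hc (hp0 z)) (hq0 z)) (zpow_ne_zero _ (ht0 z)),
      ord_zpow z (t z) (ht0 z), h1, hm]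
    ring

end K484.CocTwist
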