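import Groth.Prelude.Def_BlowUp2
import Groth.Agent.Divis.CartierBasic
import Groth.Agent.Divis.CartierStalk
import Groth.Agent.Divis.BlowChart2
import Groth.Agent.BlowUp.K484.StalkAux

/-!
# Strict transforms of closed subschemes are closed subschemes
-/

set_option autoImplicit false
universe u

open CategoryTheory AlgebraicGeometry TopologicalSpace IsLocalRing BlowUp
open Groth.Agent.Divis.CartierBasic Groth.Agent.Divis.CartierStalk Groth.Agent.Divis.BlowChart2
open Groth.Agent.Divis.IdealComap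
open K484.StalkAux

namespace K484.StrictClosed

variable {X X' : Scheme.{u}}

theorem germ_appLE {X Y : Scheme.{u}} (f : Y ⟶ X) (U : X.Opens) (W : Y.Opens) (e : W ≤ f ⁻¹ᵁ U) (y : Y)
    (hy : y ∈ W) (hfy : f y ∈ U) (a : Γ(X, U)) :
    Y.presheaf.germ W y hy ((f.appLE U W e).hom a) = (f.stalkMap y).hom (X.presheaf.germ U (f y) hfy a) := by
  have h1 : f.appLE U W e ≫ Y.presheaf.germ W y hy = X.presheaf.germ U (f y) hfy ≫ f.stalkMap y := by
    rw [Scheme.Hom.germ_stalkMap, Scheme.Hom.appLE, Category.assoc]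
    congr 1
    exact Y.presheaf.germ_res (homOfLE e) y hy
  exact congr($(congrArg CommRingCat.Hom.hom h1) a)

/-- Membership in a chart, in terms of stalks. -/
theorem mem_chart_iff_stalk (b : X' ⟶ X) (J : X.IdealSheafData) (U : X.affineOpens)
    (hE : IsEffCartierIdeal (J.comap b)) {a : Γ(X, U.1)} (ha : a ∈ J.ideal U) (x' : X') :
    x' ∈ chart b J U a ↔ ∃ hx : b x' ∈ U.1,
      stalkIdeal (J.comap b) x' =
        Ideal.span {(b.stalkMap x').hom (X.presheaf.germ U.1 (b x') hx a)} := by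
  have key : ∀ (W : X'.affineOpens) (e : W.1 ≤ b ⁻¹ᵁ U.1) (hxW : x' ∈ W.1),
      X'.presheaf.germ W.1 x' hxW ((b.appLE U.1 W.1 e).hom a) =
        (b.stalkMap x').hom (X.presheaf.germ U.1 (b x') (e hxW) a) :=
    fun W e hxW => germ_appLE b U.1 W.1 e x' hxW (e hxW) a
  constructor
  · intro h
    obtain ⟨W, e, hxW, hW⟩ := (mem_chart_iff b J U a x').1 h
    refine ⟨e hxW, ?_⟩
    rw [stalkIdeal_eq _ W hxW, hW, Ideal.map_span, Set.image_singleton, ← key W e hxW]
  · rintro ⟨hx, h⟩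
    obtain ⟨W, hxW, hWU, f, hf, hfW⟩ := exists_generator_le hE (b ⁻¹ᵁ U.1) hx
    have h1 : (b.appLE U.1 W.1 hWU).hom a ∈ Ideal.span {f} := by
      rw [← hfW, ideal_comap J b U W hWU]
      exact Ideal.mem_map_of_mem _ ha
    obtain ⟨g, hg⟩ := Ideal.mem_span_singleton.1 h1
    have h2 : IsUnit (X'.presheaf.germ W.1 x' hxW g) := by
      rw [stalkIdeal_eq _ W hxW, hfW, Ideal.map_span, Set.image_singleton, ← key W hWU hxW, hg,
        map_mul] at h
      have hf' : X'.presheaf.germ W.1 x' hxW f ∈ nonZeroDivisors (X'.presheaf.stalk x') :=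
        Groth.Agent.Divis.BlowChart.germ_mem_nonZeroDivisors W.2 hf x' hxW
      have h3 : X'.presheaf.germ W.1 x' hxW f ∈ Ideal.span
          {X'.presheaf.germ W.1 x' hxW f * X'.presheaf.germ W.1 x' hxW g} := by
        rw [← h]; exact Ideal.mem_span_singleton_self _
      obtain ⟨c, hc⟩ := Ideal.mem_span_singleton.1 h3
      refine IsUnit.of_mul_eq_one c ?_
      apply (mul_cancel_left_mem_nonZeroDivisors hf').1
      rw [← mul_assoc, ← hc, mul_one]
    let W' : X'.affineOpens := X'.affineBasicOpen g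
    have hW' : W'.1 ≤ W.1 := X'.basicOpen_le g
    refine (mem_chart_iff b J U a x').2 ⟨W', hW'.trans hWU, ?_, ?_⟩
    · exact (Scheme.mem_basicOpen X' g x' hxW).2 h2
    · have h4 := (J.comap b).map_ideal_basicOpen W g
      change _ = (J.comap b).ideal W' at h4
      rw [← h4, hfW, Ideal.map_span, Set.image_singleton]
      have h5 : (b.appLE U.1 W'.1 (hW'.trans hWU)).hom a =
          (X'.presheaf.map (homOfLE hW').op).hom ((b.appLE U.1 W.1 hWU).hom a) := by
        have := Scheme.Hom.appLE_map b hWU (homOfLE hW').op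
        exact (congr($(congrArg CommRingCat.Hom.hom this) a)).symm
      rw [h5, hg, map_mul]
      have hu : IsUnit ((X'.presheaf.map (homOfLE hW').op).hom g) :=
        RingedSpace.isUnit_res_basicOpen _ g
      exact (Ideal.span_singleton_mul_right_unit hu _).symm

/-- Pulling back charts to the strict transform. -/
theorem preimage_chart {Z Z' : Scheme.{u}} (b : X' ⟶ X) (J : X.IdealSheafData)
    (hE : IsEffCartierIdeal (J.comap b)) (b' : Z' ⟶ Z) (i : Z ⟶ X) (k : Z' ⟶ X')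
    (hk : k ≫ b = b' ≫ i) (hE' : IsEffCartierIdeal ((J.comap i).comap b'))
    (U : X.affineOpens) (U' : Z.affineOpens) (hU' : U'.1 = i ⁻¹ᵁ U.1)
    {a : Γ(X, U.1)} (ha : a ∈ J.ideal U) :
    k ⁻¹ᵁ (chart b J U a) = chart b' (J.comap i) U' ((i.appLE U.1 U'.1 hU'.le).hom a) := by
  have ha' : (i.appLE U.1 U'.1 hU'.le).hom a ∈ (J.comap i).ideal U' := by
    rw [ideal_comap J i U U' hU'.le]
    exact Ideal.mem_map_of_mem _ ha
  have hcomm : (J.comap i).comap b' = (J.comap b).comap k := by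
    rw [← Scheme.IdealSheafData.comap_comp, ← Scheme.IdealSheafData.comap_comp, hk]
  have key : ∀ (y : Z') (hy1 : b (k y) ∈ U.1) (hy2 : b' y ∈ U'.1),
      (b'.stalkMap y).hom (Z.presheaf.germ U'.1 (b' y) hy2 ((i.appLE U.1 U'.1 hU'.le).hom a)) =
        (k.stalkMap y).hom ((b.stalkMap (k y)).hom (X.presheaf.germ U.1 (b (k y)) hy1 a)) := by
    intro y hy1 hy2
    have hW1 : k ⁻¹ᵁ (b ⁻¹ᵁ U.1) ≤ b' ⁻¹ᵁ U'.1 := by
      rw [hU', ← Scheme.Hom.comp_preimage, ← Scheme.Hom.comp_preimage, hk]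
    rw [← germ_appLE b' U'.1 (k ⁻¹ᵁ (b ⁻¹ᵁ U.1)) hW1 y hy1 hy2,
      ← germ_appLE b U.1 (b ⁻¹ᵁ U.1) le_rfl (k y) hy1 hy1,
      ← germ_appLE k (b ⁻¹ᵁ U.1) (k ⁻¹ᵁ (b ⁻¹ᵁ U.1)) le_rfl y hy1 hy1]
    congr 1
    have h2 : i.appLE U.1 U'.1 hU'.le ≫ b'.appLE U'.1 (k ⁻¹ᵁ (b ⁻¹ᵁ U.1)) hW1 =
        b.appLE U.1 (b ⁻¹ᵁ U.1) le_rfl ≫ k.appLE (b ⁻¹ᵁ U.1) (k ⁻¹ᵁ (b ⁻¹ᵁ U.1)) le_rfl := by
      rw [Scheme.Hom.appLE_comp_appLE, Scheme.Hom.appLE_comp_appLE]
      simp_rw [hk]
    exact congr($(congrArg CommRingCat.Hom.hom h2) a)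
  ext y
  change k y ∈ chart b J U a ↔ y ∈ chart b' (J.comap i) U' _
  rw [mem_chart_iff_stalk b J U hE ha, mem_chart_iff_stalk b' (J.comap i) U' hE' ha']
  have hmem : b (k y) ∈ U.1 ↔ b' y ∈ U'.1 := by
    have h1 : b (k y) = i (b' y) := by
      rw [← Scheme.Hom.comp_apply, hk, Scheme.Hom.comp_apply]
    rw [hU', h1]
    rfl
  constructor
  · rintro ⟨hx, h⟩
    refine ⟨hmem.1 hx, ?_⟩
    rw [key y hx (hmem.1 hx), hcomm, stalkIdeal_comap _ k, h, Ideal.map_span, Set.image_singleton]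
  · rintro ⟨hx, h⟩
    refine ⟨hmem.2 hx, ?_⟩
    rw [key y (hmem.2 hx) hx, hcomm, stalkIdeal_comap _ k] at h
    obtain ⟨t, ht, hE1⟩ := exists_stalkIdeal_eq_span hE (k y)
    obtain ⟨t', ht', hE1'⟩ := exists_stalkIdeal_eq_span hE' y
    rw [hcomm, stalkIdeal_comap _ k, hE1, Ideal.map_span, Set.image_singleton] at hE1'
    rw [hE1] at h ⊢
    rw [Ideal.map_span, Set.image_singleton] at h
    set α := (b.stalkMap (k y)).hom (X.presheaf.germ U.1 (b (k y)) (hmem.2 hx) a)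
    have h1 : α ∈ Ideal.span {t} := by
      rw [← hE1, stalkIdeal_comap _ b]
      apply Ideal.mem_map_of_mem
      rw [stalkIdeal_eq _ U (hmem.2 hx)]
      exact Ideal.mem_map_of_mem _ ha
    obtain ⟨g, hg⟩ := Ideal.mem_span_singleton.1 h1
    have ht2 : (k.stalkMap y).hom t ∈ nonZeroDivisors (Z'.presheaf.stalk y) := by
      have h3 : t' ∈ Ideal.span {(k.stalkMap y).hom t} := by
        rw [hE1']; exact Ideal.mem_span_singleton_self _
      obtain ⟨c, hc⟩ := Ideal.mem_span_singleton.1 h3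
      rw [hc] at ht'
      exact (mul_mem_nonZeroDivisors.1 ht').1
    have hu : IsUnit ((k.stalkMap y).hom g) := by
      have h3 : (k.stalkMap y).hom t ∈ Ideal.span {(k.stalkMap y).hom α} := by
        rw [← h]; exact Ideal.mem_span_singleton_self _
      obtain ⟨c, hc⟩ := Ideal.mem_span_singleton.1 h3
      refine IsUnit.of_mul_eq_one c ?_
      apply (mul_cancel_left_mem_nonZeroDivisors ht2).1
      rw [← mul_assoc, ← map_mul, ← hg, ← hc, mul_one]
    have hu' : IsUnit g := isUnit_of_map_unit (k.stalkMap y).hom g hu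
    rw [hg]
    exact (Ideal.span_singleton_mul_right_unit hu' _).symm

/-- The strict transform of a closed subscheme is a closed subscheme. -/
theorem isClosedImmersion {Z Z' : Scheme.{u}} (b : X' ⟶ X) (J : X.IdealSheafData)
    (hb : IsBlowUp b J) (i : Z ⟶ X) [IsClosedImmersion i] (b' : Z' ⟶ Z)
    (hb' : IsBlowUp b' (J.comap i)) (k : Z' ⟶ X') (hk : k ≫ b = b' ≫ i) :
    IsClosedImmersion k := by
  let ι := Σ (U : X.affineOpens), {a : Γ(X, U.1) // a ∈ J.ideal U}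
  let C : ι → X'.affineOpens := fun c => ⟨chart b J c.1 c.2.1, isAffineOpen_chart b J c.1 hb c.2.2⟩
  have hC : ⨆ c, (C c).1 = ⊤ := by
    rw [eq_top_iff]
    rintro x' -
    obtain ⟨U, hU⟩ := exists_affine (b x')
    obtain ⟨a, ha, h⟩ := exists_mem_chart_of_span b J U hb.1 (Ideal.span_eq (J.ideal U)).symm x' hU
    exact Opens.mem_iSup.2 ⟨⟨U, a, ha⟩, h⟩
  refine HasAffineProperty.of_iSup_eq_top (P := @IsClosedImmersion)
    (Q := fun X _ f => IsAffine X ∧ Function.Surjective (f.appTop)) C hC ?_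
  rintro ⟨U, a, ha⟩
  let U' : Z.affineOpens := ⟨i ⁻¹ᵁ U.1, U.2.preimage i⟩
  have hpre := preimage_chart b J hb.1 b' i k hk hb'.1 U U' rfl ha
  have ha' : (i.appLE U.1 U'.1 le_rfl).hom a ∈ (J.comap i).ideal U' := by
    rw [ideal_comap J i U U' le_rfl]
    exact Ideal.mem_map_of_mem _ ha
  have haff : IsAffineOpen (k ⁻¹ᵁ (chart b J U a)) := by
    rw [hpre]; exact isAffineOpen_chart b' (J.comap i) U' hb' ha'
  refine ⟨haff, ?_⟩
  have hsurj : Function.Surjective (i.appLE U.1 U'.1 le_rfl).hom := by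
    rw [Scheme.Hom.appLE_eq_app]
    exact Scheme.Hom.app_surjective i U.1 U.2
  have hpow : ∀ (n : ℕ) (m : Γ(Z, U'.1)), m ∈ ((J.comap i).ideal U') ^ n →
      ∃ m₀ ∈ (J.ideal U) ^ n, (i.appLE U.1 U'.1 le_rfl).hom m₀ = m := by
    intro n m hm
    rw [ideal_comap J i U U' le_rfl, ← Ideal.map_pow] at hm
    obtain ⟨m₀, h1, h2⟩ := (Ideal.mem_map_iff_of_surjective _ hsurj).1 hm
    exact ⟨m₀, h1, h2⟩
  -- surjectivity on sections over the chart
  have hle' : k ⁻¹ᵁ chart b J U a ≤ b' ⁻¹ᵁ U'.1 := by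
    rw [hpre]; exact chart_le _ _ _ _
  have hcomm : ∀ m : Γ(X, U.1), (k.app (chart b J U a)).hom
        ((b.appLE U.1 (chart b J U a) (chart_le b J U a)).hom m) =
      (b'.appLE U'.1 (k ⁻¹ᵁ chart b J U a) hle').hom ((i.appLE U.1 U'.1 le_rfl).hom m) := by
    intro m
    have h1 : b.appLE U.1 (chart b J U a) (chart_le b J U a) ≫ k.app (chart b J U a) =
        i.appLE U.1 U'.1 le_rfl ≫ b'.appLE U'.1 (k ⁻¹ᵁ chart b J U a) hle' := by
      rw [Scheme.Hom.appLE_comp_appLE, ← Scheme.Hom.appLE_eq_app, Scheme.Hom.appLE_comp_appLE]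
      congr 1
    exact congr($(congrArg CommRingCat.Hom.hom h1) m)
  have hfin : Function.Surjective (k.app (chart b J U a)).hom := by
    intro g
    have gen : ∀ (V : Z'.Opens)
        (hV : V = chart b' (J.comap i) U' ((i.appLE U.1 U'.1 le_rfl).hom a)) (hle : V ≤ b' ⁻¹ᵁ U'.1),
        (b'.appLE U'.1 V hle).hom ((i.appLE U.1 U'.1 le_rfl).hom a) ∈ nonZeroDivisors Γ(Z', V) ∧
        ∀ g : Γ(Z', V), ∃ (n : ℕ) (m : Γ(Z, U'.1)), m ∈ ((J.comap i).ideal U') ^ n ∧
          (b'.appLE U'.1 V hle).hom ((i.appLE U.1 U'.1 le_rfl).hom a) ^ n * g =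
            (b'.appLE U'.1 V hle).hom m := by
      rintro _ rfl hle
      exact ⟨appLE_chart_mem_nonZeroDivisors b' (J.comap i) U' hb' ha',
        exists_pow_mul_eq_appLE b' (J.comap i) U' hb' ha'⟩
    obtain ⟨hnzd, hfrac⟩ := gen _ hpre hle'
    replace hfrac := hfrac g
    obtain ⟨n, m, hm, hg⟩ := hfrac
    obtain ⟨m₀, hm₀, rfl⟩ := hpow n m hm
    obtain ⟨g₀, hg₀⟩ := exists_eq_pow_mul_appLE b J U hb ha n hm₀
    refine ⟨g₀, ?_⟩
    have h1 := congrArg (k.app (chart b J U a)).hom hg₀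
    rw [map_mul, map_pow, hcomm, hcomm, ← hg] at h1
    exact ((mul_cancel_left_mem_nonZeroDivisors (pow_mem hnzd n)).1 h1).symm
  intro s
  have h1 : Function.Surjective (k ∣_ (chart b J U a)).appTop.hom := by
    rw [Scheme.Hom.appTop, morphismRestrict_app]
    have h2 : (chart b J U a).ι ''ᵁ ⊤ = chart b J U a := by simp
    have h3 : Function.Surjective (k.app ((chart b J U a).ι ''ᵁ ⊤)).hom := by rw [h2]; exact hfin
    refine Function.Surjective.comp (g := (Z'.presheaf.map (eqToHom _).op).hom) ?_ h3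
    exact (ConcreteCategory.bijective_of_isIso (Z'.presheaf.map (eqToHom _).op)).2
  exact h1 s

end K484.StrictClosed
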