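import Groth.Agent.SurfBl.K805.Leray
import Groth.Agent.Surf.K457.BirNormal
import Groth.Agent.PicF.K245.DescUnit
import Groth.Agent.Surf.K455.BlowDim
import Groth.Agent.Surf.K455.ResOne
import Groth.Agent.CurvesC.RegNormal
import Groth.Agent.Lefpen.H703.ClosedSmooth
import Groth.Agent.VarietyA.RegSmoothSch
import Groth.Agent.VBPn.K700.HDim
import Groth.Agent.S2348
import Groth.Agent.S0558

/-!
# Cohomology of pulled back invertible modules on the blow-up of a closed point of a smooth surface

* `leray`: `H^q(X, σ^* L) ≃ H^q(Y, L)`.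
-/

set_option autoImplicit false
set_option linter.unusedSectionVars false
universe u

open CategoryTheory CategoryTheory.Limits AlgebraicGeometry Opposite TopologicalSpace

namespace K484.BlowLeray

open Groth.Agent Groth.Agent.Dix.PointIdeal

section Gen

variable {Y X : Scheme.{u}} (y : Y) (hy : IsClosed ({y} : Set Y)) (σ : X ⟶ Y)
  (hσ : BlowUp.IsBlowUp σ (pt y hy))

theorem isNormalScheme_of_smooth {k : Type u} [Field k] (q : Y ⟶ Spec (CommRingCat.of k)) [Smooth q] :
    Pi1.IsNormalScheme Y := fun x =>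
  have : IsRegularLocalRing (Y.presheaf.stalk x) :=
    VarietyA.RegSmoothSch.isRegularLocalRing_stalk_of_mem_smoothLocus q x
      (by rw [q.smoothLocus_eq_top]; trivial)
  ⟨S0558.result _, CurvesC.RegNormal.isIntegrallyClosed _⟩

/-- The pull-back of an invertible module to the exceptional divisor is trivial. -/
theorem nonempty_iso_exc {L : Y.Modules} (hL : PicF.IsInvertible L) :
    Nonempty ((Scheme.Modules.pullback (BlowUp.exceptional σ (pt y hy)).subschemeι).obj
      ((Scheme.Modules.pullback σ).obj L) ≅ Coh.structureModule _) := by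
  let E := BlowUp.exceptional σ (pt y hy)
  let T := (pt y hy).subscheme
  have hT : ∀ t : T, (pt y hy).subschemeι t = y := fun t => by
    have h1 : (pt y hy).subschemeι t ∈ (pt y hy).support := by
      have := Scheme.IdealSheafData.range_subschemeι (pt y hy)
      exact this.le ⟨t, rfl⟩
    exact (mem_support_pt y hy _).1 h1
  have hsub : Subsingleton T := ⟨fun a b => (pt y hy).subschemeι.isClosedEmbedding.injective ((hT a).trans (hT b).symm)⟩
  have hne : Nonempty T := by
    have h1 : y ∈ Set.range (pt y hy).subschemeι := by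
      rw [Scheme.IdealSheafData.range_subschemeι]
      exact (mem_support_pt y hy _).2 rfl
    obtain ⟨t, -⟩ := h1
    exact ⟨t⟩
  have hker : (pt y hy).subschemeι.ker ≤ (E.subschemeι ≫ σ).ker := by
    rw [Scheme.IdealSheafData.ker_subschemeι]
    exact (Scheme.IdealSheafData.le_map_iff_comap_le (I := E) (f := σ)).2 le_rfl
  let g : E.subscheme ⟶ T := IsClosedImmersion.lift (pt y hy).subschemeι (E.subschemeι ≫ σ) hker
  have hg : E.subschemeι ≫ σ = g ≫ (pt y hy).subschemeι := (IsClosedImmersion.lift_fac _ _ _).symm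
  obtain ⟨e⟩ := K455.ExcInt.pull_trivial (E.subschemeι ≫ σ) g (pt y hy).subschemeι hg L hL
  exact ⟨(Scheme.Modules.pullbackComp E.subschemeι σ).app L ≪≫ e⟩

end Gen

section Smooth

variable {k : Type u} [Field k] [PerfectField k] {Y X : Scheme.{u}} [Y.Over (Spec (CommRingCat.of k))]
  [X.Over (Spec (CommRingCat.of k))] [SmoothOfRelativeDimension 2 (Y ↘ Spec (CommRingCat.of k))]
  (y : Y) (hy : IsClosed ({y} : Set Y)) (σ : X ⟶ Y) (hσ : BlowUp.IsBlowUp σ (pt y hy))

include k in
theorem isLocallyNoetherian : IsLocallyNoetherian Y := by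
  have : Smooth (Y ↘ Spec (CommRingCat.of k)) := SmoothOfRelativeDimension.smooth 2 _
  exact LocallyOfFiniteType.isLocallyNoetherian (Y ↘ Spec (CommRingCat.of k))

include k hy in
theorem reg : IsRegularLocalRing (Y.presheaf.stalk y) ∧ ringKrullDim (Y.presheaf.stalk y) = 2 := by
  have : Smooth (Y ↘ Spec (CommRingCat.of k)) := SmoothOfRelativeDimension.smooth 2 _
  exact (Lefpen.H703.ClosedSmooth.smoothOfRelativeDimension_iff (Y ↘ Spec (CommRingCat.of k)) 2).1 inferInstance y hy

include k in
theorem pt_ne_bot : pt y hy ≠ ⊥ := by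
  intro h
  have h1 := (reg (k := k) y hy).2
  have h2 : ((pt y hy).support : Set Y) = Set.univ := by rw [h]; rfl
  rw [Scheme.IdealSheafData.coe_support_vanishingIdeal] at h2
  have h2 : ({y} : Set Y) = Set.univ := h2
  have hsub : Subsingleton Y := ⟨fun a b => by
    have ha : a ∈ ({y} : Set Y) := h2 ▸ Set.mem_univ a
    have hb : b ∈ ({y} : Set Y) := h2 ▸ Set.mem_univ b
    exact ha.trans hb.symm⟩
  have h3 : ringKrullDim (Y.presheaf.stalk y) ≤ topologicalKrullDim Y := by
    have : IsLocallyNoetherian Y := isLocallyNoetherian (k := k)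
    rw [Dix.ContractSurf.topologicalKrullDim_eq Y]
    exact le_iSup (fun z : Y => ringKrullDim (Y.presheaf.stalk z)) y
  have h4 : topologicalKrullDim Y ≤ 0 := by
    have : DiscreteTopology Y := Subsingleton.discreteTopology
    exact topologicalKrullDim_zero_of_discreteTopology Y
  rw [h1] at h3
  exact absurd (h3.trans h4) (by norm_num)

variable [IsIntegral Y]

include k hσ in
theorem isIntegral : IsIntegral X := (S2348.result (pt y hy) (pt_ne_bot (k := k) y hy) σ hσ).choose

include k in
theorem compl_nonempty : ((K455.BlowDim.compl y hy : Y.Opens) : Set Y).Nonempty := by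
  refine ⟨genericPoint Y, fun h => ?_⟩
  have h : genericPoint Y = y := h
  have h2 : ringKrullDim (Y.presheaf.stalk (genericPoint Y)) = 0 := ringKrullDim_eq_zero_of_field Y.functionField
  have h1 := (reg (k := k) y hy).2
  rw [← h, h2] at h1
  exact absurd h1 (by norm_num)

include k hσ in
theorem isIso_app (V : Y.Opens) : IsIso (σ.app V) := by
  have : Smooth (Y ↘ Spec (CommRingCat.of k)) := SmoothOfRelativeDimension.smooth 2 _
  have := isLocallyNoetherian (k := k) (Y := Y)
  have := isIntegral (k := k) y hy σ hσ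
  have := K455.BlowDim.isProper_blowUp σ y hy hσ
  have := K455.BlowDim.isIso_restrict σ y hy hσ
  exact K457.BirNormal.isIso_app (isNormalScheme_of_smooth (Y ↘ Spec (CommRingCat.of k))) σ
    (K455.BlowDim.compl y hy) (compl_nonempty (k := k) y hy) V

variable (hσk : σ ≫ (Y ↘ Spec (CommRingCat.of k)) = X ↘ Spec (CommRingCat.of k))

include hσ hσk in
/-- **Cohomology of pulled back invertible modules.** -/
theorem leray {L : Y.Modules} (hL : PicF.IsInvertible L) (q : ℕ) :
    Nonempty (Coh.HH X ((Scheme.Modules.pullback σ).obj L) q ≃ₗ[k] Coh.HH Y L q) := by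
  have hS := K805.Main.setup_smooth (Y ↘ Spec (CommRingCat.of k)) ⟨{y}, hy⟩ (Set.finite_singleton y)
    (fun s hs => by
      have : s = y := hs
      rw [this]; exact hy) (b := σ) hσ
  have hL' := Fdesc.LocGen.isInvertible_pullback σ hL
  have hflf : FlatMod.IsFinLocFree ((Scheme.Modules.pullback σ).obj L) :=
    K805.Leray.flf_of_rank (Ega2.QCohLocal.isFinLocFreeOfRank_one_iff.mpr hL')
  have hflf' : FlatMod.IsFinLocFree L := K805.Leray.flf_of_rank (Ega2.QCohLocal.isFinLocFreeOfRank_one_iff.mpr hL)
  have hq := Ega2.QCohLocal.isQCoh_of_isFinLocFree hflf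
  obtain ⟨e⟩ := nonempty_iso_exc y hy σ hL
  have hgg : Curv2.IsGloballyGenerated ((Scheme.Modules.pullback
      (BlowUp.exceptional σ (pt y hy)).subschemeι).obj ((Scheme.Modules.pullback σ).obj L)) := by
    exact K805.CounitIso.isGloballyGenerated_of_iso (r := 1) (e ≪≫ Ega2.QCohLocal.freeModOneIso _)
  obtain ⟨φ⟩ := K805.Leray.nonempty_equiv hS hq (fun n hn s => hS.HU_of_gg hflf hgg n hn s) k hσk q
  have := K245.DescUnit.isIso_unit σ (fun U => isIso_app (k := k) y hy σ hσ U) hflf'
  exact ⟨φ.trans (Fga.PicMon.hmapEquiv k Y (asIso ((Scheme.Modules.pullbackPushforwardAdjunction σ).unit.app L)).symm q)⟩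

end Smooth

end K484.BlowLeray
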