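import Groth.Agent.S0843
import Groth.Agent.S0844
import Groth.Agent.S0845
import Groth.Agent.CAlgX.K581.HomDim
import Groth.Prelude.Def_FGA

/-!
# Dimensions of the cohomology of `O(m)` on the projective line and on the projective plane
-/

set_option autoImplicit false
universe u

open CategoryTheory AlgebraicGeometry

namespace K484.ProjNum

open Groth.Agent

variable (F : Type u) [Field F] (N : ℕ)

theorem finrank_eq_of_nonempty {V W : Type*} [AddCommGroup V] [Module F V] [AddCommGroup W]
    [Module F W] (e : Nonempty (V ≃ₗ[F] W)) : Module.finrank F V = Module.finrank F W :=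
  e.elim fun e => e.finrank_eq

theorem choose_toNat_of_lt (hN : 1 ≤ N) (m : ℤ) (hm : m < N) : Nat.choose m.toNat N = 0 := by
  apply Nat.choose_eq_zero_of_lt
  omega

/-- `dim H^0(P^N, O(m)) = C(m + N, N)` for `N ≥ 1`. -/
theorem h_zero (hN : 1 ≤ N) (m : ℤ) :
    Module.finrank F (Coh.HH (CohB1.ProjSpace N F) (Twist.twistProjSpace N F m) 0) = Nat.choose (m + N).toNat N := by
  by_cases hm : 0 ≤ m
  · obtain ⟨d, rfl⟩ := Int.eq_ofNat_of_zero_le hm
    rw [finrank_eq_of_nonempty F (S0843.result F N d), K581.HomDim.finrank_homogeneous F N d]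
    congr 1
  · rw [choose_toNat_of_lt N hN _ (by omega)]
    have := S0844.result F N m 0 (by omega) (by omega)
    exact Module.finrank_zero_of_subsingleton

/-- `dim H^N(P^N, O(m)) = C(-m-1, N)` for `N ≥ 1`. -/
theorem h_top (hN : 1 ≤ N) (m : ℤ) :
    Module.finrank F (Coh.HH (CohB1.ProjSpace N F) (Twist.twistProjSpace N F m) N) = Nat.choose (-m - 1).toNat N := by
  by_cases hm : m ≤ -((N : ℤ) + 1)
  · obtain ⟨d, hd⟩ := Int.eq_ofNat_of_zero_le (show 0 ≤ -((N : ℤ) + 1) - m by omega)
    obtain rfl : m = -((N : ℤ) + 1 + d) := by omega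
    rw [finrank_eq_of_nonempty F (S0845.result F N d), K581.HomDim.finrank_homogeneous F N d]
    congr 1
    omega
  · rw [choose_toNat_of_lt N hN _ (by omega)]
    have := S0844.result F N m N (by omega) (by omega)
    exact Module.finrank_zero_of_subsingleton

theorem sub_zero' (m : ℤ) (hm : m < 0) (hN : 1 ≤ N) :
    Subsingleton (Coh.HH (CohB1.ProjSpace N F) (Twist.twistProjSpace N F m) 0) :=
  S0844.result F N m 0 (by omega) (by omega)

theorem sub_mid (m : ℤ) (q : ℕ) (h0 : q ≠ 0) (h1 : q ≠ N) :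
    Subsingleton (Coh.HH (CohB1.ProjSpace N F) (Twist.twistProjSpace N F m) q) :=
  S0844.result F N m q (by omega) (by omega)

theorem sub_top (m : ℤ) (hm : -(N : ℤ) ≤ m) (hN : 1 ≤ N) :
    Subsingleton (Coh.HH (CohB1.ProjSpace N F) (Twist.twistProjSpace N F m) N) :=
  S0844.result F N m N (by omega) (by omega)

theorem euler_line (m : ℤ) :
    FGA.eulerCharLE F (CohB1.ProjSpace 1 F) (Twist.twistProjSpace 1 F m) 2 = m + 1 := by
  unfold FGA.eulerCharLE
  rw [Finset.sum_range_succ, Finset.sum_range_succ, Finset.sum_range_one]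
  have h2 : Module.finrank F (Coh.HH (CohB1.ProjSpace 1 F) (Twist.twistProjSpace 1 F m) 2) = 0 := by
    have := sub_mid F 1 m 2 (by omega) (by omega)
    exact Module.finrank_zero_of_subsingleton
  rw [h2, h_zero F 1 le_rfl, h_top F 1 le_rfl, Nat.choose_one_right, Nat.choose_one_right]
  simp only [pow_zero, pow_one, one_mul, Nat.cast_one, Nat.cast_zero, mul_zero, add_zero]
  omega

end K484.ProjNum
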