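import Groth.Agent.VBPn.K700.HDim
import Groth.Agent.Surf.K455.ExcInt
import Groth.Agent.Surf.K455.ResOne
import Groth.Agent.BlowUp.K484.ProjNum

/-!
# The sequence of an effective Cartier divisor, twisted by a class

* `exists_ses`: `0 ⟶ M ⊗ I ⟶ M ⟶ i_* i^* M ⟶ 0` for a closed immersion `i` with kernel `I`.
* `Step`: the consequences for cohomology when `i^* M` has the cohomology of `O(m)` on the projective line.
-/

set_option autoImplicit false
universe u

open CategoryTheory CategoryTheory.Limits AlgebraicGeometry Opposite TopologicalSpace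

namespace K484.CutSeq

open Groth.Agent Groth.Agent.VarietyA.EulerLES Groth.Agent.VarietyA.HHDelta Groth.Agent.Grpsch.PicGrp
open Groth.Agent.Ega2 Groth.Agent.Fga.HShift Groth.Agent.Lefpen.H21.PicTwist
open K700.PicVan K700.HDim

variable {X C : Scheme.{u}}

/-- `0 ⟶ M ⊗ I ⟶ M ⟶ i_* i^* M ⟶ 0`. -/
theorem exists_ses (i : C ⟶ X) [IsClosedImmersion i] (I : X.IdealSheafData) (hI : i.ker = I) {M : X.Modules}
    (hM : PicF.IsInvertible M) :
    ∃ S : ShortComplex X.Modules, S.ShortExact ∧ Nonempty (S.X₁ ≅ CohB1.tensorMod M (ClSub.idealMod I)) ∧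
      Nonempty (S.X₂ ≅ M) ∧
      Nonempty (S.X₃ ≅ (Scheme.Modules.pushforward i).obj ((Scheme.Modules.pullback i).obj M)) := by
  refine ⟨_, Fga.TwistCoh.shortExact_tensorBi hM _ (Sga2.LefPow644.shortExact_idealMod I), ⟨Iso.refl _⟩,
    ⟨Tens.runit M⟩, ?_⟩
  obtain ⟨e⟩ := K455.CutKer.nonempty_push_iso_quotMod i I hI
  exact ⟨Tens.mapTIso (Iso.refl M) e.symm ≪≫ VarietyB.ProjForm.projIsoUnit i (Fga.MultInt.hasBases hM)⟩

section LES

variable (k : Type u) [Field k] [X.Over (Spec (CommRingCat.of k))]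

theorem fr_eq_succ {S : ShortComplex X.Modules} (hS : S.ShortExact) (q : ℕ)
    (h : Subsingleton (Coh.HH X S.X₃ q)) (h' : Subsingleton (Coh.HH X S.X₃ (q + 1))) :
    fr k S.X₁ (q + 1) = fr k S.X₂ (q + 1) := by
  refine (LinearEquiv.ofBijective (mapA k S.f (q + 1)) ⟨?_, ?_⟩).finrank_eq
  · rw [injective_iff_map_eq_zero]
    intro x hx
    obtain ⟨y, hy⟩ := (exactA₁ k S hS q (q + 1) rfl x).1 hx
    rw [← hy, h.elim y 0, map_zero]
  · intro x
    exact (exactA₂ k S hS (q + 1) x).1 (h'.elim _ _)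

theorem fr_eq_zero {S : ShortComplex X.Modules} (hS : S.ShortExact) (h : Subsingleton (Coh.HH X S.X₃ 0)) :
    fr k S.X₁ 0 = fr k S.X₂ 0 := by
  refine (LinearEquiv.ofBijective (mapA k S.f 0) ⟨injectiveA₀ k S hS, ?_⟩).finrank_eq
  intro x
  exact (exactA₂ k S hS 0 x).1 (h.elim _ _)

end LES

section Step

variable (k : Type u) [Field k] [X.Over (Spec (CommRingCat.of k))] [C.Over (Spec (CommRingCat.of k))]

/-- What is used of the restriction of a module to a divisor: its cohomology is that of `O(m)` on `P¹`. -/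
structure IsLine (L : C.Modules) (m : ℤ) : Prop where
  zero : m ≤ -1 → Subsingleton (Coh.HH C L 0)
  one : -1 ≤ m → Subsingleton (Coh.HH C L 1)
  two : ∀ q, 2 ≤ q → Subsingleton (Coh.HH C L q)
  euler : FGA.eulerCharLE k C L 2 = m + 1

/-- The passage from `c` to `c · [I]`. -/
structure Step (c c' : Pic X) (m : ℤ) : Prop where
  euler : ∀ (M A : X.Modules) (hM : PicF.IsInvertible M) (hA : PicF.IsInvertible A), mk M hM = c → mk A hA = c' →
    FGA.eulerCharLE k X M 2 = FGA.eulerCharLE k X A 2 + (m + 1)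
  top : -1 ≤ m → dm k (Coh.structureModule X) c' 2 = dm k (Coh.structureModule X) c 2
  bot : m ≤ -1 → dm k (Coh.structureModule X) c' 0 = dm k (Coh.structureModule X) c 0
  van_one : -1 ≤ m → Van (Coh.structureModule X) c' 1 → Van (Coh.structureModule X) c 1
  van_one' : m ≤ -1 → Van (Coh.structureModule X) c 1 → Van (Coh.structureModule X) c' 1
  van_zero : Van (Coh.structureModule X) c 0 → Van (Coh.structureModule X) c' 0
  van_zero' : m ≤ -1 → Van (Coh.structureModule X) c' 0 → Van (Coh.structureModule X) c 0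
  van_two : ∀ q, 2 ≤ q → Van (Coh.structureModule X) c' q → Van (Coh.structureModule X) c q

variable {k}

theorem IsLine.push {L : C.Modules} {m : ℤ} (h : IsLine k L m) (i : C ⟶ X) [IsClosedImmersion i]
    (hi : i ≫ (X ↘ Spec (CommRingCat.of k)) = C ↘ Spec (CommRingCat.of k)) {G : X.Modules}
    (e : G ≅ (Scheme.Modules.pushforward i).obj L) :
    (m ≤ -1 → Subsingleton (Coh.HH X G 0)) ∧ (-1 ≤ m → Subsingleton (Coh.HH X G 1)) ∧
      ∀ q, 2 ≤ q → Subsingleton (Coh.HH X G q) := by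
  have key : ∀ q, Subsingleton (Coh.HH C L q) → Subsingleton (Coh.HH X G q) := fun q hq =>
    subsingleton_of_iso e.symm q ((CurvesC.CurveNum.hhPushₗ k i hi L q).symm.toEquiv.subsingleton)
  exact ⟨fun hm => key 0 (h.zero hm), fun hm => key 1 (h.one hm), fun q hq => key q (h.two q hq)⟩

theorem step (hdim : topologicalKrullDim X ≤ (2 : ℕ)) [IsProper (X ↘ Spec (CommRingCat.of k))] (i : C ⟶ X)
    [IsClosedImmersion i] (hi : i ≫ (X ↘ Spec (CommRingCat.of k)) = C ↘ Spec (CommRingCat.of k))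
    (I : X.IdealSheafData) (hI : i.ker = I) (hE : BlowUp.IsEffCartierIdeal I) {M : X.Modules}
    (hM : PicF.IsInvertible M) {m : ℤ} (h : IsLine k ((Scheme.Modules.pullback i).obj M) m) :
    Step k (mk M hM) (mk M hM * mk (ClSub.idealMod I) (Dix.IdealModCartier.isInvertible_idealMod hE)) m := by
  obtain ⟨S, hS, ⟨e1⟩, ⟨e2⟩, ⟨e3⟩⟩ := exists_ses i I hI hM
  obtain ⟨p0, p1, p2⟩ := h.push i hi e3
  have hA : PicF.IsInvertible (CohB1.tensorMod M (ClSub.idealMod I)) :=
    Fdesc.LocGen.isInvertible_tensorMod hM (Dix.IdealModCartier.isInvertible_idealMod hE)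
  have hc' : mk M hM * mk (ClSub.idealMod I) (Dix.IdealModCartier.isInvertible_idealMod hE) = mk _ hA := mk_mul_mk _ _
  rw [hc']
  have v1 : ∀ q, Van (Coh.structureModule X) (mk _ hA) q ↔ Subsingleton (Coh.HH X S.X₁ q) := fun q => by
    rw [van_unit_mk_iff]
    exact ⟨fun h => subsingleton_of_iso e1.symm q h, fun h => subsingleton_of_iso e1 q h⟩
  have v2 : ∀ q, Van (Coh.structureModule X) (mk _ hM) q ↔ Subsingleton (Coh.HH X S.X₂ q) := fun q => by
    rw [van_unit_mk_iff]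
    exact ⟨fun h => subsingleton_of_iso e2.symm q h, fun h => subsingleton_of_iso e2 q h⟩
  have d1 : ∀ q, dm k (Coh.structureModule X) (mk _ hA) q = fr k S.X₁ q := fun q => by
    rw [dm_unit_mk]
    exact fr_iso k e1.symm q
  have d2 : ∀ q, dm k (Coh.structureModule X) (mk _ hM) q = fr k S.X₂ q := fun q => by
    rw [dm_unit_mk]
    exact fr_iso k e2.symm q
  refine ⟨?_, ?_, ?_, ?_, ?_, ?_, ?_, ?_⟩
  · intro M' A' hM' hA' hm ha
    obtain ⟨φ⟩ := (mk_eq_iff _ _).1 hm
    obtain ⟨ψ⟩ := (mk_eq_iff _ _).1 ha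
    rw [Fga.PicMon.euler_iso k X φ 2, Fga.PicMon.euler_iso k X ψ 2, K455.CutKer.euler_cut k i hi hdim I hI hM,
      h.euler]
  · intro hm
    rw [d1, d2]
    exact fr_eq_succ k hS 1 (p1 hm) (p2 2 le_rfl)
  · intro hm
    rw [d1, d2]
    exact fr_eq_zero k hS (p0 hm)
  · intro hm hv
    rw [v1] at hv
    rw [v2]
    exact subsingleton₂ hS 1 hv (p1 hm)
  · intro hm hv
    rw [v2] at hv
    rw [v1]
    exact subsingleton₁ hS 0 (p0 hm) hv
  · intro hv
    rw [v2] at hv
    rw [v1]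
    exact @K700.KosVan.subsingleton_zero_of_mono _ _ _ S.f hS.mono_f hv
  · intro hm hv
    rw [v1] at hv
    rw [v2]
    exact subsingleton₂ hS 0 hv (p0 hm)
  · intro q hq hv
    rw [v1] at hv
    rw [v2]
    exact subsingleton₂ hS q hv (p2 q hq)

end Step

end K484.CutSeq
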