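import Mathlib.RingTheory.KrullDimension.Basic

/-!
# Finite values in `WithBot ℕ∞`
-/

set_option autoImplicit false

namespace K484.StalkAux

theorem exists_nat_of_lt_top {d : WithBot ℕ∞} (h0 : 0 ≤ d) (h : d < ⊤) : ∃ n : ℕ, d = n := by
  induction d with
  | bot => simp at h0
  | coe d =>
    induction d using ENat.recTopCoe with
    | top => exact absurd h (lt_irrefl _)
    | coe n => exact ⟨n, rfl⟩

end K484.StalkAux
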