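import Groth.Agent.Lefpen.H121.CurveForm
import Groth.Agent.Lefpen.H711.PencilLoc
import Groth.Agent.Lefpen.H21.PicTwist
import Groth.Agent.CohqA.ProjDim

/-!
# Inverse images of hypersurfaces; the class of the pencil map

* `nonempty_iso_hyp`: `I_{V(H)} ≅ O(-b)` on `P^N` for a nonzero form `H` of degree `b`;
* `mk_comap`: `[g^{-1} I_{V(H)}] = hyp g ^ (-b)` if the inverse image is effective Cartier;
* `hyp_rho`: the morphism `ρ : Y ⟶ P^m` given by linear forms `s` with `h^{-1} (s) = I` effective Cartier satisfies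
  `ρ^* O(1) ≅ h^* O(1) ⊗ I`.
-/

set_option autoImplicit false
universe u

open CategoryTheory AlgebraicGeometry Limits TopologicalSpace Opposite MvPolynomial

namespace K484.HypComap

open LefPen Groth.Agent.Lefpen.H705.HypIdeal Groth.Agent.Lefpen.H705.SecIdeal
open Groth.Agent.Fdesc.LocGen Groth.Agent.Lefpen.H121.CurveForm Groth.Agent.FormalB
open Groth.Agent.Dix.IdealModCartier Groth.Agent.Picfga.LineHom
open Groth.Agent.Grpsch.PicGrp Groth.Agent.Lefpen.H21.PicTwist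

section Proj

variable {N : ℕ} {k : Type u} [Field k] {b : ℕ}

theorem ores_dehom_ne_zero (H : Form N k b) (hH : H.1 ≠ 0) (i : Fin (N + 1)) {V : (CohB1.ProjSpace N k).Opens}
    (hV : V ≤ chart N k i) (p : V) : ores hV (dehom H i) ≠ 0 := by
  intro h
  have h1 : ((ores hV (dehom H i)).1 p).val = 0 := by
    rw [h]
    exact HomogeneousLocalization.val_zero
  rw [ores_val, dehom_val, Localization.mk_eq_mk', IsLocalization.mk'_eq_zero_iff] at h1
  obtain ⟨m, hm⟩ := h1
  have hm0 : (m : MvPolynomial (Fin (N + 1)) k) ≠ 0 := by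
    intro h0
    have := m.2
    rw [h0] at this
    exact this (Ideal.zero_mem _)
  exact (mul_ne_zero hm0 hH) hm

theorem genOn_hyp (H : Form N k b) (hH : H.1 ≠ 0) (i : Fin (N + 1)) : GenOn (hypIdeal H) (dehom H i) := by
  intro W hW
  refine ⟨?_, hypIdeal_ideal_of_le H i W hW⟩
  rcases isEmpty_or_nonempty W.1 with he | ⟨⟨p⟩⟩
  · have hb : W.1 = ⊥ := by
      ext x
      exact ⟨fun hx => (he.false ⟨x, hx⟩).elim, fun hx => hx.elim⟩
    have : Subsingleton Γ(CohB1.ProjSpace N k, W.1) := by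
      rw [hb]
      infer_instance
    rw [mem_nonZeroDivisors_iff_right]
    intro x _
    exact Subsingleton.elim _ _
  · have : Nonempty W.1 := ⟨p⟩
    exact mem_nonZeroDivisors_of_ne_zero (ores_dehom_ne_zero H hH i hW p)

/-- `I_{V(H)} ≅ O(-b)` on `P^N`. -/
theorem nonempty_iso_hyp (H : Form N k b) (hH : H.1 ≠ 0) :
    Nonempty (ClSub.idealMod (hypIdeal H) ≅ Twist.twistProjSpace N k (-(b : ℤ))) := by
  obtain ⟨g, hg, hrel⟩ := exists_gens (N := N) (k := k) (-(b : ℤ))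
  have hn : ∀ i, ∃ n : Γ(ClSub.idealMod (hypIdeal H), chart N k i), val (hypIdeal H) n = dehom H i := fun i =>
    exists_val_eq _ ⟨chart N k i, isAffineOpen_chart i⟩ (by
      have := (genOn_hyp H hH i ⟨chart N k i, isAffineOpen_chart i⟩ le_rfl).2
      rw [ores_refl] at this
      rw [this]
      exact Ideal.mem_span_singleton_self _)
  choose n hn using hn
  have gn : ∀ i, IsGen (n i) := fun i => isGen_of_genOn ((hn i).symm ▸ genOn_hyp H hH i)
  obtain ⟨φ, -⟩ := exists_iso (L := Twist.twistProjSpace N k (-(b : ℤ)))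
    (N := ClSub.idealMod (hypIdeal H)) (iSup_chart (r := N) (k := k)) (e := g) hg (n := n)
    (trans_of_inf hg (by
      intro i j
      refine ⟨ores (inf_le_left : chart N k i ⊓ chart N k j ≤ _) (ratio i j) ^ b, ?_, ?_⟩
      · have h1 := hrel i j
        have h2 : (-(b : ℤ)).toNat = 0 := Int.toNat_of_nonpos (by omega)
        have h3 : (- -(b : ℤ)).toNat = b := by simp
        rw [h2, h3, pow_zero, one_smul] at h1
        exact h1
      · apply val_injective
        rw [val_smul, val_res, val_res, hn, hn]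
        exact ores_dehom H i j _ inf_le_left inf_le_right)) gn
  exact ⟨φ.symm⟩

theorem isEffCartier_hyp (H : Form N k b) (hH : H.1 ≠ 0) : BlowUp.IsEffCartierIdeal (hypIdeal H) := by
  intro y
  have hy : y ∈ ⨆ j : Fin (N + 1), chart N k j := by
    rw [iSup_chart]; trivial
  obtain ⟨j, hj⟩ := Opens.mem_iSup.1 hy
  have h := genOn_hyp H hH j ⟨chart N k j, isAffineOpen_chart j⟩ le_rfl
  rw [ores_refl] at h
  exact ⟨⟨chart N k j, isAffineOpen_chart j⟩, hj, _, h.1, h.2⟩

/-- The class of an effective Cartier ideal. -/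
noncomputable def mc {X : Scheme.{u}} (D : X.IdealSheafData) (hD : BlowUp.IsEffCartierIdeal D) : Pic X :=
  mk (ClSub.idealMod D) (isInvertible_idealMod hD)

theorem mc_mul {X : Scheme.{u}} {D E : X.IdealSheafData} (hD : BlowUp.IsEffCartierIdeal D)
    (hE : BlowUp.IsEffCartierIdeal E) (hDE : BlowUp.IsEffCartierIdeal (D * E)) :
    mc (D * E) hDE = mc D hD * mc E hE := by
  obtain ⟨e⟩ := idealMod_mul hD hE
  rw [mc, mc, mc, mk_mul_mk]
  exact (mk_eq_iff _ _).2 ⟨e.symm⟩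

theorem mc_congr {X : Scheme.{u}} {D E : X.IdealSheafData} (hD : BlowUp.IsEffCartierIdeal D)
    (hE : BlowUp.IsEffCartierIdeal E) (h : D = E) : mc D hD = mc E hE := by
  subst h; rfl

theorem mc_comap {X Y : Scheme.{u}} (f : Y ⟶ X) {D : X.IdealSheafData} (hD : BlowUp.IsEffCartierIdeal D)
    (hD' : BlowUp.IsEffCartierIdeal (D.comap f)) : mc (D.comap f) hD' = pull f (mc D hD) := by
  obtain ⟨e⟩ := pullback_idealMod f hD hD'
  rw [mc, mc, pull_mk]
  exact (mk_eq_iff _ _).2 ⟨e.symm⟩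

theorem mc_hyp (H : Form N k b) (hH : H.1 ≠ 0) : mc (hypIdeal H) (isEffCartier_hyp H hH) = o N k (-(b : ℤ)) := by
  obtain ⟨e⟩ := nonempty_iso_hyp H hH
  exact (mk_eq_iff _ _).2 ⟨e⟩

/-- The class of the inverse image of a hypersurface. -/
theorem mc_hyp_comap {Z : Scheme.{u}} (g : Z ⟶ CohB1.ProjSpace N k) (H : Form N k b) (hH : H.1 ≠ 0)
    (hE : BlowUp.IsEffCartierIdeal ((hypIdeal H).comap g)) : mc ((hypIdeal H).comap g) hE = hyp g ^ (-(b : ℤ)) := by
  rw [mc_comap g (isEffCartier_hyp H hH) hE, mc_hyp H hH, hyp, ← map_zpow, ← o_eq_zpow]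

end Proj

section Pencil

open Groth.Agent.Lefpen.H711.RatioSec Groth.Agent.Lefpen.H711.PencilMap Groth.Agent.Lefpen.H711.PencilLoc

variable {r : ℕ} {k : Type u} [Field k] {d : ℕ} {Y : Scheme.{u}} {h : Y ⟶ CohB1.ProjSpace r k}
  {m : ℕ} {s : Fin (m + 1) → Form r k d}
  (hE : BlowUp.IsEffCartierIdeal (secIdeal h (Set.range s))) (p : Y ⟶ Spec (CommRingCat.of k))

/-- The variable as a form. -/
noncomputable def var (m : ℕ) (k : Type u) [Field k] (c : Fin (m + 1)) : Form m k 1 := ⟨X c, X_mem m k c⟩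

theorem var_ne_zero (c : Fin (m + 1)) : (var m k c).1 ≠ 0 := MvPolynomial.X_ne_zero c

include hE in
theorem exists_affine (y : Y) : ∃ (W : Y.affineOpens) (a : Fin (m + 1)) (j : Fin (r + 1)),
    y ∈ W.1 ∧ W.1 ≤ U h s a ∧ W.1 ≤ h ⁻¹ᵁ chart r k j := by
  obtain ⟨a, ha⟩ := exists_gen hE y
  obtain ⟨j, hj⟩ := exists_mem_chart h y
  obtain ⟨W, hW, hyW, hle⟩ := exists_isAffineOpen_mem_and_subset (U := U h s a ⊓ h ⁻¹ᵁ chart r k j) (x := y) ⟨ha, hj⟩
  exact ⟨⟨W, hW⟩, a, j, hyW, hle.trans inf_le_left, hle.trans inf_le_right⟩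

/-- The local shape of the three ideals. -/
theorem ideals (W : Y.affineOpens) (a : Fin (m + 1)) (j : Fin (r + 1)) (hW : W.1 ≤ U h s a)
    (hj : W.1 ≤ h ⁻¹ᵁ chart r k j) (c : Fin (m + 1)) :
    (secIdeal h (Set.range s)).ideal W = Ideal.span {eqn h j W.1 hj (s a)} ∧
      ((hypIdeal (var m k c)).comap (rho hE p)).ideal W = Ideal.span {ores hW (rat hE a c)} ∧
      ((hypIdeal (s c)).comap h).ideal W = Ideal.span {eqn h j W.1 hj (s a) * ores hW (rat hE a c)} := by
  refine ⟨?_, ?_, ?_⟩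
  · rw [secIdeal_ideal_of_le h _ j W hj, ← Set.range_comp]
    apply le_antisymm
    · rw [Ideal.span_le]
      rintro _ ⟨b, rfl⟩
      change eqn h j W.1 hj (s b) ∈ _
      rw [← eqn_mul_rat hE a b W.1 hW j hj]
      exact Ideal.mul_mem_right _ _ (Ideal.mem_span_singleton_self _)
    · rw [Ideal.span_singleton_le_iff_mem]
      exact Ideal.subset_span ⟨a, rfl⟩
  · have hW' : W.1 ≤ rho hE p ⁻¹ᵁ chart m k a := by rw [rho_preimage_chart]; exact hW
    rw [← secIdeal_singleton, secIdeal_ideal_of_le (rho hE p) _ a W hW', Set.image_singleton, eqn_eq_ev]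
    congr 2
    exact ev_rho_X hE p a c W.1 hW'
  · rw [← secIdeal_singleton, secIdeal_ideal_of_le h _ j W hj, Set.image_singleton, eqn_mul_rat]

theorem comap_mul (c : Fin (m + 1)) :
    (hypIdeal (var m k c)).comap (rho hE p) * secIdeal h (Set.range s) = (hypIdeal (s c)).comap h := by
  choose W a j hy hW hj using exists_affine hE
  refine Scheme.IdealSheafData.ext_of_iSup_eq_top W ?_ fun y => ?_
  · rw [eq_top_iff]
    intro y _
    exact Opens.mem_iSup.2 ⟨y, hy y⟩
  · obtain ⟨h1, h2, h3⟩ := ideals hE p (W y) (a y) (j y) (hW y) (hj y) c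
    rw [Scheme.IdealSheafData.ideal_mul, Pi.mul_apply, h1, h2, h3, Ideal.span_singleton_mul_span_singleton, mul_comm]

theorem isEffCartier_rho (c : Fin (m + 1)) (hc : BlowUp.IsEffCartierIdeal ((hypIdeal (s c)).comap h)) :
    BlowUp.IsEffCartierIdeal ((hypIdeal (var m k c)).comap (rho hE p)) := by
  intro y
  obtain ⟨W, a, j, hy, hW, hj⟩ := exists_affine hE y
  obtain ⟨h1, h2, h3⟩ := ideals hE p W a j hW hj c
  obtain ⟨V, t, hyV, ht⟩ := exists_genOn hc y
  obtain ⟨T, hyT, hT⟩ := exists_affine_mem_le (W.1 ⊓ V.1) y ⟨hy, hyV⟩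
  obtain ⟨-, h2, h3⟩ := ideals hE p T a j ((hT.trans inf_le_left).trans hW) ((hT.trans inf_le_left).trans hj) c
  refine ⟨T, hyT, _, ?_, h2⟩
  obtain ⟨h4, h5⟩ := ht T (hT.trans inf_le_right)
  have h6 : ores (hT.trans inf_le_right) t ∈ ((hypIdeal (s c)).comap h).ideal T := by
    rw [h5]; exact Ideal.mem_span_singleton_self _
  rw [h3, Ideal.mem_span_singleton] at h6
  obtain ⟨w, hw⟩ := h6
  rw [hw, mul_mem_nonZeroDivisors, mul_mem_nonZeroDivisors] at h4
  exact h4.1.2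

/-- `ρ^* O(1) = h^* O(d) ⊗ I`. -/
theorem hyp_rho (c : Fin (m + 1)) (hsc : (s c).1 ≠ 0)
    (hc : BlowUp.IsEffCartierIdeal ((hypIdeal (s c)).comap h)) :
    hyp (rho hE p) = hyp h ^ (d : ℤ) * mc _ hE := by
  have h1 := isEffCartier_rho hE p c hc
  have h2 := comap_mul hE p c
  have h3 : mc _ hc = mc _ h1 * mc _ hE := by
    rw [← mc_mul h1 hE (h2 ▸ hc)]
    exact mc_congr _ _ h2.symm
  rw [mc_hyp_comap h (s c) hsc hc, mc_hyp_comap (rho hE p) (var m k c) (var_ne_zero c) h1] at h3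
  rw [zpow_neg, zpow_neg] at h3
  rw [eq_comm, ← mul_right_inj ((hyp h ^ (d : ℤ))⁻¹), ← mul_assoc, inv_mul_cancel, one_mul, h3]
  simp

end Pencil

end K484.HypComap
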