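import Groth.Prelude.Def_EGA4b
import Groth.Agent.Divis.StalkPrime
import Groth.Agent.Divis.CartierStalk
import Groth.Agent.Ega4A.CatenaryDim

/-!
# Local rings of irreducible schemes are equidimensional; the prime of a closed integral subscheme
-/

set_option autoImplicit false
universe u

open CategoryTheory AlgebraicGeometry TopologicalSpace
open Groth.Agent.Divis.CartierBasic Groth.Agent.Divis.CartierStalk Groth.Agent.CycB.LocQuot
  Groth.Agent.Divis.StalkPrime

namespace K484.IrrEquidim

theorem isEquidim_of_unique {R : Type u} [CommRing R]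
    (h : ∀ p ∈ minimalPrimes R, ∀ q ∈ minimalPrimes R, p = q) :
    EGA4.IsEquidim R := by
  intro p hp
  apply le_antisymm
  · exact ringKrullDim_quotient_le p
  · rw [ringKrullDim]
    refine iSup_le fun s => ?_
    obtain ⟨q, hq, hqs⟩ := Ideal.exists_minimalPrimes_le (I := (⊥ : Ideal R)) (J := s.head.asIdeal)
      bot_le
    rw [h p hp q hq, ringKrullDim_quotient]
    let s' : LTSeries ↥(PrimeSpectrum.zeroLocus (q : Set R)) :=
      { length := s.length
        toFun := fun i => ⟨s i, fun a ha => (s.head_le i) (hqs ha)⟩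
        step := fun i => s.step i }
    exact le_iSup (fun p : LTSeries _ => (p.length : WithBot ℕ∞)) s'

theorem isEquidim_stalk {X : Scheme.{u}} [IrreducibleSpace X] (x : X) :
    EGA4.IsEquidim (X.presheaf.stalk x) := by
  have key : ∀ p ∈ minimalPrimes (X.presheaf.stalk x),
      p = (primeOf (genericPoint_specializes x)).asIdeal := by
    intro p hp
    have hpp : p.IsPrime := hp.1.1
    have h1 : primeOf (genericPoint_specializes x) ≤ (⟨p, hpp⟩ : PrimeSpectrum (X.presheaf.stalk x)) := by
      rw [← ptOf_specializes_iff, ptOf_primeOf]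
      exact genericPoint_specializes _
    exact le_antisymm (hp.2 ⟨(primeOf (genericPoint_specializes x)).2, bot_le⟩ h1) h1
  exact isEquidim_of_unique fun p hp q hq => (key p hp).trans (key q hq).symm

/-- The point of `Spec O_{X, i z}` given by the kernel of the stalk map of a closed immersion from an integral
scheme is the image of the generic point. -/
theorem ptOf_ker {X Z : Scheme.{u}} (i : Z ⟶ X) [IsClosedImmersion i] [IsIntegral Z] (z : Z) :
    ptOf ⟨RingHom.ker (i.stalkMap z).hom, RingHom.ker_isPrime _⟩ = i (genericPoint Z) := by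
  have hsupp : ∀ y : X, y ∈ i.ker.support ↔ y ∈ Set.range i := by
    intro y
    have h0 : ((i.ker.support : Closeds X) : Set X) = closure (Set.range i) := by
      rw [Scheme.Hom.support_ker]
    rw [i.isClosedEmbedding.isClosed_range.closure_eq] at h0
    exact Set.ext_iff.1 h0 y
  have h1 : i (genericPoint Z) ⤳ i z := (genericPoint_specializes z).map i.continuous
  have h2 : ptOf (x := i z) ⟨RingHom.ker (i.stalkMap z).hom, RingHom.ker_isPrime _⟩ ∈ i.ker.support := by
    rw [ptOf, fromSpecStalk_mem_support_iff]
    exact (ker_stalkMap i z).ge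
  have h3 : i (genericPoint Z) ⤳ ptOf (x := i z) ⟨RingHom.ker (i.stalkMap z).hom, RingHom.ker_isPrime _⟩ := by
    obtain ⟨w, hw⟩ := (hsupp _).1 h2
    rw [← hw]
    exact (genericPoint_specializes w).map i.continuous
  have h4 : ptOf (primeOf h1) ∈ i.ker.support := by
    rw [ptOf_primeOf]
    exact (hsupp _).2 ⟨_, rfl⟩
  rw [ptOf, fromSpecStalk_mem_support_iff] at h4
  have h5 : ptOf (x := i z) ⟨RingHom.ker (i.stalkMap z).hom, RingHom.ker_isPrime _⟩ ⤳ ptOf (primeOf h1) := by
    rw [ptOf_specializes_iff]
    exact (ker_stalkMap i z).le.trans h4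
  rw [ptOf_primeOf] at h5
  exact (h5.antisymm h3).eq

end K484.IrrEquidim
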