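import Mathlib.RingTheory.Ideal.GoingUp
import Mathlib.RingTheory.QuasiFinite.Basic
import Mathlib.RingTheory.Ideal.Quotient.Basic

/-!
# Local principality in a pinching square

`A → B` with an ideal `J` of `B` which is the image of an ideal `I` of `A`, `B/J` finite over `A`, and `J` locally
principal on `B`. Then `J` is principal locally on `A`.
-/

set_option autoImplicit false

namespace K484.PinchAlg

theorem exists_generator {A B : Type*} [CommRing A] [CommRing B] [Algebra A B] (I : Ideal A) (J : Ideal B)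
    [Module.Finite A (B ⧸ J)]
    (hIJ : ∀ x ∈ J, ∃ i ∈ I, algebraMap A B i = x)
    (hJ : ∀ n : Ideal B, n.IsPrime → ∃ a ∈ J, ∃ t ∉ n, ∀ x ∈ J, t * x ∈ Ideal.span {a})
    (p : Ideal A) [hp : p.IsPrime] :
    ∃ f ∈ I, ∃ c ∉ p, ∀ x ∈ J, algebraMap A B c * x ∈ Ideal.span {algebraMap A B f} := by
  classical
  by_cases hIp : I ≤ p
  swap
  · obtain ⟨c, hc, hcp⟩ := SetLike.not_le_iff_exists.1 hIp
    exact ⟨c, hc, c, hcp, fun x _ => Ideal.mem_span_singleton.2 (dvd_mul_right _ _)⟩
  have hfin : (p.primesOver (B ⧸ J)).Finite := Algebra.QuasiFinite.finite_primesOver p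
  let S := hfin.toFinset
  have hS : ∀ m, m ∈ S ↔ m.IsPrime ∧ m.LiesOver p := fun m => hfin.mem_toFinset
  have hint : Algebra.IsIntegral A (B ⧸ J) := inferInstance
  -- incomparability
  have hinc : ∀ m ∈ S, ∀ m' ∈ S, m ≤ m' → m = m' := by
    intro m hm m' hm' hle
    by_contra hne
    obtain ⟨x, hx, hx'⟩ := SetLike.exists_of_lt (lt_of_le_of_ne hle hne)
    have hmp := ((hS m).1 hm).1
    have h1 := Ideal.comap_lt_comap_of_integral_mem_sdiff hle (x := x) ⟨hx, hx'⟩ (hint.isIntegral x)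
    have h2 := ((hS m).1 hm).2.over
    have h3 := ((hS m').1 hm').2.over
    rw [Ideal.under] at h2 h3
    rw [← h2, ← h3] at h1
    exact lt_irrefl _ h1
  -- separating elements
  have hsep : ∀ m ∈ S, ∃ e : B, Ideal.Quotient.mk J e ∉ m ∧ ∀ m' ∈ S, m' ≠ m → Ideal.Quotient.mk J e ∈ m' := by
    intro m hm
    have hmp := ((hS m).1 hm).1
    have h1 : ¬ (S.erase m).inf (fun m' => m') ≤ m := by
      rw [Ideal.IsPrime.inf_le' hmp]
      rintro ⟨m', hm', hle⟩
      exact (Finset.ne_of_mem_erase hm') (hinc m' (Finset.mem_of_mem_erase hm') m hm hle)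
    obtain ⟨x, hx, hxm⟩ := SetLike.not_le_iff_exists.1 h1
    obtain ⟨e, rfl⟩ := Ideal.Quotient.mk_surjective x
    refine ⟨e, hxm, fun m' hm' hne => ?_⟩
    exact (Finset.inf_le (f := fun m' => m') (Finset.mem_erase.2 ⟨hne, hm'⟩)) hx
  choose! e he1 he2 using hsep
  have hloc : ∀ m ∈ S, ∃ a ∈ J, ∃ t : B, Ideal.Quotient.mk J t ∉ m ∧ ∀ x ∈ J, t * x ∈ Ideal.span {a} := by
    intro m hm
    have hmp := ((hS m).1 hm).1
    obtain ⟨a, ha, t, ht, h⟩ := hJ (m.comap (Ideal.Quotient.mk J)) inferInstance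
    exact ⟨a, ha, t, ht, h⟩
  choose! a haJ t ht1 ht2 using hloc
  let f : B := ∑ m ∈ S, e m * a m
  have hfJ : f ∈ J := Ideal.sum_mem _ fun m hm => J.mul_mem_left _ (haJ m hm)
  -- the colon ideal
  let 𝔠 : Ideal B :=
    { carrier := {c | ∀ x ∈ J, c * x ∈ Ideal.span {f}}
      add_mem' := fun {c d} hc hd x hx => by rw [add_mul]; exact add_mem (hc x hx) (hd x hx)
      zero_mem' := fun x _ => by rw [zero_mul]; exact zero_mem _
      smul_mem' := fun r c hc x hx => by rw [smul_eq_mul, mul_assoc]; exact Ideal.mul_mem_left _ _ (hc x hx) }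
  have hcol : ∀ m ∈ S, ¬ 𝔠.map (Ideal.Quotient.mk J) ≤ m := by
    intro m hm hle
    have hmp := ((hS m).1 hm).1
    have h1 : ∀ m' ∈ S, ∃ b : B, t m * a m' = b * a m := fun m' hm' => by
      obtain ⟨b, hb⟩ := Ideal.mem_span_singleton'.1 (ht2 m hm (a m') (haJ m' hm'))
      exact ⟨b, hb.symm⟩
    choose! b hb using h1
    let u : B := t m * e m + ∑ m' ∈ S.erase m, e m' * b m'
    have hu : t m * f = u * a m := by
      have h2 : f = e m * a m + ∑ m' ∈ S.erase m, e m' * a m' := (Finset.add_sum_erase S _ hm).symm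
      rw [h2, mul_add, Finset.mul_sum]
      simp only [u]
      rw [add_mul, Finset.sum_mul]
      congr 1
      · ring
      · refine Finset.sum_congr rfl fun m' hm' => ?_
        have := hb m' (Finset.mem_of_mem_erase hm')
        calc t m * (e m' * a m') = e m' * (t m * a m') := by ring
          _ = e m' * b m' * a m := by rw [this]; ring
    have hum : Ideal.Quotient.mk J u ∉ m := by
      intro h
      have h3 : Ideal.Quotient.mk J (∑ m' ∈ S.erase m, e m' * b m') ∈ m := by
        rw [map_sum]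
        refine Ideal.sum_mem _ fun m' hm' => ?_
        rw [map_mul]
        exact m.mul_mem_right _ (he2 m' (Finset.mem_of_mem_erase hm') m hm (Finset.ne_of_mem_erase hm').symm)
      simp only [u] at h
      rw [map_add] at h
      have h4 := (Ideal.add_mem_iff_left m h3).1 h
      rw [map_mul] at h4
      rcases hmp.mem_or_mem h4 with h5 | h5
      · exact ht1 m hm h5
      · exact he1 m hm h5
    have hut : u * t m ∈ 𝔠 := by
      intro x hx
      obtain ⟨c, hc⟩ := Ideal.mem_span_singleton'.1 (ht2 m hm x hx)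
      rw [Ideal.mem_span_singleton]
      refine ⟨c * t m, ?_⟩
      calc u * t m * x = u * (t m * x) := by ring
        _ = c * (u * a m) := by rw [← hc]; ring
        _ = f * (c * t m) := by rw [← hu]; ring
    have h6 := hle (Ideal.mem_map_of_mem _ hut)
    rw [map_mul] at h6
    rcases hmp.mem_or_mem h6 with h5 | h5
    · exact hum h5
    · exact ht1 m hm h5
  have hnot : ¬ (𝔠.map (Ideal.Quotient.mk J)).comap (algebraMap A (B ⧸ J)) ≤ p := by
    intro hle
    obtain ⟨Q, hQ, hQp, hQc⟩ := Ideal.exists_ideal_over_prime_of_isIntegral p _ hle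
    exact hcol Q ((hS Q).2 ⟨hQp, ⟨hQc.symm⟩⟩) hQ
  obtain ⟨s, hs, hsp⟩ := SetLike.not_le_iff_exists.1 hnot
  rw [Ideal.mem_comap, Ideal.mem_map_iff_of_surjective _ Ideal.Quotient.mk_surjective] at hs
  obtain ⟨c, hc, hcs⟩ := hs
  have h7 : algebraMap A B s - c ∈ J := by
    rw [← Ideal.Quotient.eq, hcs]
    rfl
  obtain ⟨i, hi, his⟩ := hIJ _ h7
  obtain ⟨f₀, hf₀, hf₀'⟩ := hIJ f hfJ
  refine ⟨f₀, hf₀, s - i, fun h => hsp ?_, fun x hx => ?_⟩
  · have := add_mem h (hIp hi)
    rwa [sub_add_cancel] at this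
  · have h8 : algebraMap A B (s - i) = c := by rw [map_sub, his]; ring
    rw [h8, hf₀']
    exact hc x hx

end K484.PinchAlg
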