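import Groth.Agent.BlowUp.K484.PinchLoc
import Groth.Agent.BlowUp.K484.StrictClosed
import Groth.Agent.Flat2C.BlowProper
import Groth.Agent.Flat2C.BlowExist

/-!
# Pinching along an effective Cartier divisor: the blow-up
-/

set_option autoImplicit false
universe u

open CategoryTheory AlgebraicGeometry TopologicalSpace Limits BlowUp
open Groth.Agent.Divis.CartierBasic Groth.Agent.Divis.CartierStalk Groth.Agent.Divis.BlowChart2
open Groth.Agent.Divis.IdealComap
open K484.PinchSec K484.PinchAlg K484.PinchFlat K484.PinchLoc K484.StrictClosed K484.StalkAux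

namespace K484.PinchBlow

theorem exists_mul_eq {A B : Type*} [CommRing A] [CommRing B] [Algebra A B] {I : Ideal A} {f : A}
    (h : Pinch (A := A) (B := B) I f) {i i' : A} (hi : i ∈ I) (hi' : i' ∈ I) :
    ∃ i'' ∈ I, i * i' = f * i'' := by
  obtain ⟨u, hu⟩ := h.dvd i hi
  obtain ⟨u', hu'⟩ := h.dvd i' hi'
  obtain ⟨i'', hi'', e⟩ := h.surj (u * u')
  refine ⟨i'', hi'', h.inj' (I.mul_mem_left _ hi') (I.mul_mem_left _ hi'') ?_⟩
  rw [map_mul, map_mul, hu, hu', e]; ring

theorem chart_eq {X X' : Scheme.{u}} (c : X' ⟶ X) (J : X.IdealSheafData) (O : X.affineOpens)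
    (hE : IsEffCartierIdeal (J.comap c)) {f : Γ(X, O.1)} (hf : f ∈ J.ideal O)
    (hsq : ∀ i ∈ J.ideal O, ∀ i' ∈ J.ideal O, ∃ i'' ∈ J.ideal O, i * i' = f * i'') :
    chart c J O f = c ⁻¹ᵁ O.1 := by
  apply le_antisymm (chart_le c J O f)
  intro x' hx
  rw [mem_chart_iff_stalk c J O hE hf]
  have hx' : c x' ∈ O.1 := hx
  refine ⟨hx', ?_⟩
  let φ : Γ(X, O.1) →+* X'.presheaf.stalk x' :=
    (c.stalkMap x').hom.comp (X.presheaf.germ O.1 (c x') hx').hom
  have h1 : stalkIdeal (J.comap c) x' = (J.ideal O).map φ := by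
    rw [stalkIdeal_comap J c, stalkIdeal_eq J O hx', Ideal.map_map]
  change _ = Ideal.span {φ f}
  obtain ⟨e, he, hEe⟩ := exists_stalkIdeal_eq_span hE x'
  have h2 : φ f ∈ Ideal.span {e} := by
    rw [← hEe, h1]; exact Ideal.mem_map_of_mem _ hf
  have h3 : e * e ∈ Ideal.span {φ f * e} := by
    have h4 : e * e ∈ ((J.ideal O) * (J.ideal O)).map φ := by
      rw [Ideal.map_mul, ← h1, hEe]
      exact Ideal.mul_mem_mul (Ideal.mem_span_singleton_self _) (Ideal.mem_span_singleton_self _)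
    have h5 : (J.ideal O) * (J.ideal O) ≤ Ideal.span {f} * J.ideal O := by
      rw [Ideal.mul_le]
      intro i hi i' hi'
      obtain ⟨i'', hi'', e⟩ := hsq i hi i' hi'
      rw [e]
      exact Ideal.mul_mem_mul (Ideal.mem_span_singleton_self _) hi''
    have h6 := Ideal.map_mono (f := φ) h5 h4
    rw [Ideal.map_mul, ← h1, hEe, Ideal.map_span, Set.image_singleton,
      Ideal.span_singleton_mul_span_singleton] at h6
    exact h6
  obtain ⟨q, hq⟩ := Ideal.mem_span_singleton.1 h3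
  have h4 : e = φ f * q := by
    apply (mul_cancel_left_mem_nonZeroDivisors he).1
    rw [hq]; ring
  rw [hEe]
  apply le_antisymm
  · rw [Ideal.span_le, Set.singleton_subset_iff]
    exact Ideal.mem_span_singleton.2 ⟨q, h4⟩
  · rw [Ideal.span_le, Set.singleton_subset_iff]
    exact h2

variable {Xt Dt D X : Scheme.{u}} {ι : Dt ⟶ Xt} [IsClosedImmersion ι] {h : Dt ⟶ D}
  {b : Xt ⟶ X} [IsAffineHom b] {j : D ⟶ X} [IsClosedImmersion j]

/-- Comparison with the blow-up over a good affine open. -/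
theorem bijective_app {Xt D X : Scheme.{u}} {b : Xt ⟶ X} {j : D ⟶ X} {X' : Scheme.{u}} (c : X' ⟶ X) (hc : IsBlowUp c j.ker) (k : Xt ⟶ X') (hk : k ≫ c = b)
    (O : X.affineOpens) (f : Γ(X, O.1))
    (hp : @Pinch Γ(X, O.1) Γ(Xt, b ⁻¹ᵁ O.1) _ _ (b.app O.1).hom.toAlgebra (j.ker.ideal O) f)
    (hC : chart c j.ker O f = c ⁻¹ᵁ O.1) :
    Function.Bijective (k.app (chart c j.ker O f)).hom := by
  letI := (b.app O.1).hom.toAlgebra
  have hf := hp.mem
  have hle : k ⁻¹ᵁ chart c j.ker O f ≤ b ⁻¹ᵁ O.1 := by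
    rw [hC, ← hk]; exact le_rfl
  have heq : k ⁻¹ᵁ chart c j.ker O f = b ⁻¹ᵁ O.1 := by
    rw [hC, ← hk]; rfl
  have hcomm : ∀ m : Γ(X, O.1), (k.app (chart c j.ker O f)).hom
        ((c.appLE O.1 (chart c j.ker O f) (chart_le c j.ker O f)).hom m) =
      (b.appLE O.1 (k ⁻¹ᵁ chart c j.ker O f) hle).hom m := by
    intro m
    have h1 : c.appLE O.1 (chart c j.ker O f) (chart_le c j.ker O f) ≫ k.app (chart c j.ker O f) =
        b.appLE O.1 (k ⁻¹ᵁ chart c j.ker O f) hle := by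
      rw [← Scheme.Hom.appLE_eq_app, Scheme.Hom.appLE_comp_appLE]
      simp_rw [hk]
    exact congr($(congrArg CommRingCat.Hom.hom h1) m)
  have gen : ∀ (V : Xt.Opens) (hV : V = b ⁻¹ᵁ O.1),
      (b.appLE O.1 V hV.le).hom f ∈ nonZeroDivisors Γ(Xt, V) ∧
      (∀ x : Γ(Xt, V), ∃ i ∈ j.ker.ideal O, (b.appLE O.1 V hV.le).hom i = (b.appLE O.1 V hV.le).hom f * x) ∧
      (∀ i ∈ j.ker.ideal O, (b.appLE O.1 V hV.le).hom i = 0 → i = 0) := by
    rintro _ rfl
    rw [Scheme.Hom.appLE_eq_app]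
    exact ⟨hp.nzd, hp.surj, hp.inj⟩
  obtain ⟨hnzd, hsurj, hinj⟩ := gen _ heq
  have hcnzd := appLE_chart_mem_nonZeroDivisors c j.ker O hc hf
  constructor
  · rw [injective_iff_map_eq_zero]
    intro s hs
    obtain ⟨n, m, hm, hms⟩ := exists_pow_mul_eq_appLE c j.ker O hc hf s
    have h1 : (c.appLE O.1 (chart c j.ker O f) (chart_le c j.ker O f)).hom f ^ (n + 1) * s =
        (c.appLE O.1 (chart c j.ker O f) (chart_le c j.ker O f)).hom (f * m) := by
      rw [map_mul, ← hms, pow_succ]; ring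
    have h2 : f * m = 0 := by
      apply hinj _ (Ideal.mul_mem_right _ _ hf)
      rw [← hcomm, ← h1, map_mul, hs, mul_zero]
    rw [h2, map_zero] at h1
    exact (mem_nonZeroDivisors_iff.1 (pow_mem hcnzd (n + 1))).1 s h1
  · intro y
    obtain ⟨i, hi, hiy⟩ := hsurj y
    obtain ⟨s, hs⟩ := exists_eq_pow_mul_appLE c j.ker O hc hf 1 (m := i) (by rwa [pow_one])
    refine ⟨s, ?_⟩
    have h1 := congrArg (k.app (chart c j.ker O f)).hom hs
    rw [map_mul, map_pow, hcomm, hcomm, hiy, pow_one] at h1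
    exact ((mul_cancel_left_mem_nonZeroDivisors hnzd).1 h1).symm

theorem isBlowUp [IsFinite h] (w : ι ≫ b = h ≫ j) (hE : ExSec ι h b j) (hU : UnSec b j)
    (hι : BlowUp.IsEffCartierIdeal ι.ker) : IsBlowUp b j.ker := by
  let c := Groth.Agent.Flat2C.BlowExist.b j.ker
  have hc : IsBlowUp c j.ker := Groth.Agent.Flat2C.BlowExist.isBlowUp_b j.ker
  have hE' : IsEffCartierIdeal (j.ker.comap b) := by rw [comap_ker_eq w hE]; exact hι
  obtain ⟨k, hk, -⟩ := hc.2 Xt b hE'
  replace hk : k ≫ c = b := hk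
  have hiso : IsIso k := by
    choose O f hxO hOV hp hspan using fun x : X => exists_pinch w hE hU hι x ⊤ trivial
    have hC : ∀ x, chart c j.ker (O x) (f x) = c ⁻¹ᵁ (O x).1 := by
      intro x
      letI := (b.app (O x).1).hom.toAlgebra
      exact chart_eq c j.ker (O x) hc.1 (hp x).mem (fun i hi i' hi' => exists_mul_eq (hp x) hi hi')
    have haff : ∀ x, IsAffineOpen (chart c j.ker (O x) (f x)) := by
      intro x
      letI := (b.app (O x).1).hom.toAlgebra
      exact isAffineOpen_chart c j.ker (O x) hc (hp x).mem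
    let C : X → (Groth.Agent.Flat2C.BlowExist.blowUp j.ker).affineOpens := fun x => ⟨_, haff x⟩
    have hCtop : ⨆ x, (C x).1 = ⊤ := by
      rw [eq_top_iff]
      rintro x' -
      refine Opens.mem_iSup.2 ⟨c x', ?_⟩
      change x' ∈ chart c j.ker (O (c x')) (f (c x'))
      rw [hC]
      exact hxO _
    change (MorphismProperty.isomorphisms Scheme) k
    refine HasAffineProperty.of_iSup_eq_top (P := MorphismProperty.isomorphisms Scheme)
      (Q := fun X _ f _ ↦ IsAffine X ∧ IsIso (f.appTop)) C hCtop ?_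
    intro x
    have hpre : k ⁻¹ᵁ (C x).1 = b ⁻¹ᵁ (O x).1 := by
      change k ⁻¹ᵁ (chart c j.ker (O x) (f x)) = _
      rw [hC, ← hk]; rfl
    have h1 : IsAffineOpen (k ⁻¹ᵁ (C x).1) := by
      rw [hpre]; exact (O x).2.preimage b
    refine ⟨h1, ?_⟩
    have hb := bijective_app c hc k hk (O x) (f x) (hp x) (hC x)
    rw [Scheme.Hom.appTop, morphismRestrict_app]
    have h2 : (C x).1.ι ''ᵁ ⊤ = (C x).1 := by simp
    have h3 : IsIso (k.app ((C x).1.ι ''ᵁ ⊤)) := by
      rw [h2]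
      exact (ConcreteCategory.isIso_iff_bijective _).2 hb
    refine @IsIso.comp_isIso _ _ _ _ _ _ _ h3 ?_
    exact Functor.map_isIso Xt.presheaf _
  exact Groth.Agent.Flat2C.BlowProper.isBlowUp_of_iso hc (asIso k) hk

end K484.PinchBlow
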