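import Mathlib.RingTheory.Flat.Equalizer
import Mathlib.RingTheory.Ideal.Quotient.Operations
import Mathlib.RingTheory.Flat.Basic
import Mathlib.RingTheory.Flat.Tensor

/-!
# Flatness of the infinitesimal neighbourhoods in a pinching square
-/

set_option autoImplicit false

open TensorProduct

namespace K484.PinchFlat

/-- An extension of flat modules is flat. -/
theorem flat_of_extension {R : Type*} [CommRing R] {M N P : Type*} [AddCommGroup M] [AddCommGroup N]
    [AddCommGroup P] [Module R M] [Module R N] [Module R P] [Module.Flat R M] [Module.Flat R P]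
    (f : M →ₗ[R] N) (g : N →ₗ[R] P) (hf : Function.Injective f) (hg : Function.Surjective g)
    (H : Function.Exact f g) : Module.Flat R N := by
  rw [Module.Flat.iff_rTensor_injective']
  intro I
  rw [injective_iff_map_eq_zero]
  intro x hx
  have h1 : (LinearMap.rTensor P (Submodule.subtype I)) ((g.lTensor I) x) = 0 := by
    have h2 : (LinearMap.rTensor P (Submodule.subtype I)) ∘ₗ g.lTensor I =
        g.lTensor R ∘ₗ (LinearMap.rTensor N (Submodule.subtype I)) := by ext x y; simp
    have h3 := congrArg (fun l => l x) h2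
    simp only [LinearMap.comp_apply] at h3
    rw [h3, hx, map_zero]
  have h2 : (g.lTensor I) x = 0 := by
    have h3 : Function.Injective (LinearMap.rTensor P (Submodule.subtype I)) :=
      Module.Flat.rTensor_preserves_injective_linearMap _ I.injective_subtype
    exact h3 (by rw [h1, map_zero])
  obtain ⟨m, rfl⟩ := (lTensor_exact I H hg x).1 h2
  have h4 : (f.lTensor R) ((LinearMap.rTensor M (Submodule.subtype I)) m) = 0 := by
    have h5 : f.lTensor R ∘ₗ (LinearMap.rTensor M (Submodule.subtype I)) =
        (LinearMap.rTensor N (Submodule.subtype I)) ∘ₗ f.lTensor I := by ext x y; simp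
    have h6 := congrArg (fun l => l m) h5
    simp only [LinearMap.comp_apply] at h6
    rw [h6, hx]
  have h7 : Function.Injective (f.lTensor R) :=
    Module.Flat.lTensor_preserves_injective_linearMap f hf
  have h8 : Function.Injective (LinearMap.rTensor M (Submodule.subtype I)) :=
    Module.Flat.rTensor_preserves_injective_linearMap _ I.injective_subtype
  have h9 : m = 0 := h8 (h7 (by rw [h4, map_zero, map_zero]))
  rw [h9, map_zero]

variable {A B : Type*} [CommRing A] [CommRing B] [Algebra A B] (I : Ideal A) (f : A)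

/-- The hypotheses: `I` maps bijectively onto the principal ideal generated by the nonzerodivisor `f`. -/
structure Pinch : Prop where
  mem : f ∈ I
  nzd : algebraMap A B f ∈ nonZeroDivisors B
  surj : ∀ x : B, ∃ i ∈ I, algebraMap A B i = algebraMap A B f * x
  inj : ∀ i ∈ I, algebraMap A B i = 0 → i = 0
  dvd : ∀ i ∈ I, algebraMap A B f ∣ algebraMap A B i

variable {I f}

namespace Pinch

variable (h : Pinch (A := A) (B := B) I f)
include h

theorem inj' {i i' : A} (hi : i ∈ I) (hi' : i' ∈ I) (e : algebraMap A B i = algebraMap A B i') : i = i' := by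
  rw [← sub_eq_zero]
  exact h.inj _ (sub_mem hi hi') (by rw [map_sub, e, sub_self])

/-- multiplication by `f`, from `B` to `I`. -/
noncomputable def g : B →ₗ[A] A where
  toFun x := (h.surj x).choose
  map_add' x y := by
    apply h.inj' (h.surj _).choose_spec.1 (add_mem (h.surj _).choose_spec.1 (h.surj _).choose_spec.1)
    rw [map_add, (h.surj _).choose_spec.2, (h.surj _).choose_spec.2, (h.surj _).choose_spec.2, mul_add]
  map_smul' a x := by
    apply h.inj' (h.surj _).choose_spec.1 (Ideal.mul_mem_left _ _ (h.surj _).choose_spec.1)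
    rw [RingHom.id_apply, map_mul, (h.surj _).choose_spec.2, (h.surj _).choose_spec.2, Algebra.smul_def]
    ring

theorem g_mem (x : B) : h.g x ∈ I := (h.surj x).choose_spec.1

theorem g_spec (x : B) : algebraMap A B (h.g x) = algebraMap A B f * x := (h.surj x).choose_spec.2

theorem pow_dvd (n : ℕ) {x : A} (hx : x ∈ I ^ n) : algebraMap A B f ^ n ∣ algebraMap A B x := by
  induction n generalizing x with
  | zero => simp
  | succ n ih =>
    rw [pow_succ] at hx
    refine Submodule.mul_induction_on hx (fun a ha b hb => ?_) (fun a b ha hb => ?_)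
    · rw [map_mul, pow_succ]
      exact mul_dvd_mul (ih ha) (h.dvd b hb)
    · rw [map_add]
      exact dvd_add ha hb

theorem mem_pow (n : ℕ) (x : B) : f ^ n * h.g x ∈ I ^ (n + 1) := by
  rw [pow_succ]
  exact Ideal.mul_mem_mul (Ideal.pow_mem_pow h.mem n) (h.g_mem x)

theorem map_pow_g (n : ℕ) (x : B) :
    algebraMap A B (f ^ n * h.g x) = algebraMap A B f ^ (n + 1) * x := by
  rw [map_mul, map_pow, h.g_spec]; ring

theorem exists_eq (n : ℕ) {y : A} (hy : y ∈ I ^ (n + 1)) : ∃ x : B, y = f ^ n * h.g x := by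
  obtain ⟨x, hx⟩ := h.pow_dvd (n + 1) hy
  refine ⟨x, h.inj' (Ideal.pow_le_self (Nat.succ_ne_zero n) hy)
    (Ideal.pow_le_self (Nat.succ_ne_zero n) (h.mem_pow n x)) ?_⟩
  rw [hx, h.map_pow_g]

theorem mem_pow_succ_iff (n : ℕ) (x : B) :
    f ^ n * h.g x ∈ I ^ (n + 2) ↔ x ∈ Ideal.span {algebraMap A B f} := by
  rw [Ideal.mem_span_singleton]
  constructor
  · intro hx
    obtain ⟨c, hc⟩ := h.pow_dvd (n + 2) hx
    rw [h.map_pow_g] at hc
    refine ⟨c, ?_⟩
    have h1 : algebraMap A B f ^ (n + 1) * x = algebraMap A B f ^ (n + 1) * (algebraMap A B f * c) := by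
      rw [hc]; ring
    exact (mul_cancel_left_mem_nonZeroDivisors (pow_mem h.nzd (n + 1))).1 h1
  · rintro ⟨c, rfl⟩
    have h1 : f ^ n * h.g (algebraMap A B f * c) = f ^ (n + 1) * h.g c := by
      apply h.inj' (Ideal.pow_le_self (Nat.succ_ne_zero n) (h.mem_pow n _))
        (Ideal.pow_le_self (Nat.succ_ne_zero (n + 1)) (h.mem_pow (n + 1) c))
      rw [h.map_pow_g, h.map_pow_g]; ring
    rw [h1]
    exact h.mem_pow (n + 1) c

variable {R : Type*} [CommRing R] [Algebra R A] [Algebra R B] [IsScalarTower R A B]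

/-- The map `B / f B → A / I ^ (n + 2)` given by multiplication by `f ^ (n + 1)`. -/
noncomputable def θ (n : ℕ) : (B ⧸ Ideal.span {algebraMap A B f}) →ₗ[A] (A ⧸ I ^ (n + 2)) :=
  Submodule.liftQ ((Ideal.span {algebraMap A B f}).restrictScalars A)
    ((Submodule.mkQ (I ^ (n + 2))).comp ((LinearMap.mulLeft A (f ^ n)).comp h.g))
    (fun x hx => by
      have := (h.mem_pow_succ_iff n x).2 hx
      rw [LinearMap.mem_ker]
      exact (Submodule.Quotient.mk_eq_zero _).2 this)

theorem θ_mk (n : ℕ) (x : B) : h.θ n (Ideal.Quotient.mk _ x) = Ideal.Quotient.mk _ (f ^ n * h.g x) := rfl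

theorem flat_quot_pow [Module.Flat R (A ⧸ I)] [Module.Flat R (B ⧸ Ideal.span {algebraMap A B f})]
    (n : ℕ) : Module.Flat R (A ⧸ I ^ (n + 1)) := by
  induction n with
  | zero =>
    rw [zero_add, pow_one]; infer_instance
  | succ n ih =>
    refine flat_of_extension (R := R) ((h.θ n).restrictScalars R)
      (((Ideal.Quotient.factorₐ R (Ideal.pow_le_pow_right (I := I) (Nat.le_succ (n + 1))))).toLinearMap)
      ?_ ?_ ?_
    · rw [injective_iff_map_eq_zero]
      intro x hx
      obtain ⟨x, rfl⟩ := Ideal.Quotient.mk_surjective x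
      change h.θ n _ = 0 at hx
      rw [θ_mk, Ideal.Quotient.eq_zero_iff_mem, h.mem_pow_succ_iff] at hx
      exact Ideal.Quotient.eq_zero_iff_mem.2 hx
    · intro x
      obtain ⟨x, rfl⟩ := Ideal.Quotient.mk_surjective x
      exact ⟨Ideal.Quotient.mk _ x, rfl⟩
    · intro x
      obtain ⟨x, rfl⟩ := Ideal.Quotient.mk_surjective x
      change Ideal.Quotient.mk (I ^ (n + 1)) x = 0 ↔ _
      rw [Ideal.Quotient.eq_zero_iff_mem]
      constructor
      · intro hx
        obtain ⟨b, hb⟩ := h.exists_eq n hx
        refine ⟨Ideal.Quotient.mk _ b, ?_⟩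
        change h.θ n _ = _
        rw [θ_mk, ← hb]
      · rintro ⟨b, hb⟩
        obtain ⟨b, rfl⟩ := Ideal.Quotient.mk_surjective b
        change h.θ n _ = _ at hb
        rw [θ_mk, Ideal.Quotient.eq] at hb
        have h1 := Ideal.pow_le_pow_right (I := I) (Nat.le_succ (n + 1)) hb
        have h2 := sub_mem (h.mem_pow n b) h1
        rwa [sub_sub_cancel] at h2

end Pinch

end K484.PinchFlat
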