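import Groth.Agent.BlowUp.K484.PinchBlow
import Groth.Agent.S2896

/-!
# Pinching along an effective Cartier divisor: flatness
-/

set_option autoImplicit false
universe u

open CategoryTheory AlgebraicGeometry TopologicalSpace Limits BlowUp
open Groth.Agent.Ega4dB Groth.Agent.Ega4dB.BlowUpChart Groth.Agent.Divis.BlowChart
open K484.PinchSec K484.PinchAlg K484.PinchFlat K484.PinchLoc K484.PinchBlow Groth.Agent.S2896

namespace K484.PinchFlatGeom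

theorem flat_subschemeι {X Y S : Scheme.{u}} (j : Y ⟶ X) [IsClosedImmersion j] (s : X ⟶ S)
    [Flat (j ≫ s)] : Flat (j.ker.subschemeι ≫ s) := by
  have h1 : j.ker.subschemeι ≫ s = inv j.toImage ≫ (j ≫ s) := by
    rw [IsIso.eq_inv_comp, ← Category.assoc]
    congr 1
    exact j.toImage_imageι
  rw [h1]
  infer_instance

variable {Xt Dt D X : Scheme.{u}} {ι : Dt ⟶ Xt} [IsClosedImmersion ι] {h : Dt ⟶ D}
  {b : Xt ⟶ X} [IsAffineHom b] {j : D ⟶ X} [IsClosedImmersion j]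

theorem flat_pow [IsFinite h] (w : ι ≫ b = h ≫ j) (hE : ExSec ι h b j) (hU : UnSec b j)
    (hι : BlowUp.IsEffCartierIdeal ι.ker) {S : Scheme.{u}} (sX : X ⟶ S) [Flat (j ≫ sX)]
    [Flat (ι ≫ b ≫ sX)] (n : ℕ) : Flat ((j.ker ^ (n + 1)).subschemeι ≫ sX) := by
  have h1 : Flat (j.ker.subschemeι ≫ sX) := flat_subschemeι j sX
  have h2 : Flat (ι.ker.subschemeι ≫ b ≫ sX) := flat_subschemeι ι (b ≫ sX)
  apply flat_of_forall_exists
  intro e
  obtain ⟨W, hW, hsW, -⟩ := exists_isAffineOpen_mem_and_subset (U := (⊤ : S.Opens))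
    (x := sX ((j.ker ^ (n + 1)).subschemeι e)) trivial
  obtain ⟨O, f, hxO, hOV, hp, hspan⟩ := exists_pinch w hE hU hι ((j.ker ^ (n + 1)).subschemeι e)
    (sX ⁻¹ᵁ W) hsW
  obtain ⟨k, hk, hkι, hkr⟩ := exists_open_subscheme (j.ker ^ (n + 1)) O.2.fromSpec
  refine ⟨_, k, hk, hkr e (by rw [O.2.range_fromSpec]; exact hxO), ?_⟩
  rw [← Category.assoc, hkι, Category.assoc, comap_fromSpec,
    ← IsAffineOpen.SpecMap_appLE_fromSpec sX hW O.2 hOV, ← Category.assoc]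
  have hfl1 := flat_thickening sX j.ker O.2 hW hOV
  have hOV' : b ⁻¹ᵁ O.1 ≤ (b ≫ sX) ⁻¹ᵁ W := by
    rw [Scheme.Hom.comp_preimage]
    exact b.preimage_mono hOV
  have hfl2 := flat_thickening (b ≫ sX) ι.ker (O.2.preimage b) hW hOV'
  letI a1 : Algebra Γ(X, O.1) Γ(Xt, b ⁻¹ᵁ O.1) := (b.app O.1).hom.toAlgebra
  letI a2 : Algebra Γ(S, W) Γ(X, O.1) := (sX.appLE W O.1 hOV).hom.toAlgebra
  letI a3 : Algebra Γ(S, W) Γ(Xt, b ⁻¹ᵁ O.1) := ((b ≫ sX).appLE W (b ⁻¹ᵁ O.1) hOV').hom.toAlgebra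
  have hst : IsScalarTower Γ(S, W) Γ(X, O.1) Γ(Xt, b ⁻¹ᵁ O.1) := by
    apply IsScalarTower.of_algebraMap_eq
    intro x
    change ((b ≫ sX).appLE W (b ⁻¹ᵁ O.1) hOV').hom x = (b.app O.1).hom ((sX.appLE W O.1 hOV).hom x)
    have : (b ≫ sX).appLE W (b ⁻¹ᵁ O.1) hOV' = sX.appLE W O.1 hOV ≫ b.app O.1 := by
      rw [← Scheme.Hom.appLE_eq_app, Scheme.Hom.appLE_comp_appLE]
    exact congr($(congrArg CommRingCat.Hom.hom this) x)
  have hm1 : Module.Flat Γ(S, W) (Γ(X, O.1) ⧸ j.ker.ideal O) := by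
    rw [← RingHom.flat_algebraMap_iff]
    exact hfl1
  have hm2 : Module.Flat Γ(S, W) (Γ(Xt, b ⁻¹ᵁ O.1) ⧸
      Ideal.span {algebraMap Γ(X, O.1) Γ(Xt, b ⁻¹ᵁ O.1) f}) := by
    rw [← RingHom.flat_algebraMap_iff]
    change ((Ideal.Quotient.mk (Ideal.span {(b.app O.1).hom f})).comp
      ((b ≫ sX).appLE W (b ⁻¹ᵁ O.1) hOV').hom).Flat
    rw [← hspan]
    exact hfl2
  have hm3 : Module.Flat Γ(S, W) (Γ(X, O.1) ⧸ j.ker.ideal O ^ (n + 1)) := hp.flat_quot_pow n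
  have hfl : ((Ideal.Quotient.mk ((j.ker ^ (n + 1)).ideal O)).comp (sX.appLE W O.1 hOV).hom).Flat := by
    rw [← RingHom.flat_algebraMap_iff] at hm3
    exact hm3
  have := (flat_idl_iff _ _).mpr hfl
  infer_instance

end K484.PinchFlatGeom
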