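import Groth.Agent.BlowUp.K484.PinchSec
import Groth.Agent.BlowUp.K484.PinchAlg
import Groth.Agent.BlowUp.K484.PinchFlat
import Groth.Agent.Divis.BlowChart2
import Groth.Agent.Divis.IdealFT
import Mathlib.AlgebraicGeometry.Morphisms.Finite

/-!
# Pinching along an effective Cartier divisor: the local structure
-/

set_option autoImplicit false
universe u

open CategoryTheory AlgebraicGeometry TopologicalSpace Limits
open Groth.Agent.Divis.CartierBasic Groth.Agent.Divis.BlowChart2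
open K484.PinchSec K484.PinchAlg K484.PinchFlat

namespace K484.PinchLoc

/-- Uniform version of local principality at a prime for a finitely generated ideal. -/
theorem exists_uniform {B : Type*} [CommRing B] (J : Ideal B) (hJ : J.FG) (n : Ideal B) [hn : n.IsPrime]
    (a : B) (h : ∀ x ∈ J, ∃ t ∉ n, t * x ∈ Ideal.span {a}) :
    ∃ t ∉ n, ∀ x ∈ J, t * x ∈ Ideal.span {a} := by
  classical
  obtain ⟨s, rfl⟩ := hJ
  choose! t ht ht' using h
  refine ⟨∏ x ∈ s, t x, ?_, ?_⟩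
  · intro hmem
    obtain ⟨x, hx, hxn⟩ := hn.prod_mem_iff.1 hmem
    exact ht x (Ideal.subset_span hx) hxn
  · let P : B := ∏ x ∈ s, t x
    let 𝔠 : Ideal B :=
      { carrier := {x | P * x ∈ Ideal.span {a}}
        add_mem' := fun {c d} hc hd => by
          change P * (c + d) ∈ Ideal.span {a}
          rw [mul_add]; exact add_mem hc hd
        zero_mem' := by
          change P * (0 : B) ∈ Ideal.span {a}
          rw [mul_zero]; exact zero_mem _
        smul_mem' := fun r c hc => by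
          change P * (r • c) ∈ Ideal.span {a}
          rw [smul_eq_mul, mul_left_comm]; exact Ideal.mul_mem_left _ _ hc }
    have h1 : Ideal.span (s : Set B) ≤ 𝔠 := by
      rw [Ideal.span_le]
      intro x hx
      change (∏ x ∈ s, t x) * x ∈ Ideal.span {a}
      rw [← Finset.mul_prod_erase s t hx, mul_comm (t x), mul_assoc]
      exact Ideal.mul_mem_left _ _ (ht' x (Ideal.subset_span hx))
    exact fun x hx => h1 hx

/-- An effective Cartier ideal on an affine open is locally principal, with uniform denominators. -/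
theorem exists_locPrincipal {X : Scheme.{u}} {𝓙 : X.IdealSheafData} (hJ : BlowUp.IsEffCartierIdeal 𝓙)
    (U : X.affineOpens) (n : Ideal Γ(X, U.1)) (hn : n.IsPrime) :
    ∃ a ∈ 𝓙.ideal U, ∃ t ∉ n, ∀ x ∈ 𝓙.ideal U, t * x ∈ Ideal.span {a} := by
  have hfg : (𝓙.ideal U).FG := by
    refine Groth.Agent.Divis.IdealFT.fg_of_cover 𝓙 U fun x _ => ?_
    obtain ⟨W, hxW, f, -, hf⟩ := hJ x
    exact ⟨W, hxW, by rw [hf]; exact ⟨{f}, by simp⟩⟩
  -- the point
  let x : X := U.2.fromSpec ⟨n, hn⟩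
  have hxU : x ∈ U.1 := by
    have : x ∈ Set.range U.2.fromSpec := ⟨_, rfl⟩
    rwa [U.2.range_fromSpec] at this
  have hxn : U.2.primeIdealOf ⟨x, hxU⟩ = ⟨n, hn⟩ :=
    U.2.fromSpec.isOpenEmbedding.injective (U.2.fromSpec_primeIdealOf ⟨x, hxU⟩)
  let := X.presheaf.algebra_section_stalk (⟨x, hxU⟩ : U.1)
  have hloc' : IsLocalization.AtPrime (X.presheaf.stalk x) (U.2.primeIdealOf ⟨x, hxU⟩).asIdeal :=
    U.2.isLocalization_stalk ⟨x, hxU⟩
  have hloc : IsLocalization.AtPrime (X.presheaf.stalk x) n := by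
    have e : (U.2.primeIdealOf ⟨x, hxU⟩).asIdeal = n := congrArg PrimeSpectrum.asIdeal hxn
    convert hloc' using 2
    exact e.symm
  obtain ⟨g, hg, hgE⟩ := exists_stalkIdeal_eq_span hJ x
  have hgm : g ∈ (𝓙.ideal U).map (algebraMap Γ(X, U.1) (X.presheaf.stalk x)) := by
    have : g ∈ stalkIdeal 𝓙 x := by rw [hgE]; exact Ideal.mem_span_singleton_self g
    rw [stalkIdeal_eq 𝓙 U hxU] at this
    exact this
  obtain ⟨⟨⟨a, ha⟩, s⟩, hs⟩ := (IsLocalization.mem_map_algebraMap_iff n.primeCompl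
    (X.presheaf.stalk x)).1 hgm
  dsimp only at hs
  refine ⟨a, ha, exists_uniform _ hfg n a fun y hy => ?_⟩
  have h1 : algebraMap Γ(X, U.1) (X.presheaf.stalk x) y ∈ Ideal.span {g} := by
    rw [← hgE, stalkIdeal_eq 𝓙 U hxU]
    exact Ideal.mem_map_of_mem _ hy
  obtain ⟨c, hc⟩ := Ideal.mem_span_singleton'.1 h1
  obtain ⟨⟨c', s'⟩, hc'⟩ := IsLocalization.surj n.primeCompl c
  dsimp only at hc'
  have h2 : algebraMap Γ(X, U.1) (X.presheaf.stalk x) ((s' : Γ(X, U.1)) * s * y) =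
      algebraMap Γ(X, U.1) (X.presheaf.stalk x) (c' * a) := by
    rw [map_mul, map_mul, map_mul, ← hc, ← hc', ← hs]; ring
  obtain ⟨s'', hs''⟩ := (IsLocalization.eq_iff_exists n.primeCompl (X.presheaf.stalk x)).1 h2
  refine ⟨(s'' : Γ(X, U.1)) * (s' * s), fun h => ?_, ?_⟩
  · have := (s'' * (s' * s)).2
    exact this h
  · rw [Ideal.mem_span_singleton]
    refine ⟨(s'' : Γ(X, U.1)) * c', ?_⟩
    calc (s'' : Γ(X, U.1)) * (s' * s) * y = s'' * (s' * s * y) := by ring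
      _ = s'' * (c' * a) := hs''
      _ = a * (s'' * c') := by ring

section Square

variable {Xt Dt D X : Scheme.{u}} {ι : Dt ⟶ Xt} [IsClosedImmersion ι] {h : Dt ⟶ D}
  {b : Xt ⟶ X} [IsAffineHom b] {j : D ⟶ X} [IsClosedImmersion j]

/-- the preimage of an affine open -/
abbrev bO (b : Xt ⟶ X) [IsAffineHom b] (O : X.affineOpens) : Xt.affineOpens := ⟨b ⁻¹ᵁ O.1, O.2.preimage b⟩

theorem exists_lift_ker (w : ι ≫ b = h ≫ j) (hE : ExSec ι h b j) (O : X.affineOpens)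
    (x : Γ(Xt, b ⁻¹ᵁ O.1)) (hx : x ∈ ι.ker.ideal (bO b O)) :
    ∃ i ∈ j.ker.ideal O, (b.app O.1).hom i = x := by
  rw [Scheme.Hom.ker_apply, RingHom.mem_ker] at hx
  obtain ⟨r, hr1, hr2⟩ := hE O.1 x 0 (ι ⁻¹ᵁ b ⁻¹ᵁ O.1) rfl
    (by rw [← Scheme.Hom.comp_preimage, ← Scheme.Hom.comp_preimage, w]) (by
      rw [map_zero, Scheme.Hom.appLE_eq_app]; exact hx)
  refine ⟨r, ?_, hr1⟩
  rw [Scheme.Hom.ker_apply, RingHom.mem_ker]
  exact hr2

theorem app_mem_ker (w : ι ≫ b = h ≫ j) (O : X.affineOpens) (i : Γ(X, O.1)) (hi : i ∈ j.ker.ideal O) :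
    (b.app O.1).hom i ∈ ι.ker.ideal (bO b O) := by
  rw [Scheme.Hom.ker_apply, RingHom.mem_ker] at hi ⊢
  have hle : ι ⁻¹ᵁ b ⁻¹ᵁ O.1 ≤ h ⁻¹ᵁ j ⁻¹ᵁ O.1 := by
    rw [← Scheme.Hom.comp_preimage, ← Scheme.Hom.comp_preimage, w]
  have h1 : b.app O.1 ≫ ι.app (b ⁻¹ᵁ O.1) = j.app O.1 ≫ h.appLE (j ⁻¹ᵁ O.1) (ι ⁻¹ᵁ b ⁻¹ᵁ O.1) hle := by
    rw [← Scheme.Hom.appLE_eq_app, ← Scheme.Hom.appLE_eq_app, ← Scheme.Hom.appLE_eq_app,
      Scheme.Hom.appLE_comp_appLE, Scheme.Hom.appLE_comp_appLE]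
    simp_rw [w]
  have h2 := congr($(congrArg CommRingCat.Hom.hom h1) i)
  rw [CommRingCat.hom_comp, CommRingCat.hom_comp, RingHom.comp_apply, RingHom.comp_apply, hi,
    map_zero] at h2
  exact h2

theorem eq_zero_of_app_eq_zero (hU : UnSec b j) (O : X.affineOpens) (i : Γ(X, O.1))
    (hi : i ∈ j.ker.ideal O) (h0 : (b.app O.1).hom i = 0) : i = 0 := by
  rw [Scheme.Hom.ker_apply, RingHom.mem_ker] at hi
  exact hU O.1 i 0 (by rw [map_zero]; exact h0) (by rw [map_zero]; exact hi)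

/-- The inverse image ideal is the ideal of the divisor. -/
theorem comap_ker_eq (w : ι ≫ b = h ≫ j) (hE : ExSec ι h b j) : j.ker.comap b = ι.ker := by
  apply Groth.Agent.Divis.IdealComap.ext_of_forall_mem
  intro x
  obtain ⟨O, hO, hxO, -⟩ := exists_isAffineOpen_mem_and_subset (U := (⊤ : X.Opens)) (x := b x) trivial
  refine ⟨bO b ⟨O, hO⟩, hxO, ?_⟩
  rw [Groth.Agent.Divis.IdealComap.ideal_comap j.ker b ⟨O, hO⟩ (bO b ⟨O, hO⟩) le_rfl,
    Scheme.Hom.appLE_eq_app]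
  apply le_antisymm
  · rw [Ideal.map_le_iff_le_comap]
    exact fun i hi => app_mem_ker w ⟨O, hO⟩ i hi
  · intro y hy
    obtain ⟨i, hi, rfl⟩ := exists_lift_ker w hE ⟨O, hO⟩ y hy
    exact Ideal.mem_map_of_mem _ hi

theorem appLE_finite {X Y : Scheme.{u}} (h : X ⟶ Y) [IsFinite h] (U : Y.Opens) (hU : IsAffineOpen U)
    (V : X.Opens) (hV : V = h ⁻¹ᵁ U) : (h.appLE U V hV.le).hom.Finite := by
  subst hV
  rw [Scheme.Hom.appLE_eq_app]
  exact h.finite_app U hU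

/-- The closed subscheme over an affine open is finite over the base ring. -/
theorem finite_quotient [IsFinite h] (w : ι ≫ b = h ≫ j) (O : X.affineOpens) :
    ((Ideal.Quotient.mk (ι.ker.ideal (bO b O))).comp (b.app O.1).hom).Finite := by
  have hle : ι ⁻¹ᵁ b ⁻¹ᵁ O.1 = h ⁻¹ᵁ j ⁻¹ᵁ O.1 := by
    rw [← Scheme.Hom.comp_preimage, ← Scheme.Hom.comp_preimage, w]
  have h1 : b.app O.1 ≫ ι.app (b ⁻¹ᵁ O.1) = j.app O.1 ≫ h.appLE (j ⁻¹ᵁ O.1) (ι ⁻¹ᵁ b ⁻¹ᵁ O.1) hle.le := by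
    rw [← Scheme.Hom.appLE_eq_app, ← Scheme.Hom.appLE_eq_app, ← Scheme.Hom.appLE_eq_app,
      Scheme.Hom.appLE_comp_appLE, Scheme.Hom.appLE_comp_appLE]
    simp_rw [w]
  have h2 : (j.app O.1 ≫ h.appLE (j ⁻¹ᵁ O.1) (ι ⁻¹ᵁ b ⁻¹ᵁ O.1) hle.le).hom.Finite := by
    rw [CommRingCat.hom_comp]
    exact RingHom.Finite.comp (appLE_finite h _ (O.2.preimage j) _ hle)
      (RingHom.Finite.of_surjective _ (j.app_surjective O.1 O.2))
  rw [← h1, CommRingCat.hom_comp] at h2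
  have hsurj : Function.Surjective (ι.app (b ⁻¹ᵁ O.1)).hom :=
    ι.app_surjective _ (O.2.preimage b)
  have hk : RingHom.ker (ι.app (b ⁻¹ᵁ O.1)).hom = ι.ker.ideal (bO b O) := by
    rw [Scheme.Hom.ker_apply]
  let e := (Ideal.quotEquivOfEq hk.symm).trans (RingHom.quotientKerEquivOfSurjective hsurj)
  have h4 : (Ideal.Quotient.mk (ι.ker.ideal (bO b O))).comp (b.app O.1).hom =
      e.symm.toRingHom.comp ((ι.app (b ⁻¹ᵁ O.1)).hom.comp (b.app O.1).hom) := by
    ext x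
    apply e.injective
    simp only [RingHom.comp_apply]
    change _ = e (e.symm _)
    rw [RingEquiv.apply_symm_apply]
    rfl
  rw [h4]
  exact RingHom.Finite.comp (RingHom.Finite.of_surjective _ e.symm.surjective) h2

/-- The pinching structure near any point of the base. -/
theorem exists_pinch [IsFinite h] (w : ι ≫ b = h ≫ j) (hE : ExSec ι h b j) (hU : UnSec b j)
    (hι : BlowUp.IsEffCartierIdeal ι.ker) (x : X) (V : X.Opens) (hxV : x ∈ V) :
    ∃ (O : X.affineOpens) (f : Γ(X, O.1)), x ∈ O.1 ∧ O.1 ≤ V ∧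
      @Pinch Γ(X, O.1) Γ(Xt, b ⁻¹ᵁ O.1) _ _ (b.app O.1).hom.toAlgebra (j.ker.ideal O) f ∧
      ι.ker.ideal (bO b O) = Ideal.span {(b.app O.1).hom f} := by
  obtain ⟨O, hO, hxO, hOV⟩ := exists_isAffineOpen_mem_and_subset (U := V) (x := x) hxV
  letI := (b.app O).hom.toAlgebra
  have hfin : Module.Finite Γ(X, O) (Γ(Xt, b ⁻¹ᵁ O) ⧸ ι.ker.ideal (bO b ⟨O, hO⟩)) :=
    finite_quotient w ⟨O, hO⟩
  obtain ⟨f, hf, c, hc, hcf⟩ := exists_generator (B := Γ(Xt, b ⁻¹ᵁ O)) (j.ker.ideal ⟨O, hO⟩)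
    (ι.ker.ideal (bO b ⟨O, hO⟩)) (exists_lift_ker w hE ⟨O, hO⟩)
    (fun n hn => exists_locPrincipal hι (bO b ⟨O, hO⟩) n hn) (hO.primeIdealOf ⟨x, hxO⟩).asIdeal
  let O' : X.affineOpens := X.affineBasicOpen (U := ⟨O, hO⟩) c
  have hO'le : O'.1 ≤ O := X.basicOpen_le c
  have hxO' : x ∈ O'.1 := by
    have h1 : hO.primeIdealOf ⟨x, hxO⟩ ∈ hO.fromSpec ⁻¹ᵁ X.basicOpen c := by
      rw [hO.fromSpec_preimage_basicOpen]
      exact hc
    have h2 : hO.fromSpec (hO.primeIdealOf ⟨x, hxO⟩) ∈ X.basicOpen c := h1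
    rwa [hO.fromSpec_primeIdealOf ⟨x, hxO⟩] at h2
  let f' : Γ(X, O'.1) := X.presheaf.map (homOfLE hO'le).op f
  have hb : bO b O' ≤ bO b ⟨O, hO⟩ := b.preimage_mono hO'le
  have hnat : ∀ a : Γ(X, O), (b.app O'.1).hom (X.presheaf.map (homOfLE hO'le).op a) =
      Xt.presheaf.map (homOfLE hb).op ((b.app O).hom a) := by
    intro a
    have := b.naturality (homOfLE hO'le).op
    exact congr($(congrArg CommRingCat.Hom.hom this) a)
  have hf' : f' ∈ j.ker.ideal O' := by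
    rw [← j.ker.map_ideal (U := O') (V := ⟨O, hO⟩) hO'le]
    exact Ideal.mem_map_of_mem _ hf
  have hspan : ι.ker.ideal (bO b O') = Ideal.span {(b.app O'.1).hom f'} := by
    apply le_antisymm
    · rw [← ι.ker.map_ideal (U := bO b O') (V := bO b ⟨O, hO⟩) hb, Ideal.map_le_iff_le_comap]
      intro y hy
      have h1 := Ideal.mem_map_of_mem (Xt.presheaf.map (homOfLE hb).op).hom (hcf y hy)
      rw [map_mul, Ideal.map_span, Set.image_singleton] at h1
      have hu : IsUnit ((b.app O'.1).hom (X.presheaf.map (homOfLE hO'le).op c)) :=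
        (RingedSpace.isUnit_res_basicOpen X.toRingedSpace c).map (b.app O'.1).hom
      have e1 := hnat c
      have e2 := hnat f
      rw [Ideal.mem_comap]
      have h2 : (b.app O'.1).hom (X.presheaf.map (homOfLE hO'le).op c) *
          (Xt.presheaf.map (homOfLE hb).op).hom y ∈ Ideal.span {(b.app O'.1).hom f'} := by
        rw [e1]
        have e3 : (b.app O'.1).hom f' = Xt.presheaf.map (homOfLE hb).op ((b.app O).hom f) := e2
        rw [e3]
        exact h1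
      exact (Ideal.unit_mul_mem_iff_mem _ hu).1 h2
    · rw [Ideal.span_le, Set.singleton_subset_iff]
      exact app_mem_ker w O' f' hf'
  refine ⟨O', f', hxO', hO'le.trans hOV, ?_, hspan⟩
  letI := (b.app O'.1).hom.toAlgebra
  refine ⟨hf', ?_, ?_, ?_, ?_⟩
  · exact mem_nonZeroDivisors_of_ideal_eq_span hι (bO b O') _ hspan
  · intro y
    refine exists_lift_ker w hE O' _ ?_
    rw [hspan]
    exact Ideal.mem_span_singleton.2 (dvd_mul_right _ _)
  · intro i hi h0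
    exact eq_zero_of_app_eq_zero hU O' i hi h0
  · intro i hi
    have := app_mem_ker w O' i hi
    rw [hspan] at this
    exact Ideal.mem_span_singleton.1 this

end Square

end K484.PinchLoc
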