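import Groth.Agent.FlatB.PushSections

/-!
# Sections of a pushout of a closed immersion, when the pushout is affine under the other leg
-/

set_option autoImplicit false
universe u

open CategoryTheory AlgebraicGeometry TopologicalSpace Limits

namespace K484.PinchSec

variable {Xt Dt D W X : Scheme.{u}}

/-- existence of sections -/
def ExSec (ι : Dt ⟶ Xt) (h : Dt ⟶ D) (b : Xt ⟶ W) (j : D ⟶ W) : Prop :=
  ∀ (O : W.Opens) (s : Γ(Xt, b ⁻¹ᵁ O)) (t : Γ(D, j ⁻¹ᵁ O)) (V : Dt.Opens)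
    (hVa : V = ι ⁻¹ᵁ b ⁻¹ᵁ O) (hVb : V = h ⁻¹ᵁ j ⁻¹ᵁ O),
    ι.appLE (b ⁻¹ᵁ O) V hVa.le s = h.appLE (j ⁻¹ᵁ O) V hVb.le t →
      ∃ r : Γ(W, O), b.app O r = s ∧ j.app O r = t

/-- uniqueness of sections -/
def UnSec (b : Xt ⟶ W) (j : D ⟶ W) : Prop :=
  ∀ (O : W.Opens) (r r' : Γ(W, O)), b.app O r = b.app O r' → j.app O r = j.app O r' → r = r'

theorem ExSec.comp {ι : Dt ⟶ Xt} {h : Dt ⟶ D} {b : Xt ⟶ W} {j : D ⟶ W} (H : ExSec ι h b j)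
    (e : W ⟶ X) [IsIso e] : ExSec ι h (b ≫ e) (j ≫ e) := by
  intro O s t V hVa hVb hst
  obtain ⟨r, hr1, hr2⟩ := H (e ⁻¹ᵁ O) s t V hVa hVb hst
  obtain ⟨r', rfl⟩ := (ConcreteCategory.bijective_of_isIso (e.app O)).2 r
  refine ⟨r', ?_, ?_⟩
  · rw [Scheme.Hom.comp_app]; exact hr1
  · rw [Scheme.Hom.comp_app]; exact hr2

theorem UnSec.comp {b : Xt ⟶ W} {j : D ⟶ W} (H : UnSec b j) (e : W ⟶ X) [IsIso e] :
    UnSec (b ≫ e) (j ≫ e) := by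
  intro O r r' h1 h2
  rw [Scheme.Hom.comp_app] at h1 h2
  exact (ConcreteCategory.bijective_of_isIso (e.app O)).1 (H (e ⁻¹ᵁ O) _ _ h1 h2)

theorem exists_sections (ι : Dt ⟶ Xt) [IsClosedImmersion ι] (h : Dt ⟶ D)
    (b : Xt ⟶ X) [IsAffineHom b] (j : D ⟶ X) [IsClosedImmersion j] (hP : IsPushout ι h b j) :
    ExSec ι h b j ∧ UnSec b j := by
  have H : ∀ y : D, ∃ (U : Xt.Opens) (V : D.Opens), IsAffineOpen U ∧ IsAffineOpen V ∧ y ∈ V ∧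
      ι ⁻¹ᵁ U = h ⁻¹ᵁ V := by
    intro y
    obtain ⟨O, hO, hyO, -⟩ := exists_isAffineOpen_mem_and_subset (U := (⊤ : X.Opens)) (x := j y) trivial
    refine ⟨b ⁻¹ᵁ O, j ⁻¹ᵁ O, hO.preimage b, hO.preimage j, hyO, ?_⟩
    rw [← Scheme.Hom.comp_preimage, ← Scheme.Hom.comp_preimage, hP.w]
  obtain ⟨W, a, c, hPo, -, -, -, -, -, -, -, -, hex, hun⟩ :=
    Groth.Agent.FlatB.PushSections.exists_pushout_sections ι h H
  have h1 : ExSec ι h a c := fun O s t V hVa hVb hst => (hex O s t V hVa hVb hst).exists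
  have h2 : UnSec a c := hun
  let e := hPo.isoIsPushout _ _ hP
  have e1 : a ≫ e.hom = b := hPo.inl_isoIsPushout_hom _ _ hP
  have e2 : c ≫ e.hom = j := hPo.inr_isoIsPushout_hom _ _ hP
  have h3 := h1.comp e.hom
  have h4 := h2.comp e.hom
  rw [e1, e2] at h3 h4
  exact ⟨h3, h4⟩

end K484.PinchSec
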