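import Groth.Agent.Lefpen.H705.ChartPoly
import Groth.Agent.Lefpen.H716.CIGeom
import Groth.Agent.Ega1.LocNoethNhd
import Groth.Agent.BlowUp.K484.HypComap
import Mathlib.RingTheory.Nullstellensatz

/-!
# A closed point of projective space is cut out by linear forms

* `exists_forms`: over an algebraically closed field, the ideal of a closed point of `P^N` is generated by `N` linear
  forms.
-/

set_option autoImplicit false
universe u

open CategoryTheory AlgebraicGeometry Limits TopologicalSpace Opposite MvPolynomial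

namespace K484.PlanePt

open LefPen Groth.Agent.Lefpen.H705.HypIdeal Groth.Agent.Lefpen.H705.SecIdeal Groth.Agent.Lefpen.H705.ChartPoly
open Groth.Agent.Fdesc.LocGen Groth.Agent.Sga5

theorem sub_eval_mem {N : ℕ} {k : Type u} [Field k] (c : Fin N → k) (p : MvPolynomial (Fin N) k) :
    p - C (MvPolynomial.eval c p) ∈ Ideal.span (Set.range fun l => (X l - C (c l) : MvPolynomial (Fin N) k)) := by
  induction p using MvPolynomial.induction_on with
  | C a => simp
  | add p q hp hq =>
    have : p + q - C (MvPolynomial.eval c (p + q)) = (p - C (MvPolynomial.eval c p)) + (q - C (MvPolynomial.eval c q)) := by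
      rw [map_add, map_add]; ring
    rw [this]
    exact Ideal.add_mem _ hp hq
  | mul_X p i hp =>
    have : p * X i - C (MvPolynomial.eval c (p * X i)) =
        (p - C (MvPolynomial.eval c p)) * X i + C (MvPolynomial.eval c p) * (X i - C (c i)) := by
      rw [map_mul, MvPolynomial.eval_X, map_mul]; ring
    rw [this]
    exact Ideal.add_mem _ (Ideal.mul_mem_right _ _ hp) (Ideal.mul_mem_left _ _ (Ideal.subset_span ⟨i, rfl⟩))

theorem vanishingIdeal_eq {N : ℕ} {k : Type u} [Field k] (c : Fin N → k) :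
    MvPolynomial.vanishingIdeal k {c} = Ideal.span (Set.range fun l => (X l - C (c l) : MvPolynomial (Fin N) k)) := by
  apply le_antisymm
  · intro p hp
    have h1 : MvPolynomial.eval c p = 0 := by
      have := (MvPolynomial.mem_vanishingIdeal_singleton_iff c p).1 hp
      simpa using this
    have h2 := sub_eval_mem c p
    rwa [h1, map_zero, sub_zero] at h2
  · rw [Ideal.span_le]
    rintro _ ⟨l, rfl⟩
    refine (MvPolynomial.mem_vanishingIdeal_singleton_iff c _).2 ?_
    simp

theorem ideal_vanishing {X : Scheme.{u}} (s : X) (hcl : IsClosed ({s} : Set X)) {U : X.Opens} (hU : IsAffineOpen U)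
    (hs : s ∈ U) :
    (Scheme.IdealSheafData.vanishingIdeal ⟨{s}, hcl⟩).ideal ⟨U, hU⟩ = (hU.primeIdealOf ⟨s, hs⟩).asIdeal := by
  have h1 : (Scheme.IdealSheafData.vanishingIdeal ⟨{s}, hcl⟩).ideal ⟨U, hU⟩ =
      PrimeSpectrum.vanishingIdeal (hU.fromSpec ⁻¹' ({s} : Set X)) := rfl
  have h2 : hU.fromSpec ⁻¹' ({s} : Set X) = {hU.primeIdealOf ⟨s, hs⟩} := by
    ext p
    simp only [Set.mem_preimage]
    constructor
    · intro hp
      apply hU.fromSpec.isOpenEmbedding.injective
      rw [hU.fromSpec_primeIdealOf]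
      exact hp
    · rintro rfl
      rw [hU.fromSpec_primeIdealOf ⟨s, hs⟩]
      exact rfl
  exact h1.trans ((congrArg PrimeSpectrum.vanishingIdeal h2).trans (PrimeSpectrum.vanishingIdeal_singleton _))

theorem ideal_eq_top_of_disjoint {X : Scheme.{u}} (I : X.IdealSheafData) (V : X.affineOpens)
    (h : ∀ x ∈ V.1, x ∉ I.support) : I.ideal V = ⊤ := by
  rw [← PrimeSpectrum.zeroLocus_empty_iff_eq_top]
  have h1 := I.coe_support_inter V
  have h2 := V.2.fromSpec_image_zeroLocus (I.ideal V)
  rw [← h1] at h2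
  have h3 : ((I.support : Set X) ∩ (V.1 : Set X)) = ∅ := by
    ext x
    simp only [Set.mem_inter_iff, Set.mem_empty_iff_false, iff_false, not_and]
    exact fun hx hV => h x hV hx
  rw [h3, Set.image_eq_empty] at h2
  exact h2

variable {N : ℕ} {k : Type u} [Field k]

/-- The linear form `T_{j.succAbove l} - c T_j`. -/
noncomputable def lf (j : Fin (N + 1)) (l : Fin N) (c : k) : Form N k 1 :=
  ⟨X (j.succAbove l) - C c * X j, by
    have h1 : (X (j.succAbove l) : MvPolynomial (Fin (N + 1)) k).IsHomogeneous 1 := isHomogeneous_X _ _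
    have h2 : (C c * X j : MvPolynomial (Fin (N + 1)) k).IsHomogeneous 1 := by
      have := (isHomogeneous_C (Fin (N + 1)) c).mul (isHomogeneous_X k j)
      rwa [zero_add] at this
    exact h1.sub h2⟩

theorem lf_ne_zero (j : Fin (N + 1)) (l : Fin N) (c : k) : (lf j l c).1 ≠ 0 := by
  intro h
  have h1 := congrArg (MvPolynomial.eval (Pi.single (j.succAbove l) 1)) h
  change MvPolynomial.eval _ (X (j.succAbove l) - C c * X j) = _ at h1
  rw [map_sub, map_mul, MvPolynomial.eval_X, MvPolynomial.eval_X, MvPolynomial.eval_C, map_zero, Pi.single_eq_same,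
    Pi.single_eq_of_ne (Fin.succAbove_ne j l).symm, mul_zero, sub_zero] at h1
  exact one_ne_zero h1

theorem dehom_lf (j : Fin (N + 1)) (l : Fin N) (c : k) :
    LefPen.dehom (lf j l c) j = polyToChart j (X l - C c) := by
  rw [dehom_eq]
  congr 1
  change ProjChart.dehom N k j (X (j.succAbove l) - C c * X j) = _
  rw [map_sub, map_mul, ProjChart.dehom_X, ProjChart.dehom_X_self, mul_one]
  congr 1
  simp

/-- **A closed point is cut out by `N` linear forms.** -/
theorem exists_forms [IsAlgClosed k] (x : CohB1.ProjSpace N k) (hx : IsClosed ({x} : Set (CohB1.ProjSpace N k))) :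
    ∃ s : Fin N → Form N k 1, (∀ l, (s l).1 ≠ 0) ∧
      (⨆ G ∈ Set.range s, hypIdeal G) = Scheme.IdealSheafData.vanishingIdeal ⟨{x}, hx⟩ := by
  obtain ⟨j, hj⟩ : ∃ j, x ∈ chart N k j := Groth.Agent.PerfB.ProjSpaceCover.exists_mem_basicOpen_X N k x
  have hU := isAffineOpen_chart (r := N) (k := k) j
  set P := (hU.primeIdealOf ⟨x, hj⟩).asIdeal with hP
  have hPmax : P.IsMaximal := hU.primeIdealOf_isMaximal_of_isClosed ⟨x, hj⟩ hx
  have hbij := polyToChart_bijective (r := N) (k := k) j
  have hmax : (P.comap (polyToChart j)).IsMaximal := Ideal.comap_isMaximal_of_surjective _ hbij.2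
  obtain ⟨c, hc⟩ := MvPolynomial.isMaximal_iff_eq_vanishingIdeal_singleton.1 hmax
  refine ⟨fun l => lf j l (c l), fun l => lf_ne_zero j l _, ?_⟩
  have hB := ideal_vanishing x hx hU hj
  have hA : (⨆ G ∈ Set.range (fun l => lf j l (c l)), hypIdeal G).ideal ⟨chart N k j, hU⟩ = P := by
    rw [biSup_hypIdeal_ideal_of_le _ j ⟨chart N k j, hU⟩ le_rfl, ← Set.range_comp]
    have h1 : (fun G => ores (le_refl (chart N k j)) (LefPen.dehom G j)) ∘ (fun l => lf j l (c l)) =
        (polyToChart j) ∘ (fun l => (X l - C (c l) : MvPolynomial (Fin N) k)) := by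
      funext l
      change ores le_rfl (LefPen.dehom (lf j l (c l)) j) = _
      rw [ores_refl, dehom_lf]
      rfl
    rw [h1, Set.range_comp, ← Ideal.map_span, ← vanishingIdeal_eq, ← hc, Ideal.map_comap_of_surjective _ hbij.2]
  set A := ⨆ G ∈ Set.range (fun l => lf j l (c l)), hypIdeal G with hAdef
  set B := Scheme.IdealSheafData.vanishingIdeal ⟨{x}, hx⟩ with hBdef
  have hBs : (B.support : Set (CohB1.ProjSpace N k)) = {x} := Scheme.IdealSheafData.coe_support_vanishingIdeal _
  have hAs : ∀ y, y ∈ A.support → y = x := by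
    intro y hy
    have h1 : ∀ l, (X (j.succAbove l) - C (c l) * X j : MvPolynomial (Fin (N + 1)) k) ∈
        (ProjectiveSpectrum.asHomogeneousIdeal y).toIdeal := by
      intro l
      have h2 : A = ⨆ G : Set.range (fun l => lf j l (c l)), hypIdeal G.1 := by
        rw [hAdef, ← iSup_subtype'']
      rw [h2, Groth.Agent.Lefpen.H716.CIGeom.mem_support_iSup_iff] at hy
      have h3 := (Groth.Agent.Lefpen.H716.CIGeom.mem_support_hypIdeal_iff _ y).1 (hy ⟨lf j l (c l), l, rfl⟩)
      by_contra h4
      exact h3 h4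
    have hyj : y ∈ chart N k j := by
      intro hcon
      obtain ⟨i, hi⟩ : ∃ i, y ∈ chart N k i := Groth.Agent.PerfB.ProjSpaceCover.exists_mem_basicOpen_X N k y
      apply hi
      rcases Fin.eq_self_or_eq_succAbove j i with rfl | ⟨l, rfl⟩
      · exact hcon
      · have h5 := Ideal.add_mem _ (h1 l) (Ideal.mul_mem_left _ (C (c l)) hcon)
        rwa [sub_add_cancel] at h5
    have h6 : y ∈ A.support := hy
    rw [Scheme.IdealSheafData.mem_support_iff_of_mem (U := ⟨chart N k j, hU⟩) hyj, hA] at h6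
    have h7 : P ≤ (hU.primeIdealOf ⟨y, hyj⟩).asIdeal := by
      intro f hf
      by_contra hcon
      rw [Scheme.mem_zeroLocus_iff] at h6
      exact h6 f hf ((Groth.Agent.Ega1.LocNoethNhd.mem_basicOpen_iff_notMem_primeIdealOf hU ⟨y, hyj⟩ f).2 hcon)
    have h9 : hU.primeIdealOf ⟨x, hj⟩ = hU.primeIdealOf ⟨y, hyj⟩ :=
      PrimeSpectrum.ext (hPmax.eq_of_le (hU.primeIdealOf ⟨y, hyj⟩).2.ne_top h7)
    have h10 := congrArg hU.fromSpec h9
    rw [hU.fromSpec_primeIdealOf, hU.fromSpec_primeIdealOf] at h10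
    exact h10.symm
  have key : ∀ y : CohB1.ProjSpace N k, ∃ W : (CohB1.ProjSpace N k).affineOpens, y ∈ W.1 ∧ A.ideal W = B.ideal W := by
    intro y
    by_cases hy : y = x
    · subst hy
      exact ⟨⟨chart N k j, hU⟩, hj, by rw [hA, hB]⟩
    · let V : (CohB1.ProjSpace N k).Opens := ⟨{x}ᶜ, hx.isOpen_compl⟩
      obtain ⟨W, hW, hyW, hle⟩ := exists_isAffineOpen_mem_and_subset (U := V) (x := y) hy
      have h1 : ∀ z ∈ W, z ≠ x := fun z hz => hle hz
      refine ⟨⟨W, hW⟩, hyW, ?_⟩
      rw [ideal_eq_top_of_disjoint A ⟨W, hW⟩ fun z hz hzA => h1 z hz (hAs z hzA),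
        ideal_eq_top_of_disjoint B ⟨W, hW⟩ fun z hz hzB => h1 z hz (by
          have : z ∈ (B.support : Set (CohB1.ProjSpace N k)) := hzB
          rw [hBs] at this
          exact this)]
  choose W hW hW' using key
  refine Scheme.IdealSheafData.ext_of_iSup_eq_top W ?_ hW'
  rw [eq_top_iff]
  intro y _
  exact Opens.mem_iSup.2 ⟨y, hW y⟩

end K484.PlanePt
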