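import Groth.Agent.BlowUp.K484.CutSeq
import Groth.Agent.BlowUp.K484.BlowLeray
import Groth.Agent.BlowUp.K484.PlanePt
import Groth.Agent.Dix.InterSurf
import Groth.Agent.Divis.EffCartier

/-!
# Cohomology of line bundles on the blow-up of the projective plane at a closed point

`h = [σ^* O(1)]`, `e = [I_E]`.

* `exc_step`: the passage from `σ^* y · e^m` to `σ^* y · e^(m+1)` (blow-up of any smooth surface);
* `exists_pencil`: a morphism `ρ : X ⟶ P¹` with `ρ^* O(1) = h e`;
* `nums`: all cohomology of `h^p e^m`.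
-/

set_option autoImplicit false
set_option linter.unusedSectionVars false
universe u

open CategoryTheory CategoryTheory.Limits AlgebraicGeometry Opposite TopologicalSpace

namespace K484.PlaneBlow

open Groth.Agent Groth.Agent.Dix.PointIdeal Groth.Agent.Grpsch.PicGrp Groth.Agent.Fga.HShift
open Groth.Agent.Lefpen.H21.PicTwist K700.PicVan K700.HDim K484.CutSeq K484.HypComap

section Gen

open Groth.Agent.Dix.IdealModCartier in
theorem genericPoint_notMem_support {Y : Scheme.{u}} [IsIntegral Y] {D : Y.IdealSheafData}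
    (hD : BlowUp.IsEffCartierIdeal D) : genericPoint Y ∉ D.support := by
  obtain ⟨U, a, hy, ha⟩ := exists_genOn hD (genericPoint Y)
  have hne : Nonempty U.1 := ⟨⟨_, hy⟩⟩
  have h0 := ha U le_rfl
  have h1 : D.ideal U = Ideal.span {a} := by simpa using h0.2
  have h2 : a ≠ 0 := by
    have h3 : a ∈ nonZeroDivisors Γ(Y, U.1) := by simpa using h0.1
    exact nonZeroDivisors.ne_zero h3
  rw [Scheme.IdealSheafData.mem_support_iff_of_mem hy, h1]
  simp only [Scheme.zeroLocus_span, Scheme.zeroLocus_singleton]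
  intro h
  apply h
  have h4 : ((Y.basicOpen a : Y.Opens) : Set Y).Nonempty := by
    rw [Set.nonempty_iff_ne_empty]
    intro h5
    apply h2
    exact (basicOpen_eq_bot_iff a).1 (TopologicalSpace.Opens.ext h5)
  exact ((genericPoint_spec Y).mem_open_set_iff (Y.basicOpen a).isOpen).2 (by simpa using h4)

theorem mc_pow {Y : Scheme.{u}} {D : Y.IdealSheafData} (hD : BlowUp.IsEffCartierIdeal D) (n : ℕ) :
    ∃ h : BlowUp.IsEffCartierIdeal (D ^ n), mc (D ^ n) h = mc D hD ^ n := by
  induction n with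
  | zero =>
    have h0 : BlowUp.IsEffCartierIdeal (D ^ 0) := by
      rw [pow_zero, Scheme.IdealSheafData.one_eq_top]
      exact Divis.EffCartier.isEff_top
    refine ⟨h0, ?_⟩
    have h1 : BlowUp.IsEffCartierIdeal (D ^ 0 * D ^ 0) := by rw [← pow_add]; exact h0
    have h2 := mc_mul h0 h0 h1
    have h3 : mc (D ^ 0 * D ^ 0) h1 = mc (D ^ 0) h0 := mc_congr _ _ (by rw [← pow_add])
    rw [h3] at h2
    exact (mul_eq_left.1 h2.symm).trans (pow_zero _).symm
  | succ n ih =>
    obtain ⟨h, e⟩ := ih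
    have h1 : BlowUp.IsEffCartierIdeal (D ^ n * D) := Divis.EffCartier.isEff_mul h hD
    have h2 : D ^ (n + 1) = D ^ n * D := pow_succ D n
    refine ⟨h2 ▸ h1, ?_⟩
    rw [mc_congr _ h1 h2, mc_mul h hD h1, e, pow_succ]

end Gen

section Exc

variable (k : Type u) [Field k] [IsAlgClosed k] {Y X : Scheme.{u}} [Y.Over (Spec (CommRingCat.of k))]
  [X.Over (Spec (CommRingCat.of k))] [SmoothOfRelativeDimension 2 (Y ↘ Spec (CommRingCat.of k))]
  [IsProper (X ↘ Spec (CommRingCat.of k))]
  (y : Y) (hy : IsClosed ({y} : Set Y)) (σ : X ⟶ Y) (hσ : BlowUp.IsBlowUp σ (pt y hy))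
  (hσk : σ ≫ (Y ↘ Spec (CommRingCat.of k)) = X ↘ Spec (CommRingCat.of k))
  (hdim : topologicalKrullDim X ≤ (2 : ℕ))

/-- The cohomology of `O(m)` on `P¹_K` over a field `k` with `[K : k] = 1`. -/
theorem isLine_twist (K : Type u) [Field K] [Algebra k K] (hK : Module.finrank k K = 1)
    [(CohB1.ProjSpace 1 K).Over (Spec (CommRingCat.of k))]
    (hconst : ((CohB1.ProjSpace 1 K) ↘ Spec (CommRingCat.of k)) =
      ((CohB1.ProjSpace 1 K) ↘ Spec (CommRingCat.of K)) ≫ Spec.map (CommRingCat.ofHom (algebraMap k K)))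
    {L : (CohB1.ProjSpace 1 K).Modules} {m : ℤ} (e : L ≅ Twist.twistProjSpace 1 K m) : IsLine k L m where
  zero hm := subsingleton_of_iso e.symm 0 (ProjNum.sub_zero' K 1 m (by omega) le_rfl)
  one hm := subsingleton_of_iso e.symm 1 (ProjNum.sub_top K 1 m (by push_cast; omega) le_rfl)
  two q hq := subsingleton_of_iso e.symm q (ProjNum.sub_mid K 1 m q (by omega) (by omega))
  euler := by
    rw [Dix.Cast0.eulerCharLE_const k K _ hconst, hK, Fga.PicMon.euler_iso K _ e 2, ProjNum.euler_line]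
    simp

include hσ hσk hdim in
/-- **The exceptional sequence.** -/
theorem exc_step (c : Pic Y) (m : ℤ) :
    Step k (pull σ c * mk (ClSub.idealMod ((pt y hy).comap σ)) (Dix.IdealModCartier.isInvertible_idealMod hσ.1) ^ m)
      (pull σ c * mk (ClSub.idealMod ((pt y hy).comap σ)) (Dix.IdealModCartier.isInvertible_idealMod hσ.1) ^ (m + 1)) m := by
  obtain ⟨hreg, hd⟩ := BlowLeray.reg (k := k) y hy
  have : IsRegularLocalRing (Y.presheaf.stalk y) := hreg
  have : Smooth (Y ↘ Spec (CommRingCat.of k)) := SmoothOfRelativeDimension.smooth 2 _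
  let alg : Algebra k (IsLocalRing.ResidueField (Y.presheaf.stalk y)) := Curv2.resAlgebra k Y y
  obtain ⟨i, hi, hker, hcomp, hN⟩ := K455.ExcCurve.exists_curve σ y hy hd hσ
  rw [hker] at hN
  let K := IsLocalRing.ResidueField (Y.presheaf.stalk y)
  let j : CohB1.ProjSpace 1 K ⟶ X := i
  have hj : IsClosedImmersion j := hi
  have hkerj : j.ker = (pt y hy).comap σ := hker
  have hcomp : j ≫ σ = CohB1.ProjSpace.toSpec 1 K ≫ Y.fromSpecResidueField y := hcomp
  have hN : Nonempty ((Scheme.Modules.pullback j).obj (ClSub.idealMod ((pt y hy).comap σ)) ≅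
    Twist.twistProjSpace 1 K 1) := hN
  let iO : (CohB1.ProjSpace 1 K).Over (Spec (CommRingCat.of k)) := ⟨j ≫ (X ↘ Spec (CommRingCat.of k))⟩
  have hconst : ((CohB1.ProjSpace 1 K) ↘ Spec (CommRingCat.of k)) =
      ((CohB1.ProjSpace 1 K) ↘ Spec (CommRingCat.of K)) ≫ Spec.map (CommRingCat.ofHom (algebraMap k K)) := by
    change j ≫ (X ↘ Spec (CommRingCat.of k)) = CohB1.ProjSpace.toSpec 1 K ≫
      Spec.map (CommRingCat.ofHom (Curv2.resMap k Y y))
    rw [← hσk, reassoc_of% hcomp]
    exact congrArg (CohB1.ProjSpace.toSpec 1 K ≫ ·) (VarietyB.ResMap.specMap_resMap (k := k) Y y).symm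
  have hK : Module.finrank k K = 1 := K455.ResOne.finrank_residueField k Y hy
  set ec := mk (ClSub.idealMod ((pt y hy).comap σ)) (Dix.IdealModCartier.isInvertible_idealMod hσ.1) with hec
  obtain ⟨M, hM, hMc⟩ := exists_mk (pull σ c * ec ^ m)
  have h1 : pull j (pull σ c) = 1 := by
    induction c using ind with | _ L hL => ?_
    have : Subsingleton (Spec (Y.residueField y)) := inferInstanceAs (Subsingleton (PrimeSpectrum (Y.residueField y)))
    obtain ⟨e⟩ := K455.ExcInt.pull_trivial (j ≫ σ) _ _ hcomp L hL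
    rw [pull_mk, pull_mk]
    exact (mk_eq_iff _ _).2 ⟨(Scheme.Modules.pullbackComp j σ).app L ≪≫ e⟩
  have h2 : pull j ec = o 1 K 1 := by
    rw [hec, pull_mk]
    exact (mk_eq_iff _ _).2 hN
  have h3 : pull j (mk M hM) = o 1 K m := by
    rw [← hMc, map_mul, map_zpow, h1, h2, one_mul, ← o_eq_zpow]
  rw [pull_mk] at h3
  obtain ⟨φ⟩ := (mk_eq_iff _ _).1 h3
  have key := step hdim j rfl ((pt y hy).comap σ) hkerj hσ.1 hM (isLine_twist k K hK hconst φ)
  rw [← hMc, mul_assoc] at key
  have h4 : ec ^ m * ec = ec ^ (m + 1) := (zpow_add_one ec m).symm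
  rw [← hec, h4] at key
  exact key

end Exc

section Plane

variable (k : Type u) [Field k] [IsAlgClosed k] (x : ↥(CohB1.ProjSpace 2 k))
  (hx : IsClosed ({x} : Set ↥(CohB1.ProjSpace 2 k))) {X : Scheme.{u}} [X.Over (Spec (CommRingCat.of k))]
  (σ : X ⟶ CohB1.ProjSpace 2 k) (hσk : σ ≫ CohB1.ProjSpace.toSpec 2 k = X ↘ Spec (CommRingCat.of k))
  (hσ : BlowUp.IsBlowUp σ (Scheme.IdealSheafData.vanishingIdeal ⟨{x}, hx⟩))

/-- The class of the ideal of the exceptional curve. -/
noncomputable abbrev ec (hσ : BlowUp.IsBlowUp σ (Scheme.IdealSheafData.vanishingIdeal ⟨{x}, hx⟩)) : Pic X :=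
  mk (ClSub.idealMod ((pt x hx).comap σ)) (Dix.IdealModCartier.isInvertible_idealMod hσ.1)

theorem pt_ne_bot : pt x hx ≠ ⊥ := by
  have : SmoothOfRelativeDimension 2 (CohB1.ProjSpace 2 k ↘ Spec (CommRingCat.of k)) :=
    inferInstanceAs (SmoothOfRelativeDimension 2 (CohB1.ProjSpace.toSpec 2 k))
  exact BlowLeray.pt_ne_bot (k := k) x hx

include hσ in
/-- The pencil of lines through the point. -/
theorem exists_pencil : ∃ ρ : X ⟶ CohB1.ProjSpace 1 k, hyp ρ = hyp σ * ec k x hx σ hσ := by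
  obtain ⟨s, hs0, hs⟩ := PlanePt.exists_forms x hx
  have hsec : LefPen.secIdeal σ (Set.range s) = (pt x hx).comap σ := by rw [LefPen.secIdeal, hs]
  have hE : BlowUp.IsEffCartierIdeal (LefPen.secIdeal σ (Set.range s)) := by
    rw [hsec]
    exact hσ.1
  have hne : pt x hx ≠ ⊥ := pt_ne_bot k x hx
  obtain ⟨hint, hgen, -⟩ := S2348.result (pt x hx) hne σ hσ
  have hgen : σ (genericPoint X) = genericPoint (CohB1.ProjSpace 2 k) := hgen
  have hc : BlowUp.IsEffCartierIdeal ((LefPen.hypIdeal (s 0)).comap σ) := by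
    refine Dix.InterSurf.isEff_comap_of_generic σ (isEffCartier_hyp (s 0) (hs0 0)) ?_
    rw [hgen]
    exact genericPoint_notMem_support (isEffCartier_hyp (s 0) (hs0 0))
  refine ⟨Lefpen.H711.PencilMap.rho (m := 1) hE (X ↘ Spec (CommRingCat.of k)), ?_⟩
  have h1 := hyp_rho (m := 1) hE (X ↘ Spec (CommRingCat.of k)) 0 (hs0 0) hc
  rw [Nat.cast_one, zpow_one] at h1
  rw [h1]
  congr 1
  exact mc_congr hE hσ.1 hsec

instance smooth_plane : SmoothOfRelativeDimension 2 (CohB1.ProjSpace 2 k ↘ Spec (CommRingCat.of k)) :=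
  inferInstanceAs (SmoothOfRelativeDimension 2 (CohB1.ProjSpace.toSpec 2 k))

include hσk hσ in
theorem isProper : IsProper (X ↘ Spec (CommRingCat.of k)) := by
  have := BlowLeray.isLocallyNoetherian (k := k) (Y := CohB1.ProjSpace 2 k)
  have := K455.BlowDim.isProper_blowUp σ x hx hσ
  have : IsProper (CohB1.ProjSpace.toSpec 2 k) := Dix.ProjProper.isProper_toSpec 2 k
  rw [← hσk]
  infer_instance

include hσ in
theorem dim_le : topologicalKrullDim X ≤ (2 : ℕ) := by
  have := BlowLeray.isLocallyNoetherian (k := k) (Y := CohB1.ProjSpace 2 k)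
  obtain ⟨hreg, hd⟩ := BlowLeray.reg (k := k) x hx
  exact K455.BlowDim.dim_blowUp_le σ x hx hd hσ (CohqA.ProjDim.topologicalKrullDim_le k 2)

/-- The class `p h + m e`. -/
noncomputable abbrev cl (p m : ℤ) : Pic X := hyp σ ^ p * ec k x hx σ hσ ^ m

/-- The dimension of `H^q` of the class `p h + m e`. -/
noncomputable abbrev a (p m : ℤ) (q : ℕ) : ℕ := dm k (Coh.structureModule X) (cl k x hx σ hσ p m) q

/-- The vanishing of `H^q` of the class `p h + m e`. -/
abbrev V (p m : ℤ) (q : ℕ) : Prop := Van (Coh.structureModule X) (cl k x hx σ hσ p m) q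

include hσk in
theorem st (p m : ℤ) : Step k (cl k x hx σ hσ p m) (cl k x hx σ hσ p (m + 1)) m := by
  have := isProper k x hx σ hσk hσ
  have h := exc_step k x hx σ hσ hσk (dim_le k x hx σ hσ) (o 2 k 1 ^ p) m
  rw [map_zpow] at h
  exact h

include hσk in
theorem leray_fr (p : ℤ) (q : ℕ) : a k x hx σ hσ p 0 q =
    Module.finrank k (Coh.HH (CohB1.ProjSpace 2 k) (Twist.twistProjSpace 2 k p) q) := by
  rw [a, cl, zpow_zero, mul_one, ← mk_pullback_twist, dm_unit_mk]
  obtain ⟨e⟩ := BlowLeray.leray (k := k) x hx σ hσ hσk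
    (Groth.Agent.Ega3B.ProjTwist.isInvertible_twistProjSpace 2 k p) q
  exact e.finrank_eq

include hσk in
theorem leray_van (p : ℤ) (q : ℕ) : V k x hx σ hσ p 0 q ↔
    Subsingleton (Coh.HH (CohB1.ProjSpace 2 k) (Twist.twistProjSpace 2 k p) q) := by
  rw [V, cl, zpow_zero, mul_one, ← mk_pullback_twist, van_unit_mk_iff]
  obtain ⟨e⟩ := BlowLeray.leray (k := k) x hx σ hσ hσk
    (Groth.Agent.Ega3B.ProjTwist.isInvertible_twistProjSpace 2 k p) q
  exact ⟨fun h => e.symm.toEquiv.subsingleton, fun h => e.toEquiv.subsingleton⟩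

theorem a_eq_zero {p m : ℤ} {q : ℕ} (h : V k x hx σ hσ p m q) : a k x hx σ hσ p m q = 0 := by
  obtain ⟨L, hL, e⟩ := exists_mk (cl k x hx σ hσ p m)
  rw [a, e, dm_unit_mk]
  rw [V, e, van_unit_mk_iff] at h
  exact Module.finrank_zero_of_subsingleton

include hσk in
/-- **Vanishing for the classes `-h + j (h + e)`.** -/
theorem van_all (j : ℤ) (q : ℕ) : V k x hx σ hσ (j - 1) j q := by
  obtain ⟨ρ, hρ⟩ := exists_pencil k x hx σ hσ
  let c : ℤ → Pic X := fun j => cl k x hx σ hσ (j - 1) j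
  have hc : ∀ j l : ℤ, c j * hyp ρ ^ l = c (j + l) := by
    intro j l
    simp only [c, cl]
    rw [hρ, mul_zpow, show j + l - 1 = (j - 1) + l by ring, zpow_add (hyp σ) (j - 1) l,
      zpow_add (ec k x hx σ hσ) j l]
    exact mul_mul_mul_comm _ _ _ _
  have base0 : ∀ q, Van (Coh.structureModule X) (c 0) q := by
    intro q
    have h := (leray_van k x hx σ hσk hσ (-1) q).2 (S0844.result k 2 (-1) q (by omega) (by omega))
    exact h
  have base1 : ∀ q, Van (Coh.structureModule X) (c (-1)) q := by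
    intro q
    have h2 : V k x hx σ hσ (-2) 0 q :=
      (leray_van k x hx σ hσk hσ (-2) q).2 (S0844.result k 2 (-2) q (by omega) (by omega))
    have hs := st k x hx σ hσk hσ (-2) (-1)
    have e : (-1 : ℤ) + 1 = 0 := rfl
    rw [e] at hs
    change V k x hx σ hσ (-2) (-1) q
    rcases q with _ | _ | q
    · exact hs.van_zero' (by norm_num) h2
    · exact hs.van_one le_rfl h2
    · exact hs.van_two _ (by omega) h2
  have up : ∀ j, (∀ q, Van (Coh.structureModule X) (c (j - 1)) q) → (∀ q, Van (Coh.structureModule X) (c (j - 2)) q) →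
      ∀ q, Van (Coh.structureModule X) (c j) q := by
    intro j h1 h2 q
    refine van_last ρ fun l hl hl' => ?_
    rw [hc]
    obtain rfl | rfl : l = 1 ∨ l = 2 := by omega
    · have : j + -((1 : ℕ) : ℤ) = j - 1 := by push_cast; ring
      rw [this]; exact h1 _
    · have : j + -((2 : ℕ) : ℤ) = j - 2 := by push_cast; ring
      rw [this]; exact h2 _
  have down : ∀ j, (∀ q, Van (Coh.structureModule X) (c (j + 1)) q) → (∀ q, Van (Coh.structureModule X) (c (j + 2)) q) →
      ∀ q, Van (Coh.structureModule X) (c j) q := by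
    intro j h1 h2 q
    refine van_first ρ fun l hl hl' _ => ?_
    rw [hc]
    obtain rfl | rfl : l = 1 ∨ l = 2 := by omega
    · have : j + ((1 : ℕ) : ℤ) = j + 1 := by push_cast; ring
      rw [this]; exact h1 _
    · have : j + ((2 : ℕ) : ℤ) = j + 2 := by push_cast; ring
      rw [this]; exact h2 _
  have all : ∀ j : ℤ, (∀ q, Van (Coh.structureModule X) (c j) q) ∧ (∀ q, Van (Coh.structureModule X) (c (j - 1)) q) := by
    intro j
    induction j using Int.induction_on with
    | zero => exact ⟨base0, base1⟩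
    | succ i ih =>
      have h1 := up (i + 1) (by rw [show (i : ℤ) + 1 - 1 = i by ring]; exact ih.1)
        (by rw [show (i : ℤ) + 1 - 2 = i - 1 by ring]; exact ih.2)
      exact ⟨h1, by rw [show (i : ℤ) + 1 - 1 = i by ring]; exact ih.1⟩
    | pred i ih =>
      have h1 := down (-(i : ℤ) - 1 - 1) (by rw [show -(i : ℤ) - 1 - 1 + 1 = -(i : ℤ) - 1 by ring]; exact ih.2)
        (by rw [show -(i : ℤ) - 1 - 1 + 2 = -(i : ℤ) by ring]; exact ih.1)
      exact ⟨ih.2, h1⟩
  exact (all j).1 q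

end Plane

end K484.PlaneBlow
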