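import Groth.Agent.BlowUp.K484.PlaneBlow

/-!
# The numbers: cohomology of `σ^* O(p) ⊗ I_E^m` on the blow-up of the plane at a point
-/

set_option autoImplicit false
set_option linter.unusedSectionVars false
universe u

open CategoryTheory CategoryTheory.Limits AlgebraicGeometry Opposite TopologicalSpace

namespace K484.PlaneNum

open Groth.Agent Groth.Agent.Dix.PointIdeal Groth.Agent.Grpsch.PicGrp Groth.Agent.Fga.HShift
open Groth.Agent.Lefpen.H21.PicTwist K700.PicVan K700.HDim K484.CutSeq K484.HypComap K484.PlaneBlow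

variable (k : Type u) [Field k] [IsAlgClosed k] (x : ↥(CohB1.ProjSpace 2 k))
  (hx : IsClosed ({x} : Set ↥(CohB1.ProjSpace 2 k))) {X : Scheme.{u}} [X.Over (Spec (CommRingCat.of k))]
  (σ : X ⟶ CohB1.ProjSpace 2 k) (hσk : σ ≫ CohB1.ProjSpace.toSpec 2 k = X ↘ Spec (CommRingCat.of k))
  (hσ : BlowUp.IsBlowUp σ (Scheme.IdealSheafData.vanishingIdeal ⟨{x}, hx⟩))

/-- The Euler characteristic of the class `p h + m e`. -/
noncomputable abbrev eu (p m : ℤ) : ℤ :=
  (a k x hx σ hσ p m 0 : ℤ) - (a k x hx σ hσ p m 1 : ℤ) + (a k x hx σ hσ p m 2 : ℤ)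

theorem eulerCharLE_eq (p m : ℤ) (M : X.Modules) (hM : PicF.IsInvertible M) (h : mk M hM = cl k x hx σ hσ p m) :
    FGA.eulerCharLE k X M 2 = eu k x hx σ hσ p m := by
  unfold FGA.eulerCharLE
  rw [Finset.sum_range_succ, Finset.sum_range_succ, Finset.sum_range_one]
  simp only [eu, a, ← h, dm_unit_mk]
  ring

include hσk in
theorem eu_step (p m : ℤ) : eu k x hx σ hσ p m = eu k x hx σ hσ p (m + 1) + (m + 1) := by
  obtain ⟨M, hM, e⟩ := exists_mk (cl k x hx σ hσ p m)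
  obtain ⟨A, hA, e'⟩ := exists_mk (cl k x hx σ hσ p (m + 1))
  rw [← eulerCharLE_eq k x hx σ hσ p m M hM e.symm, ← eulerCharLE_eq k x hx σ hσ p (m + 1) A hA e'.symm]
  exact (st k x hx σ hσk hσ p m).euler M A hM hA e.symm e'.symm

include hσk in
theorem a_zero_zero (p : ℤ) : a k x hx σ hσ p 0 0 = (p + 2).toNat.choose 2 := by
  rw [leray_fr k x hx σ hσk hσ, ProjNum.h_zero k 2 (by norm_num)]
  rfl

include hσk in
theorem a_zero_one (p : ℤ) : a k x hx σ hσ p 0 1 = 0 :=
  a_eq_zero k x hx σ hσ ((leray_van k x hx σ hσk hσ p 1).2 (ProjNum.sub_mid k 2 p 1 (by norm_num) (by norm_num)))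

include hσk in
theorem a_zero_two (p : ℤ) : a k x hx σ hσ p 0 2 = (-p - 1).toNat.choose 2 := by
  rw [leray_fr k x hx σ hσk hσ, ProjNum.h_top k 2 (by norm_num)]

include hσk in
theorem eu_zero (p : ℤ) : eu k x hx σ hσ p 0 = ((p + 2).toNat.choose 2 : ℤ) + ((-p - 1).toNat.choose 2 : ℤ) := by
  rw [eu, a_zero_zero k x hx σ hσk hσ, a_zero_one k x hx σ hσk hσ, a_zero_two k x hx σ hσk hσ]
  simp

include hσk in
theorem eu_pos (p : ℤ) (b : ℕ) : eu k x hx σ hσ p b = eu k x hx σ hσ p 0 - ((b + 1).choose 2 : ℤ) := by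
  induction b with
  | zero => simp
  | succ b ih =>
    have h := eu_step k x hx σ hσk hσ p b
    rw [ih] at h
    have h2 : ((b + 1 + 1).choose 2 : ℤ) = (b + 1).choose 2 + (b + 1) := by
      rw [Nat.choose_succ_succ' (b + 1) 1, Nat.choose_one_right]
      push_cast; ring
    rw [h2]
    push_cast
    linarith

include hσk in
theorem eu_neg (p : ℤ) (b : ℕ) : eu k x hx σ hσ p (-b) = eu k x hx σ hσ p 0 - (b.choose 2 : ℤ) := by
  induction b with
  | zero => simp
  | succ b ih =>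
    have h := eu_step k x hx σ hσk hσ p (-((b + 1 : ℕ) : ℤ))
    have e : -((b + 1 : ℕ) : ℤ) + 1 = -(b : ℤ) := by push_cast; ring
    rw [e, ih] at h
    have h2 : ((b + 1).choose 2 : ℤ) = b.choose 2 + b := by
      rw [Nat.choose_succ_succ' b 1, Nat.choose_one_right]
      push_cast; ring
    rw [h2, h]
    ring

include hσk in
theorem a_two_pos (p : ℤ) (b : ℕ) : a k x hx σ hσ p b 2 = (-p - 1).toNat.choose 2 := by
  induction b with
  | zero => exact a_zero_two k x hx σ hσk hσ p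
  | succ b ih =>
    have h := (st k x hx σ hσk hσ p b).top (by omega)
    rw [← ih]
    exact_mod_cast h

include hσk in
theorem a_zero_neg (p : ℤ) (b : ℕ) : a k x hx σ hσ p (-b) 0 = (p + 2).toNat.choose 2 := by
  induction b with
  | zero => simpa using a_zero_zero k x hx σ hσk hσ p
  | succ b ih =>
    have h := (st k x hx σ hσk hσ p (-((b + 1 : ℕ) : ℤ))).bot (by push_cast; omega)
    have e : -((b + 1 : ℕ) : ℤ) + 1 = -(b : ℤ) := by push_cast; ring
    rw [e] at h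
    rw [← ih]
    exact h.symm

include hσk in
theorem van_eq (p : ℤ) (q : ℕ) : V k x hx σ hσ p (p + 1) q := by
  have h := van_all k x hx σ hσk hσ (p + 1) q
  rw [show p + 1 - 1 = p by ring] at h
  exact h

include hσk in
theorem van_zero {p m : ℤ} (h : p + 1 ≤ m) : V k x hx σ hσ p m 0 := by
  obtain ⟨n, rfl⟩ := Int.le.dest h
  induction n with
  | zero => simpa using van_eq k x hx σ hσk hσ p 0
  | succ n ih =>
    have h1 := (st k x hx σ hσk hσ p (p + 1 + n)).van_zero (ih (by omega))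
    have e : p + 1 + ((n + 1 : ℕ) : ℤ) = p + 1 + n + 1 := by push_cast; ring
    rw [e]
    exact h1

include hσk in
theorem van_one {p m : ℤ} (h0 : 0 ≤ m) (h : m ≤ p + 1) : V k x hx σ hσ p m 1 := by
  obtain ⟨n, hn⟩ := Int.le.dest h
  induction n generalizing m with
  | zero =>
    obtain rfl : m = p + 1 := by simpa using hn
    exact van_eq k x hx σ hσk hσ p 1
  | succ n ih =>
    exact (st k x hx σ hσk hσ p m).van_one (by omega) (ih (by omega) (by push_cast at hn; omega)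
      (by push_cast at hn ⊢; omega))

include hσk in
theorem van_one' {p m : ℤ} (h0 : m ≤ 0) (h : p + 1 ≤ m) : V k x hx σ hσ p m 1 := by
  obtain ⟨n, rfl⟩ := Int.le.dest h
  induction n with
  | zero => simpa using van_eq k x hx σ hσk hσ p 1
  | succ n ih =>
    have h1 := (st k x hx σ hσk hσ p (p + 1 + n)).van_one' (by push_cast at h0; omega)
      (ih (by push_cast at h0; omega) (by omega))
    have e : p + 1 + ((n + 1 : ℕ) : ℤ) = p + 1 + n + 1 := by push_cast; ring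
    rw [e]
    exact h1

include hσk in
theorem van_two {p m : ℤ} (h : m ≤ p + 1) : V k x hx σ hσ p m 2 := by
  obtain ⟨n, hn⟩ := Int.le.dest h
  induction n generalizing m with
  | zero =>
    obtain rfl : m = p + 1 := by simpa using hn
    exact van_eq k x hx σ hσk hσ p 2
  | succ n ih =>
    exact (st k x hx σ hσk hσ p m).van_two 2 le_rfl (ih (by push_cast at hn; omega)
      (by push_cast at hn ⊢; omega))

include hσk in
/-- **Non-negative multiples of the ideal of the exceptional curve.** -/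
theorem nums_pos (p : ℤ) (b : ℕ) :
    ((b : ℤ) ≤ p → (a k x hx σ hσ p b 0 : ℤ) = ((p + 2).toNat.choose 2 : ℤ) - ((b + 1).choose 2 : ℤ) ∧
      a k x hx σ hσ p b 1 = 0 ∧ a k x hx σ hσ p b 2 = 0) ∧
    (p = (b : ℤ) - 1 → a k x hx σ hσ p b 0 = 0 ∧ a k x hx σ hσ p b 1 = 0 ∧ a k x hx σ hσ p b 2 = 0) ∧
    (p ≤ (b : ℤ) - 2 → a k x hx σ hσ p b 0 = 0 ∧
      (a k x hx σ hσ p b 1 : ℤ) = ((b + 1).choose 2 : ℤ) - ((p + 2).toNat.choose 2 : ℤ) ∧
      a k x hx σ hσ p b 2 = (-p - 1).toNat.choose 2) := by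
  have he : (a k x hx σ hσ p b 0 : ℤ) - (a k x hx σ hσ p b 1 : ℤ) + (a k x hx σ hσ p b 2 : ℤ) =
      ((p + 2).toNat.choose 2 : ℤ) + ((-p - 1).toNat.choose 2 : ℤ) - ((b + 1).choose 2 : ℤ) := by
    rw [← eu_zero k x hx σ hσk hσ p]
    exact eu_pos k x hx σ hσk hσ p b
  have h2 := a_two_pos k x hx σ hσk hσ p b
  refine ⟨fun h => ?_, fun h => ?_, fun h => ?_⟩
  · have h1 := a_eq_zero k x hx σ hσ (van_one k x hx σ hσk hσ (m := (b : ℤ)) (by omega) (by omega : (b : ℤ) ≤ p + 1))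
    have h3 : (-p - 1).toNat.choose 2 = 0 := by
      rw [show (-p - 1).toNat = 0 by omega]; rfl
    rw [h3] at h2 he
    rw [h1, h2] at he
    refine ⟨?_, h1, h2⟩
    push_cast at he
    linarith
  · have hb : (b : ℤ) = p + 1 := by omega
    rw [hb]
    exact ⟨a_eq_zero k x hx σ hσ (van_eq k x hx σ hσk hσ p 0), a_eq_zero k x hx σ hσ (van_eq k x hx σ hσk hσ p 1),
      a_eq_zero k x hx σ hσ (van_eq k x hx σ hσk hσ p 2)⟩
  · have h0 := a_eq_zero k x hx σ hσ (van_zero k x hx σ hσk hσ (by omega : p + 1 ≤ (b : ℤ)))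
    refine ⟨h0, ?_, h2⟩
    rw [h0, h2] at he
    push_cast at he
    linarith

include hσk in
/-- **Non-positive multiples of the ideal of the exceptional curve.** -/
theorem nums_neg (p : ℤ) (b : ℕ) :
    (0 ≤ p + b → a k x hx σ hσ p (-b) 0 = (p + 2).toNat.choose 2 ∧
      (a k x hx σ hσ p (-b) 1 : ℤ) = (b.choose 2 : ℤ) - ((-p - 1).toNat.choose 2 : ℤ) ∧
      a k x hx σ hσ p (-b) 2 = 0) ∧
    (p + b = -1 → a k x hx σ hσ p (-b) 0 = 0 ∧ a k x hx σ hσ p (-b) 1 = 0 ∧ a k x hx σ hσ p (-b) 2 = 0) ∧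
    (p + b ≤ -2 → a k x hx σ hσ p (-b) 0 = 0 ∧ a k x hx σ hσ p (-b) 1 = 0 ∧
      (a k x hx σ hσ p (-b) 2 : ℤ) = ((-p - 1).toNat.choose 2 : ℤ) - (b.choose 2 : ℤ)) := by
  have he : (a k x hx σ hσ p (-b) 0 : ℤ) - (a k x hx σ hσ p (-b) 1 : ℤ) + (a k x hx σ hσ p (-b) 2 : ℤ) =
      ((p + 2).toNat.choose 2 : ℤ) + ((-p - 1).toNat.choose 2 : ℤ) - (b.choose 2 : ℤ) := by
    rw [← eu_zero k x hx σ hσk hσ p]
    exact eu_neg k x hx σ hσk hσ p b
  have h0 := a_zero_neg k x hx σ hσk hσ p b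
  refine ⟨fun h => ?_, fun h => ?_, fun h => ?_⟩
  · have h2 := a_eq_zero k x hx σ hσ (van_two k x hx σ hσk hσ (by omega : -(b : ℤ) ≤ p + 1))
    rw [h0, h2] at he
    refine ⟨h0, ?_, h2⟩
    push_cast at he
    linarith
  · have hb : -(b : ℤ) = p + 1 := by omega
    rw [hb]
    exact ⟨a_eq_zero k x hx σ hσ (van_eq k x hx σ hσk hσ p 0), a_eq_zero k x hx σ hσ (van_eq k x hx σ hσk hσ p 1),
      a_eq_zero k x hx σ hσ (van_eq k x hx σ hσk hσ p 2)⟩
  · have h1 := a_eq_zero k x hx σ hσ (van_one' k x hx σ hσk hσ (by omega : -(b : ℤ) ≤ 0) (by omega : p + 1 ≤ -(b : ℤ)))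
    have h3 : (p + 2).toNat.choose 2 = 0 := by
      rw [show (p + 2).toNat = 0 by omega]; rfl
    rw [h3] at h0 he
    rw [h0, h1] at he
    refine ⟨h0, h1, ?_⟩
    push_cast at he
    linarith

/-- The dimensions of the cohomology of `σ^* O(p) ⊗ I_E^b`. -/
theorem finrank_pos (p : ℤ) (b q : ℕ) :
    Module.finrank k (Coh.HH X (CohB1.tensorMod ((Scheme.Modules.pullback σ).obj (Twist.twistProjSpace 2 k p))
      (ClSub.idealMod ((BlowUp.exceptional σ (Scheme.IdealSheafData.vanishingIdeal ⟨{x}, hx⟩)) ^ b))) q) =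
      a k x hx σ hσ p b q := by
  obtain ⟨h, e⟩ := mc_pow hσ.1 b
  have hc : mk (CohB1.tensorMod ((Scheme.Modules.pullback σ).obj (Twist.twistProjSpace 2 k p))
      (ClSub.idealMod ((BlowUp.exceptional σ (Scheme.IdealSheafData.vanishingIdeal ⟨{x}, hx⟩)) ^ b)))
      (Fdesc.LocGen.isInvertible_tensorMod (isInvertible_pullback_twist σ p) (Dix.IdealModCartier.isInvertible_idealMod h)) =
      cl k x hx σ hσ p b := by
    rw [← mk_mul_mk (isInvertible_pullback_twist σ p) (Dix.IdealModCartier.isInvertible_idealMod h),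
      mk_pullback_twist, cl, zpow_natCast]
    exact congrArg (hyp σ ^ p * ·) e
  rw [a, ← hc, dm_unit_mk]

/-- The dimensions of the cohomology of `σ^* O(p) ⊗ L^b` for an inverse `L` of `I_E`. -/
theorem finrank_neg (L : X.Modules)
    (hL : ClSub.IsInverseOf L (ClSub.idealMod (BlowUp.exceptional σ (Scheme.IdealSheafData.vanishingIdeal ⟨{x}, hx⟩))))
    (p : ℤ) (b q : ℕ) :
    Module.finrank k (Coh.HH X (CohB1.tensorMod ((Scheme.Modules.pullback σ).obj (Twist.twistProjSpace 2 k p))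
      (CohB1.tensorPow L b)) q) = a k x hx σ hσ p (-b) q := by
  obtain ⟨hL1, hL2⟩ := Dix.IdealModCartier.isInvertible_of_isInverseOf hL
  have h1 : mk L hL1 = (ec k x hx σ hσ)⁻¹ := by
    rw [eq_inv_iff_mul_eq_one]
    exact (mk_eq_one_iff _).2 hL
  have hc : mk (CohB1.tensorMod ((Scheme.Modules.pullback σ).obj (Twist.twistProjSpace 2 k p))
      (CohB1.tensorPow L b))
      (Fdesc.LocGen.isInvertible_tensorMod (isInvertible_pullback_twist σ p) (Fdesc.LocGen.isInvertible_tensorPow hL1 b)) =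
      cl k x hx σ hσ p (-b) := by
    rw [← mk_mul_mk (isInvertible_pullback_twist σ p) (Fdesc.LocGen.isInvertible_tensorPow hL1 b),
      mk_pullback_twist, cl, zpow_neg, zpow_natCast, ← inv_pow, ← h1]
    exact congrArg (hyp σ ^ p * ·) (mk_tensorPow hL1 b)
  rw [a, ← hc, dm_unit_mk]

end K484.PlaneNum
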