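import Groth.Agent.Sga67.BlowReg
import Groth.Agent.Dix.WeilAlg
import Groth.Agent.Divis.RegImm

/-!
# Regular sequences in the charts of the blow-up of a regular ideal
-/

set_option autoImplicit false

universe u

namespace K484.RegChart

open RingTheory.Sequence MvPolynomial BlowUp
open Groth.Agent.Divis.RegImm Groth.Agent.Sga67

theorem isWeaklyRegular_C_X {B : Type u} [CommRing B] {σ : Type} (gs : List B)
    (hgs : IsWeaklyRegular B gs) (js : List σ) (hjs : js.Nodup) :
    IsWeaklyRegular (MvPolynomial σ B) (gs.map (C : B →+* MvPolynomial σ B) ++ js.map X) := by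
  let ψ : MvPolynomial σ B →+* MvPolynomial σ (B ⧸ Ideal.ofList gs) :=
    MvPolynomial.map (Ideal.Quotient.mk (Ideal.ofList gs))
  have hψ : Function.Surjective ψ := MvPolynomial.map_surjective _ Ideal.Quotient.mk_surjective
  have hker : RingHom.ker ψ = Ideal.ofList (gs.map (C : B →+* MvPolynomial σ B)) := by
    rw [MvPolynomial.ker_map, Ideal.mk_ker, Ideal.map_ofList]
  refine (isWeaklyRegular_append_of_surjective ψ hψ _ _ hker).2 ⟨?_, ?_⟩
  · refine isWeaklyRegular_map_of_flat _ ?_ hgs
    change RingHom.Flat (algebraMap B (MvPolynomial σ B))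
    rw [RingHom.flat_algebraMap_iff]
    infer_instance
  · rw [List.map_map]
    have : (ψ ∘ X : σ → MvPolynomial σ (B ⧸ Ideal.ofList gs)) = X := by
      funext i
      exact MvPolynomial.map_X _ i
    rw [this]
    exact Groth.Agent.Dix.WeilAlg.isWeaklyRegular_X _ js hjs

theorem isWeaklyRegular_chart {A : Type u} [CommRing A] {c : ℕ} (f : Fin c → A)
    (hf : CAlgX.IsQuasiRegular f) (k : Fin c) (gs : List A)
    (hgs : IsWeaklyRegular (A ⧸ Ideal.span (Set.range f)) gs) (js : List {i : Fin c // i ≠ k})
    (hjs : js.Nodup) :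
    IsWeaklyRegular (affineAlgebra A (Ideal.span (Set.range f)) (f k))
      ([algebraMap A (affineAlgebra A (Ideal.span (Set.range f)) (f k)) (f k)] ++
        (gs.map (algebraMap A (affineAlgebra A (Ideal.span (Set.range f)) (f k))) ++
          js.map (fun j => BlowQuot.fr f k j.1))) := by
  let C' := affineAlgebra A (Ideal.span (Set.range f)) (f k)
  let w : C' := algebraMap A C' (f k)
  let φ : C' →+* MvPolynomial {i : Fin c // i ≠ k} (A ⧸ Ideal.span (Set.range f)) :=
    (BlowQuot.quotEquiv k hf).toRingHom.comp (Ideal.Quotient.mk (Ideal.span {w}))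
  have hφ : Function.Surjective φ :=
    (BlowQuot.quotEquiv k hf).surjective.comp Ideal.Quotient.mk_surjective
  have hker : RingHom.ker φ = Ideal.ofList [w] := by
    ext x
    rw [RingHom.mem_ker, Ideal.ofList_singleton]
    change BlowQuot.quotEquiv k hf (Ideal.Quotient.mk (Ideal.span {w}) x) = 0 ↔ _
    rw [EmbeddingLike.map_eq_zero_iff, Ideal.Quotient.eq_zero_iff_mem]
  refine (isWeaklyRegular_append_of_surjective φ hφ [w] _ hker).2 ⟨?_, ?_⟩
  · rw [isWeaklyRegular_singleton_iff]
    intro x y hxy
    have h1 : w ∈ nonZeroDivisors C' :=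
      Groth.Agent.Divis.BlowAlg.algebraMap_mem_nonZeroDivisors (Ideal.span (Set.range f)) (f k)
    exact (mul_cancel_left_mem_nonZeroDivisors h1).1 hxy
  · rw [List.map_append, List.map_map, List.map_map]
    have h1 : (φ ∘ fun j : {i : Fin c // i ≠ k} => BlowQuot.fr f k j.1) = X := by
      funext j
      have h2 : (BlowQuot.quotEquiv k hf) (BlowQuot.Ψ f k (X j)) = X j := by
        have e1 : (RingHom.quotientKerEquivOfSurjective (BlowQuot.Ψ_surjective f k)).symm
            (BlowQuot.Ψ f k (X j)) = Ideal.Quotient.mk _ (X j) := by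
          rw [RingEquiv.symm_apply_eq]
          rfl
        have e2 : (quotientEquivQuotientMvPolynomial (σ := {i : Fin c // i ≠ k})
            (Ideal.span (Set.range f))).symm (Ideal.Quotient.mk _ (X j)) = X j := by
          rw [AlgEquiv.symm_apply_eq]
          change _ = eval₂Hom _ _ _
          simp
        unfold BlowQuot.quotEquiv
        rw [RingEquiv.trans_apply, RingEquiv.trans_apply, e1]
        exact e2
      have h3 : BlowQuot.Ψ f k (X j) = Ideal.Quotient.mk _ (BlowQuot.fr f k j.1) := by
        simp [BlowQuot.Ψ, BlowQuot.Φ]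
      rw [h3] at h2
      exact h2
    have h2 : (φ ∘ algebraMap A C') = (C : _ →+* MvPolynomial {i : Fin c // i ≠ k}
        (A ⧸ Ideal.span (Set.range f))) ∘ (Ideal.Quotient.mk (Ideal.span (Set.range f))) := by
      funext x
      exact BlowQuot.quotEquiv_algebraMap k hf x
    rw [h1, h2, ← List.map_map]
    refine isWeaklyRegular_C_X _ ?_ js hjs
    exact (isWeaklyRegular_map_algebraMap_iff _ _ gs).2 hgs

/-- The relevant regular sequence in the chart. -/
theorem exists_chart_list {A : Type u} [CommRing A] (hs ws gs : List A)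
    (hreg : IsWeaklyRegular A (hs ++ ws)) (I : Ideal A) (hI : I = Ideal.ofList (hs ++ ws))
    (hgs : IsWeaklyRegular (A ⧸ I) gs) (w : A) (hw : w ∈ ws) :
    ∃ ts : List (affineAlgebra A I w),
      ts.map (fun t => algebraMap A (affineAlgebra A I w) w * t) = hs.map (algebraMap A _) ∧
      IsWeaklyRegular (affineAlgebra A I w) ([algebraMap A (affineAlgebra A I w) w] ++
        (gs.map (algebraMap A (affineAlgebra A I w)) ++ ts)) := by
  have hI' : I = Ideal.span (Set.range (hs ++ ws).get) := by
    rw [hI, Ideal.ofList]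
    congr 1
    ext x
    simp [List.mem_iff_get]
  subst hI'
  obtain ⟨i, hi, rfl⟩ := List.mem_iff_getElem.1 hw
  let k : Fin (hs ++ ws).length := ⟨hs.length + i, by rw [List.length_append]; omega⟩
  have hk : ws[i] = (hs ++ ws).get k := by
    simp [k]
  have hf : CAlgX.IsQuasiRegular (hs ++ ws).get := by
    apply BlowReg.isQuasiRegular_of_isWeaklyRegular
    rw [List.ofFn_get]
    exact hreg
  rw [hk]
  let js : List {i : Fin (hs ++ ws).length // i ≠ k} := List.ofFn (n := hs.length) fun j =>
    ⟨⟨j.1, by rw [List.length_append]; omega⟩, by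
      intro h
      have := congrArg Fin.val h
      simp only [k] at this
      omega⟩
  have hjs : js.Nodup := by
    rw [List.nodup_ofFn]
    intro a b hab
    have := congrArg (fun z : {i : Fin (hs ++ ws).length // i ≠ k} => z.1.1) hab
    exact Fin.ext this
  refine ⟨js.map (fun j => BlowQuot.fr (hs ++ ws).get k j.1), ?_,
    isWeaklyRegular_chart (hs ++ ws).get hf k gs hgs js hjs⟩
  rw [List.map_map]
  have h1 : ((fun t => algebraMap A (affineAlgebra A (Ideal.span (Set.range (hs ++ ws).get))
      ((hs ++ ws).get k)) ((hs ++ ws).get k) * t) ∘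
      fun j : {i : Fin (hs ++ ws).length // i ≠ k} => BlowQuot.fr (hs ++ ws).get k j.1) =
      fun j => algebraMap A _ ((hs ++ ws).get j.1) := by
    funext j
    exact BlowQuot.fr_spec (hs ++ ws).get k j.1
  rw [h1]
  simp only [js]
  rw [List.map_ofFn]
  apply List.ext_getElem
  · simp
  · intro n h1 h2
    have h3 : n < hs.length := by simpa using h2
    simp only [List.getElem_ofFn, Function.comp_apply, List.getElem_map, List.get_eq_getElem]
    rw [List.getElem_append_left h3]

end K484.RegChart
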