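import Groth.Agent.Ega4dB.RegIdeal3

/-!
# Compatible generators of two regular ideals meeting nicely
-/

set_option autoImplicit false

universe u

namespace K484.RegGens

open RingTheory.Sequence IsLocalRing
open Groth.Agent.Ega4dB.RegIdeal3 Groth.Agent.Ega4dB.RegExchange

variable {A : Type u} [CommRing A] [IsNoetherianRing A] [IsLocalRing A]

theorem le_of_le_sup_smul {K L : Ideal A} (h : K ≤ L ⊔ maximalIdeal A * K) : K ≤ L := by
  refine Submodule.le_of_le_smul_of_le_jacobson_bot (I := maximalIdeal A)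
    (IsNoetherian.noetherian _) ?_ h
  exact (jacobson_eq_maximalIdeal ⊥ bot_ne_top).ge

/-- If `J` and `(I + J) / J` are regular, then `J ∩ m (I + J) ⊆ m J`. -/
theorem inf_le_mul (I J : Ideal A) (hIm : I ≤ maximalIdeal A) (hJ : CInt.IsRegularIdeal J)
    (hIJ : CInt.IsRegularIdeal (I.map (Ideal.Quotient.mk J))) :
    J ⊓ maximalIdeal A * (I ⊔ J) ≤ maximalIdeal A * J := by
  obtain ⟨us, hus, rfl⟩ := hJ
  obtain ⟨vs, hvs, hvsK⟩ := hIJ
  obtain ⟨vs, rfl⟩ := exists_lift_list _ vs
  set J := Ideal.ofList us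
  have hmap : (I ⊔ J).map (Ideal.Quotient.mk J) = I.map (Ideal.Quotient.mk J) := by
    rw [Ideal.map_sup, Ideal.map_quotient_self, sup_bot_eq]
  have hK : Ideal.ofList vs ⊔ J = I ⊔ J :=
    (map_mk_eq_ofList_iff (le_sup_right : J ≤ I ⊔ J) vs).1 (by rw [hmap]; exact hvsK)
  have hJm : J ≤ maximalIdeal A := le_maximalIdeal_of_isRegular hus
  have hKm : I ⊔ J ≤ maximalIdeal A := sup_le hIm hJm
  have hofK : Ideal.ofList (us ++ vs) = I ⊔ J := by
    rw [Ideal.ofList_append, sup_comm]; exact hK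
  have hreg : IsRegular A (us ++ vs) := by
    refine isRegular_of_mem_maximalIdeal (fun r hr => hKm (hofK ▸ Ideal.subset_span hr)) ?_
    exact (isWeaklyRegular_append_iff_quotient us vs).2
      ⟨hus.toIsWeaklyRegular, (isWeaklyRegular_quotient_map_iff _ _).1 hvs.toIsWeaklyRegular⟩
  rintro x ⟨hxJ, hxm⟩
  rcases mem_or_exists_unit (⊥ : Ideal A) us x (Submodule.mem_sup_left hxJ) with
    h1 | ⟨u, l, a, hp, ha, h1⟩
  · rwa [sup_bot_eq] at h1
  · exfalso
    have h2 : Ideal.ofList (us ++ vs) = Ideal.ofList (x :: (l ++ vs)) := by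
      rw [Ideal.ofList_append, ofList_perm hp, ← List.cons_append, Ideal.ofList_append]
      have := ofList_cons_sup_eq (J := (⊥ : Ideal A)) ha h1
      rw [sup_bot_eq, sup_bot_eq] at this
      rw [this]
    have h3 : I ⊔ J ≤ Ideal.ofList (l ++ vs) := by
      apply le_of_le_sup_smul
      conv_lhs => rw [← hofK, h2, Ideal.ofList_cons]
      refine sup_le ?_ le_sup_left
      rw [Ideal.span_singleton_le_iff_mem]
      exact Submodule.mem_sup_right hxm
    have h4 : Ideal.ofList (l ++ vs) = Ideal.ofList (us ++ vs) := by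
      apply le_antisymm
      · rw [h2, Ideal.ofList_cons]; exact le_sup_right
      · rw [hofK]; exact h3
    have h5 := length_le_of_ofList_eq hreg h4
    rw [List.length_append, List.length_append, hp.length_eq, List.length_cons] at h5
    omega

/-- Compatible generators. -/
theorem exists_generators (I J : Ideal A) (hI : CInt.IsRegularIdeal I) (hJ : CInt.IsRegularIdeal J)
    (hIJ : CInt.IsRegularIdeal (I.map (Ideal.Quotient.mk J)))
    (hJI : CInt.IsRegularIdeal (J.map (Ideal.Quotient.mk I))) :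
    ∃ hs ws gs : List A, IsRegular A (hs ++ ws) ∧ Ideal.ofList (hs ++ ws) = I ∧
      Ideal.ofList (hs ++ gs) = J ∧ IsWeaklyRegular (A ⧸ I) gs := by
  classical
  obtain ⟨fs, hfs, hfsI⟩ := hI
  have hIm : I ≤ maximalIdeal A := hfsI ▸ le_maximalIdeal_of_isRegular hfs
  have hkey := inf_le_mul I J hIm hJ hIJ
  have hJm : J ≤ maximalIdeal A := by
    obtain ⟨us, hus, hus'⟩ := hJ
    exact hus' ▸ le_maximalIdeal_of_isRegular hus
  obtain ⟨gs, hgs, hgsK⟩ := hJI
  -- lift `gs` to `J`
  have lift : ∀ l : List (A ⧸ I), (∀ g ∈ l, g ∈ J.map (Ideal.Quotient.mk I)) →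
      ∃ l' : List A, (∀ g ∈ l', g ∈ J) ∧ l'.map (Ideal.Quotient.mk I) = l := by
    intro l
    induction l with
    | nil => intro _; exact ⟨[], by simp, rfl⟩
    | cons g l ih =>
      intro h
      obtain ⟨l', h1, rfl⟩ := ih fun g hg => h g (List.mem_cons_of_mem _ hg)
      obtain ⟨g', hg', rfl⟩ := (Ideal.mem_map_iff_of_surjective _ Ideal.Quotient.mk_surjective).1
        (h g (by simp))
      refine ⟨g' :: l', ?_, rfl⟩
      intro x hx
      rcases List.mem_cons.1 hx with rfl | hx
      · exact hg'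
      · exact h1 x hx
  obtain ⟨gs, hgJ, rfl⟩ := lift gs (fun g hg => hgsK ▸ Ideal.subset_span hg)
  have hmap : (I ⊔ J).map (Ideal.Quotient.mk I) = J.map (Ideal.Quotient.mk I) := by
    rw [Ideal.map_sup, Ideal.map_quotient_self, bot_sup_eq]
  have hK : Ideal.ofList gs ⊔ I = I ⊔ J :=
    (map_mk_eq_ofList_iff (le_sup_left : I ≤ I ⊔ J) gs).1 (by rw [hmap]; exact hgsK)
  -- maximal choice of `hs`
  let P : ℕ → Prop := fun e => ∃ hs ws : List A, hs.length = e ∧ (∀ h ∈ hs, h ∈ J) ∧
    Ideal.ofList (hs ++ ws) = I ∧ hs.length + ws.length = fs.length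
  have hP0 : P 0 := ⟨[], fs, rfl, by simp, hfsI, by simp⟩
  obtain ⟨hs, ws, he, hhJ, hhI, hlen⟩ : P (Nat.findGreatest P fs.length) :=
    Nat.findGreatest_spec (Nat.zero_le _) hP0
  have hmax : ∀ k, P k → k ≤ hs.length := by
    intro k hk
    rw [he]
    refine Nat.le_findGreatest ?_ hk
    obtain ⟨hs', ws', he', -, -, hlen'⟩ := hk
    omega
  refine ⟨hs, ws, gs, isRegular_of_ofList_eq hfs (by rw [hhI, hfsI])
    (by rw [List.length_append]; exact hlen), hhI, ?_,
    (isWeaklyRegular_quotient_map_iff _ _).1 hgs.toIsWeaklyRegular⟩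
  apply le_antisymm
  · rw [Ideal.ofList_append]
    exact sup_le (Ideal.span_le.2 hhJ) (Ideal.span_le.2 hgJ)
  · apply le_of_le_sup_smul
    intro x hx
    have hxK : x ∈ Ideal.ofList gs ⊔ I := by rw [hK]; exact Submodule.mem_sup_right hx
    obtain ⟨g', hg', i, hi, rfl⟩ := Submodule.mem_sup.1 hxK
    have hg'J : g' ∈ J := (Ideal.span_le.2 hgJ : Ideal.ofList gs ≤ J) hg'
    have hiJ : i ∈ J := (add_mem_cancel_left hg'J).1 hx
    -- `i ∈ (hs) + m I`
    have hi2 : i ∈ Ideal.ofList ws ⊔ Ideal.ofList hs := by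
      rw [← hhI, Ideal.ofList_append, sup_comm] at hi
      exact hi
    have hhsI : Ideal.ofList hs ≤ I := by
      rw [← hhI, Ideal.ofList_append]; exact le_sup_left
    rcases mem_or_exists_unit (Ideal.ofList hs) ws i hi2 with h1 | ⟨w, l, a, hp, ha, h1⟩
    · obtain ⟨t, ht, h', hh', rfl⟩ := Submodule.mem_sup.1 h1
      have hh'J : h' ∈ J := (Ideal.span_le.2 hhJ : Ideal.ofList hs ≤ J) hh'
      have htJ : t ∈ J := (add_mem_cancel_right hh'J).1 hiJ
      have htm : t ∈ maximalIdeal A * (I ⊔ J) := by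
        refine Ideal.mul_mono_right ?_ ht
        refine le_trans ?_ (le_sup_left : I ≤ I ⊔ J)
        rw [← hhI, Ideal.ofList_append]; exact le_sup_right
      have ht2 := hkey ⟨htJ, htm⟩
      rw [Ideal.ofList_append]
      have e : g' + (t + h') = (h' + g') + t := by ring
      rw [e]
      exact Submodule.add_mem_sup (Submodule.add_mem_sup hh' hg') ht2
    · exfalso
      have h2 := ofList_cons_sup_eq ha h1
      have h3 : P (hs.length + 1) := by
        refine ⟨i :: hs, l, by simp, ?_, ?_, ?_⟩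
        · intro x hx
          rcases List.mem_cons.1 hx with rfl | hx
          · exact hiJ
          · exact hhJ x hx
        · rw [← hhI, Ideal.ofList_append hs ws, sup_comm, ofList_perm hp, h2, List.cons_append,
            Ideal.ofList_cons, Ideal.ofList_cons, Ideal.ofList_append, sup_assoc,
            sup_comm (Ideal.ofList l)]
        · rw [hp.length_eq, List.length_cons] at hlen
          rw [List.length_cons]; omega
      have := hmax _ h3
      omega

end K484.RegGens
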