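import Groth.Agent.Divis.RegStalk
import Groth.Agent.Divis.CartierBasic

/-!
# Spreading out compatible generators
-/

set_option autoImplicit false

universe u

namespace K484.RegSpread

open CategoryTheory AlgebraicGeometry Limits
open RingTheory.Sequence
open Groth.Agent.Divis.IdealComap Groth.Agent.Divis.RegImm Groth.Agent.Divis.RegSpread
open Groth.Agent.Divis.RegStalk Groth.Agent.Divis.CartierBasic

variable {X : Scheme.{u}} [IsLocallyNoetherian X]

theorem isWeaklyRegular_append_iff_quotient {A : Type u} [CommRing A] (rs gs : List A) :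
    IsWeaklyRegular A (rs ++ gs) ↔ IsWeaklyRegular A rs ∧ IsWeaklyRegular (A ⧸ Ideal.ofList rs) gs := by
  rw [isWeaklyRegular_append_iff]
  refine and_congr_right' ?_
  refine (Submodule.quotEquivOfEq _ _ ?_).isWeaklyRegular_congr gs
  simp

theorem exists_spread (𝓘 𝓙 : X.IdealSheafData) (x : X) (hs ws gs : List (X.presheaf.stalk x))
    (hreg : IsWeaklyRegular (X.presheaf.stalk x) (hs ++ ws))
    (hI : Ideal.ofList (hs ++ ws) = stalkIdeal 𝓘 x) (hJ : Ideal.ofList (hs ++ gs) = stalkIdeal 𝓙 x)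
    (hgs : IsWeaklyRegular (X.presheaf.stalk x ⧸ stalkIdeal 𝓘 x) gs) :
    ∃ (U : X.affineOpens) (hx : x ∈ U.1) (hs' ws' gs' : List Γ(X, U.1)),
      hs'.map (X.presheaf.germ U.1 x hx).hom = hs ∧ ws'.map (X.presheaf.germ U.1 x hx).hom = ws ∧
      gs'.map (X.presheaf.germ U.1 x hx).hom = gs ∧
      IsWeaklyRegular Γ(X, U.1) (hs' ++ ws') ∧ 𝓘.ideal U = Ideal.ofList (hs' ++ ws') ∧
      𝓙.ideal U = Ideal.ofList (hs' ++ gs') ∧ IsWeaklyRegular (Γ(X, U.1) ⧸ 𝓘.ideal U) gs' := by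
  rw [← hI] at hgs
  have hall : IsWeaklyRegular (X.presheaf.stalk x) ((hs ++ ws) ++ gs) :=
    (isWeaklyRegular_append_iff_quotient _ _).2 ⟨hreg, hgs⟩
  obtain ⟨V, hxV, as, has⟩ := exists_list_germ x ((hs ++ ws) ++ gs)
  obtain ⟨as1, gs', rfl, has1, hgs'⟩ := List.map_eq_append_iff.1 has
  obtain ⟨hs', ws', rfl, hhs', hws'⟩ := List.map_eq_append_iff.1 has1
  have : IsNoetherianRing Γ(X, V.1) := IsLocallyNoetherian.component_noetherian V
  let := X.presheaf.algebra_section_stalk ⟨x, hxV⟩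
  have := V.2.isLocalization_stalk ⟨x, hxV⟩
  obtain ⟨f, hf, Hf⟩ := exists_isWeaklyRegular_of_atPrime' (V.2.primeIdealOf ⟨x, hxV⟩).asIdeal
    (X.presheaf.stalk x) ((hs' ++ ws') ++ gs') (by
      have e : ((hs' ++ ws') ++ gs').map (algebraMap Γ(X, V.1) (X.presheaf.stalk x)) =
        (hs ++ ws) ++ gs := has
      rw [e]; exact hall)
  obtain ⟨g, hg, Hg⟩ := exists_map_eq_of_atPrime (V.2.primeIdealOf ⟨x, hxV⟩).asIdeal
    (X.presheaf.stalk x) (𝓘.ideal V) (Ideal.ofList (hs' ++ ws')) (IsNoetherian.noetherian _)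
    (IsNoetherian.noetherian _)
    (by
      rw [Ideal.map_ofList]
      have e : (hs' ++ ws').map (algebraMap Γ(X, V.1) (X.presheaf.stalk x)) = hs ++ ws := has1
      rw [e, hI]
      exact (stalkIdeal_eq 𝓘 V hxV).symm)
  obtain ⟨g₂, hg₂, Hg₂⟩ := exists_map_eq_of_atPrime (V.2.primeIdealOf ⟨x, hxV⟩).asIdeal
    (X.presheaf.stalk x) (𝓙.ideal V) (Ideal.ofList (hs' ++ gs')) (IsNoetherian.noetherian _)
    (IsNoetherian.noetherian _)
    (by
      rw [Ideal.map_ofList]
      have e : (hs' ++ gs').map (algebraMap Γ(X, V.1) (X.presheaf.stalk x)) = hs ++ gs := by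
        rw [List.map_append]
        exact congrArg₂ (· ++ ·) hhs' hgs'
      rw [e, hJ]
      exact (stalkIdeal_eq 𝓙 V hxV).symm)
  let F := f * (g * g₂)
  have hfg : F ∈ (V.2.primeIdealOf ⟨x, hxV⟩).asIdeal.primeCompl := mul_mem hf (mul_mem hg hg₂)
  have hu : IsUnit ((X.presheaf.germ V.1 x hxV).hom F) :=
    IsLocalization.map_units (X.presheaf.stalk x)
      (⟨F, hfg⟩ : (V.2.primeIdealOf ⟨x, hxV⟩).asIdeal.primeCompl)
  have hxfg : x ∈ X.basicOpen F := (X.mem_basicOpen _ x hxV).mpr hu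
  have hres : IsUnit ((X.presheaf.map (homOfLE (X.basicOpen_le F)).op).hom F) :=
    RingedSpace.isUnit_res_basicOpen _ F
  simp only [F] at hres
  rw [map_mul, map_mul] at hres
  let ρ : Γ(X, V.1) →+* Γ(X, (X.affineBasicOpen F).1) := (X.presheaf.map (homOfLE (X.basicOpen_le F)).op).hom
  have hgerm : ∀ l : List Γ(X, V.1), (l.map ρ).map (X.presheaf.germ (X.affineBasicOpen F).1 x hxfg).hom =
      l.map (X.presheaf.germ V.1 x hxV).hom := by
    intro l
    rw [List.map_map]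
    refine List.map_congr_left fun b _ ↦ ?_
    exact X.presheaf.germ_res_apply (homOfLE (X.basicOpen_le F)) x hxfg b
  have h1 : IsWeaklyRegular Γ(X, (X.affineBasicOpen F).1)
      ((hs'.map ρ ++ ws'.map ρ) ++ gs'.map ρ) := by
    have hflat := flat_res V.2 (X.affineBasicOpen F).2 (X.basicOpen_le F)
    let := ρ.toAlgebra
    have : Module.Flat Γ(X, V.1) Γ(X, X.basicOpen F) := hflat
    have h2 := Hf Γ(X, X.basicOpen F) (isUnit_of_mul_isUnit_left hres)
    rw [List.map_append, List.map_append] at h2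
    exact h2
  have h2 := (isWeaklyRegular_append_iff_quotient _ _).1 h1
  have h3 : 𝓘.ideal (X.affineBasicOpen F) = Ideal.ofList (hs'.map ρ ++ ws'.map ρ) := by
    rw [← 𝓘.map_ideal (U := X.affineBasicOpen F) (V := V) (X.basicOpen_le F)]
    refine (Hg _ ρ (isUnit_of_mul_isUnit_left (isUnit_of_mul_isUnit_right hres))).trans ?_
    rw [Ideal.map_ofList, List.map_append]
  have h4 : 𝓙.ideal (X.affineBasicOpen F) = Ideal.ofList (hs'.map ρ ++ gs'.map ρ) := by
    rw [← 𝓙.map_ideal (U := X.affineBasicOpen F) (V := V) (X.basicOpen_le F)]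
    refine (Hg₂ _ ρ (isUnit_of_mul_isUnit_right (isUnit_of_mul_isUnit_right hres))).trans ?_
    rw [Ideal.map_ofList, List.map_append]
  refine ⟨X.affineBasicOpen F, hxfg, hs'.map ρ, ws'.map ρ, gs'.map ρ, ?_, ?_, ?_, h2.1, h3, h4, ?_⟩
  · rw [hgerm]; exact hhs'
  · rw [hgerm]; exact hws'
  · rw [hgerm]; exact hgs'
  · rw [h3]; exact h2.2

end K484.RegSpread
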