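import Groth.Prelude.Def_BlowUp2
import Groth.Agent.Divis.CartierBasic
import Groth.Agent.Divis.CartierStalk
import Groth.Agent.BlowUp.K484.StalkAux

/-!
# Separating closures by blowing up
-/

set_option autoImplicit false
universe u

open CategoryTheory AlgebraicGeometry TopologicalSpace IsLocalRing BlowUp
open Groth.Agent.Divis.CartierBasic Groth.Agent.Divis.CartierStalk
open K484.StalkAux

namespace K484.Separate

/-- A locally principal ideal contained in `F` at a point is contained in `F` near the point. -/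
theorem exists_open_stalkIdeal_le {X : Scheme.{u}} {F G : X.IdealSheafData} (x : X)
    (hG : ∃ U : X.affineOpens, x ∈ U.1 ∧ ∃ f : Γ(X, U.1), G.ideal U = Ideal.span {f})
    (h : stalkIdeal G x ≤ stalkIdeal F x) :
    ∃ W : X.Opens, x ∈ W ∧ ∀ y ∈ W, stalkIdeal G y ≤ stalkIdeal F y := by
  obtain ⟨U, hxU, f, hf⟩ := hG
  let := X.presheaf.algebra_section_stalk (⟨x, hxU⟩ : U.1)
  have hloc := U.2.isLocalization_stalk ⟨x, hxU⟩
  have h1 : X.presheaf.germ U.1 x hxU f ∈ (F.ideal U).map (X.presheaf.germ U.1 x hxU).hom := by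
    rw [← stalkIdeal_eq F U hxU]
    apply h
    rw [stalkIdeal_eq G U hxU]
    apply Ideal.mem_map_of_mem
    rw [hf]; exact Ideal.mem_span_singleton_self f
  obtain ⟨⟨⟨a, ha⟩, s⟩, hs⟩ := (IsLocalization.mem_map_algebraMap_iff
    (U.2.primeIdealOf ⟨x, hxU⟩).asIdeal.primeCompl (X.presheaf.stalk x)).1 h1
  dsimp only at hs
  have hs' : X.presheaf.germ U.1 x hxU (f * s) = X.presheaf.germ U.1 x hxU a := by
    rw [map_mul]; exact hs
  obtain ⟨c, hc⟩ := (IsLocalization.eq_iff_exists
    (U.2.primeIdealOf ⟨x, hxU⟩).asIdeal.primeCompl (X.presheaf.stalk x)).1 hs'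
  have hmem : (c : Γ(X, U.1)) * (f * s) ∈ F.ideal U := by
    rw [hc]; exact Ideal.mul_mem_left _ _ ha
  have hu : ∀ t : (U.2.primeIdealOf ⟨x, hxU⟩).asIdeal.primeCompl,
      IsUnit (X.presheaf.germ U.1 x hxU (t : Γ(X, U.1))) := fun t =>
    IsLocalization.map_units (X.presheaf.stalk x) t
  refine ⟨X.basicOpen ((c : Γ(X, U.1)) * (s : Γ(X, U.1))), ?_, ?_⟩
  · rw [Scheme.mem_basicOpen X _ x hxU, map_mul]
    exact (hu c).mul (hu s)
  · intro y hy
    have hyU : y ∈ U.1 := X.basicOpen_le _ hy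
    rw [stalkIdeal_eq G U hyU, stalkIdeal_eq F U hyU, hf, Ideal.map_span, Set.image_singleton,
      Ideal.span_singleton_le_iff_mem]
    have h2 := (Scheme.mem_basicOpen X _ y hyU).1 hy
    have h3 := Ideal.mem_map_of_mem (X.presheaf.germ U.1 y hyU).hom hmem
    have h4 : (c : Γ(X, U.1)) * (f * s) = (c * s) * f := by ring
    rw [h4, map_mul] at h3
    exact (Ideal.unit_mul_mem_iff_mem _ h2).1 h3

theorem exists_princ_of_isEff {X : Scheme.{u}} {G : X.IdealSheafData} (h : IsEffCartierIdeal G) (x : X) :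
    ∃ U : X.affineOpens, x ∈ U.1 ∧ ∃ f : Γ(X, U.1), G.ideal U = Ideal.span {f} := by
  obtain ⟨U, hx, f, -, hf⟩ := h x
  exact ⟨U, hx, f, hf⟩

theorem exists_princ_comap {X Y : Scheme.{u}} {G : X.IdealSheafData} (f : Y ⟶ X)
    (h : ∀ x : X, ∃ U : X.affineOpens, x ∈ U.1 ∧ ∃ f : Γ(X, U.1), G.ideal U = Ideal.span {f}) (y : Y) :
    ∃ U : Y.affineOpens, y ∈ U.1 ∧ ∃ g : Γ(Y, U.1), (G.comap f).ideal U = Ideal.span {g} := by
  obtain ⟨U, hx, g, hg⟩ := h (f y)
  obtain ⟨V, hV, hyV, hle⟩ := exists_isAffineOpen_mem_and_subset (U := f ⁻¹ᵁ U.1) (x := y) hx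
  refine ⟨⟨V, hV⟩, hyV, (f.appLE U.1 V hle).hom g, ?_⟩
  rw [Groth.Agent.Divis.IdealComap.ideal_comap G f U ⟨V, hV⟩ hle, hg, Ideal.map_span,
    Set.image_singleton]

open Limits in
/-- The separation lemma: let `E` be an ideal on `X` becoming effective Cartier on `X'`, `F ≤ E`, `A` a set contained
in `V(F)` and disjoint from `V(E)`, `B` a set of points of `Z` contained in `V(K)` and whose image misses `V(E)`,
and suppose `E O_Z ≤ F O_Z + K`.  Then in `Z' = Z ×_X X'` the closure of the preimage of `B` is disjoint from the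
preimage of the closure of the preimage of `A`. -/
theorem disjoint_closure {X Z X' Z' : Scheme.{u}} {p : Z ⟶ X} {q : X' ⟶ X} {π : Z' ⟶ Z} {p' : Z' ⟶ X'}
    (hsq : π ≫ p = p' ≫ q) (E F : X.IdealSheafData) (K : Z.IdealSheafData)
    (hE : IsEffCartierIdeal (E.comap q)) (hFE : F ≤ E) (A : Set X) (hAF : A ⊆ (F.support : Set X))
    (hAE : Disjoint A (E.support : Set X)) (B : Set Z) (hBK : B ⊆ (K.support : Set Z))
    (hBE : ∀ z ∈ B, p z ∉ E.support) (hincl : E.comap p ≤ F.comap p ⊔ K) :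
    Disjoint (closure ((fun z => π z) ⁻¹' B))
      ((fun z => p' z) ⁻¹' closure ((fun x => q x) ⁻¹' A)) := by
  rw [Set.disjoint_left]
  intro z' hz' hz'2
  change p' z' ∈ closure ((fun x => q x) ⁻¹' A) at hz'2
  obtain ⟨t, ht, hEt⟩ := exists_stalkIdeal_eq_span hE (p' z')
  -- the ideal F is contained in m t at x'
  have hF : stalkIdeal (F.comap q) (p' z') ≤
      Ideal.span {t} * maximalIdeal (X'.presheaf.stalk (p' z')) := by
    have h0 : stalkIdeal (F.comap q) (p' z') ≤ Ideal.span {t} := by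
      rw [← hEt, stalkIdeal_comap, stalkIdeal_comap]
      exact Ideal.map_mono (stalkIdeal_mono hFE _)
    refine (eq_or_le_mul_of_le_span h0).resolve_left ?_
    intro h1
    obtain ⟨W, hxW, hW⟩ := exists_open_stalkIdeal_le (F := F.comap q) (G := E.comap q) (p' z')
      (exists_princ_of_isEff hE _) (by rw [hEt, h1])
    obtain ⟨y, hyW, hyA⟩ := mem_closure_iff.1 hz'2 W W.isOpen hxW
    change q y ∈ A at hyA
    have h2 : y ∉ (E.comap q).support := by
      rw [mem_support_comap_iff]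
      exact Set.disjoint_left.1 hAE hyA
    have h3 : y ∈ (F.comap q).support := by
      rw [mem_support_comap_iff]
      exact hAF hyA
    rw [notMem_support_iff_stalkIdeal_eq_top] at h2
    rw [mem_support_iff_stalkIdeal_ne_top] at h3
    exact h3 (top_le_iff.1 (h2 ▸ hW y hyW))
  -- at z'
  have hinc : stalkIdeal ((E.comap p).comap π) z' ≤ stalkIdeal ((F.comap p).comap π) z' ⊔
      stalkIdeal (K.comap π) z' := by
    rw [stalkIdeal_comap _ π, stalkIdeal_comap _ π, stalkIdeal_comap _ π, ← Ideal.map_sup,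
      ← stalkIdeal_sup]
    exact Ideal.map_mono (stalkIdeal_mono hincl _)
  have hcomm : ∀ G : X.IdealSheafData, (G.comap p).comap π = (G.comap q).comap p' := fun G => by
    rw [← Scheme.IdealSheafData.comap_comp, ← Scheme.IdealSheafData.comap_comp, hsq]
  rw [hcomm, hcomm, stalkIdeal_comap _ p', stalkIdeal_comap _ p', hEt, Ideal.map_span,
    Set.image_singleton] at hinc
  set t' := (p'.stalkMap z').hom t
  have hF' : (stalkIdeal (F.comap q) (p' z')).map (p'.stalkMap z').hom ≤
      Ideal.span {t'} * maximalIdeal (Z'.presheaf.stalk z') := by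
    refine (Ideal.map_mono hF).trans ?_
    rw [Ideal.map_mul, Ideal.map_span, Set.image_singleton]
    refine Ideal.mul_mono_right ?_
    rw [Ideal.map_le_iff_le_comap, IsLocalRing.maximalIdeal_comap]
  have ht' : t' ∈ stalkIdeal (K.comap π) z' := by
    have h1 : t' ∈ Ideal.span {t'} * maximalIdeal (Z'.presheaf.stalk z') ⊔ stalkIdeal (K.comap π) z' :=
      (hinc.trans (sup_le_sup_right hF' _)) (Ideal.mem_span_singleton_self t')
    obtain ⟨a, ha, c, hc, hac⟩ := Submodule.mem_sup.1 h1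
    obtain ⟨m, hm, rfl⟩ := Ideal.mem_span_singleton_mul.1 ha
    have h2 : t' * (1 - m) = c := by rw [mul_sub, mul_one, sub_eq_iff_eq_add, add_comm]; exact hac.symm
    have hu : IsUnit (1 - m) := by
      have := IsLocalRing.isUnit_or_isUnit_one_sub_self m
      exact this.resolve_left hm
    rw [mul_comm] at h2
    exact (Ideal.unit_mul_mem_iff_mem _ hu).1 (h2 ▸ hc)
  have hle : stalkIdeal ((E.comap q).comap p') z' ≤ stalkIdeal (K.comap π) z' := by
    rw [stalkIdeal_comap _ p', hEt, Ideal.map_span, Set.image_singleton,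
      Ideal.span_singleton_le_iff_mem]
    exact ht'
  obtain ⟨W, hzW, hW⟩ := exists_open_stalkIdeal_le z'
    (exists_princ_comap p' (exists_princ_of_isEff hE) z') hle
  obtain ⟨w, hwW, hwB⟩ := mem_closure_iff.1 hz' W W.isOpen hzW
  change π w ∈ B at hwB
  have h5 : stalkIdeal ((E.comap q).comap p') w = ⊤ := by
    rw [← notMem_support_iff_stalkIdeal_eq_top, ← hcomm, mem_support_comap_iff,
      mem_support_comap_iff]
    exact hBE _ hwB
  have h6 : w ∈ (K.comap π).support := by
    rw [mem_support_comap_iff]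
    exact hBK hwB
  rw [mem_support_iff_stalkIdeal_ne_top] at h6
  exact h6 (top_le_iff.1 (h5 ▸ hW w hwW))

end K484.Separate
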