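import Groth.Agent.BlowUp.K484.StrictClosed

/-!
# The ideal of the strict transform of a closed subscheme
-/

set_option autoImplicit false
universe u

open CategoryTheory AlgebraicGeometry TopologicalSpace IsLocalRing BlowUp
open Groth.Agent.Divis.CartierBasic Groth.Agent.Divis.CartierStalk Groth.Agent.Divis.BlowChart2
open Groth.Agent.Divis.IdealComap
open K484.StalkAux K484.StrictClosed

namespace K484.StrictKer

theorem exists_pow_mul_eq_zero {A : Type u} [CommRing A] (I : Ideal A) (a m : A)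
    (h : algebraMap A (affineAlgebra A I a) m = 0) : ∃ n : ℕ, a ^ n * m = 0 := by
  have h1 : algebraMap A (Localization.Away a) m = 0 := congrArg Subtype.val h
  rw [IsLocalization.map_eq_zero_iff (Submonoid.powers a) (Localization.Away a)] at h1
  obtain ⟨⟨_, n, rfl⟩, hn⟩ := h1
  exact ⟨n, hn⟩

variable {Z Z' Y Y' : Scheme.{u}}

theorem exists_pow_mul_mem (b : Z' ⟶ Z) (𝓘 : Z.IdealSheafData) (hb : IsBlowUp b 𝓘) (i : Y ⟶ Z)
    [IsClosedImmersion i] (b' : Y' ⟶ Y) (hb' : IsBlowUp b' (𝓘.comap i)) (k : Y' ⟶ Z')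
    (hk : k ≫ b = b' ≫ i) (U : Z.affineOpens) {a : Γ(Z, U.1)} (ha : a ∈ 𝓘.ideal U)
    (x : Γ(Z', chart b 𝓘 U a)) (hx : (k.app (chart b 𝓘 U a)).hom x = 0) :
    ∃ n : ℕ, (b.appLE U.1 (chart b 𝓘 U a) (chart_le b 𝓘 U a)).hom a ^ n * x ∈
      (i.ker.ideal U).map (b.appLE U.1 (chart b 𝓘 U a) (chart_le b 𝓘 U a)).hom := by
  let U' : Y.affineOpens := ⟨i ⁻¹ᵁ U.1, U.2.preimage i⟩
  have hpre := preimage_chart b 𝓘 hb.1 b' i k hk hb'.1 U U' rfl ha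
  have ha' : (i.appLE U.1 U'.1 le_rfl).hom a ∈ (𝓘.comap i).ideal U' := by
    rw [ideal_comap 𝓘 i U U' le_rfl]
    exact Ideal.mem_map_of_mem _ ha
  have hle' : k ⁻¹ᵁ chart b 𝓘 U a ≤ b' ⁻¹ᵁ U'.1 := by
    rw [hpre]; exact chart_le _ _ _ _
  have hcomm : ∀ m : Γ(Z, U.1), (k.app (chart b 𝓘 U a)).hom
        ((b.appLE U.1 (chart b 𝓘 U a) (chart_le b 𝓘 U a)).hom m) =
      (b'.appLE U'.1 (k ⁻¹ᵁ chart b 𝓘 U a) hle').hom ((i.appLE U.1 U'.1 le_rfl).hom m) := by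
    intro m
    have h1 : b.appLE U.1 (chart b 𝓘 U a) (chart_le b 𝓘 U a) ≫ k.app (chart b 𝓘 U a) =
        i.appLE U.1 U'.1 le_rfl ≫ b'.appLE U'.1 (k ⁻¹ᵁ chart b 𝓘 U a) hle' := by
      rw [Scheme.Hom.appLE_comp_appLE, ← Scheme.Hom.appLE_eq_app, Scheme.Hom.appLE_comp_appLE]
      congr 1
    exact congr($(congrArg CommRingCat.Hom.hom h1) m)
  obtain ⟨n, m, hm, h⟩ := exists_pow_mul_eq_appLE b 𝓘 U hb ha x
  have h1 : (b'.appLE U'.1 (k ⁻¹ᵁ chart b 𝓘 U a) hle').hom ((i.appLE U.1 U'.1 le_rfl).hom m) = 0 := by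
    rw [← hcomm, ← h, map_mul, hx, mul_zero]
  have gen : ∀ (V : Y'.Opens)
      (hV : V = chart b' (𝓘.comap i) U' ((i.appLE U.1 U'.1 le_rfl).hom a)) (hle : V ≤ b' ⁻¹ᵁ U'.1)
      (y : Γ(Y, U'.1)), (b'.appLE U'.1 V hle).hom y = 0 →
        ∃ N : ℕ, (i.appLE U.1 U'.1 le_rfl).hom a ^ N * y = 0 := by
    rintro _ rfl hle y hy
    obtain ⟨θ, hθ⟩ := exists_ringEquiv_chart b' (𝓘.comap i) U' hb' ha'
    apply exists_pow_mul_eq_zero ((𝓘.comap i).ideal U') _ y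
    apply θ.injective
    rw [hθ, map_zero]
    exact hy
  obtain ⟨N, hN⟩ := gen _ hpre hle' _ h1
  refine ⟨N + n, ?_⟩
  rw [pow_add, mul_assoc, h, ← map_pow, ← map_mul]
  apply Ideal.mem_map_of_mem
  rw [Scheme.Hom.ker_apply, RingHom.mem_ker]
  rw [Scheme.Hom.appLE_eq_app] at hN
  rw [map_mul, map_pow]
  exact hN

end K484.StrictKer
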