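import Mathlib.RingTheory.Regular.RegularSequence
import Mathlib.RingTheory.Noetherian.Basic
import Groth.Agent.Ega4dB.RegIdeal3

/-!
# Local algebra for the ideal of the strict transform
-/

set_option autoImplicit false

universe u

namespace K484.StrictRegAlg

open RingTheory.Sequence IsLocalRing

theorem ker_eq_ofList {R T : Type u} [CommRing R] [IsLocalRing R] [IsNoetherianRing R] [CommRing T]
    [Nontrivial T] (φ : R →+* T) (w : R) (hwm : w ∈ maximalIdeal R) (hw : φ w ∈ nonZeroDivisors T)
    (hs gs ts : List R) (hts : ts.map (fun t => w * t) = hs) (hgs : ∀ g ∈ gs, φ g = 0)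
    (hhs : ∀ h ∈ hs, φ h = 0) (hreg : IsWeaklyRegular R ([w] ++ (gs ++ ts)))
    (S : Set R) (hS : RingHom.ker φ = Ideal.span S)
    (hsat : ∀ x ∈ S, ∃ n : ℕ, w ^ n * x ∈ Ideal.ofList (hs ++ gs)) :
    IsRegular R (gs ++ ts) ∧ RingHom.ker φ = Ideal.ofList (gs ++ ts) := by
  have hker : ∀ x, φ x = 0 → x ∈ maximalIdeal R := by
    intro x hx
    rw [mem_maximalIdeal, mem_nonunits_iff]
    intro hu
    have := hu.map φ
    rw [hx] at this
    exact not_isUnit_zero this
  have hts0 : ∀ t ∈ ts, φ t = 0 := by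
    intro t ht
    have h1 : w * t ∈ hs := by
      rw [← hts]; exact List.mem_map_of_mem ht
    have h2 := hhs _ h1
    rw [map_mul] at h2
    exact (mem_nonZeroDivisors_iff.1 hw).1 _ h2
  have hmem : ∀ r ∈ gs ++ ts, φ r = 0 := by
    intro r hr
    rcases List.mem_append.1 hr with h | h
    · exact hgs r h
    · exact hts0 r h
  have hm : ∀ r ∈ gs ++ ts, r ∈ maximalIdeal R := fun r hr => hker r (hmem r hr)
  have hreg2 : IsWeaklyRegular R ((gs ++ ts) ++ [w]) := by
    refine isWeaklyRegular_of_perm_of_subset_maximalIdeal hreg List.perm_append_comm ?_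
    intro r hr
    rcases List.mem_append.1 hr with h | h
    · rw [List.mem_singleton] at h; rw [h]; exact hwm
    · exact hm r h
  have hsplit := (Groth.Agent.Ega4dB.RegIdeal3.isWeaklyRegular_append_iff_quotient (gs ++ ts) [w]).1 hreg2
  have hsat' : ∀ (n : ℕ) (x : R), w ^ n * x ∈ Ideal.ofList (gs ++ ts) → x ∈ Ideal.ofList (gs ++ ts) := by
    intro n
    induction n with
    | zero => intro x hx; simpa using hx
    | succ n ih =>
      intro x hx
      have h1 := (isWeaklyRegular_singleton_iff (R ⧸ Ideal.ofList (gs ++ ts)) w).1 hsplit.2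
      apply ih
      rw [pow_succ, mul_comm (w ^ n) w, mul_assoc] at hx
      rw [← Ideal.Quotient.eq_zero_iff_mem] at hx ⊢
      apply h1
      change w • (Ideal.Quotient.mk _ (w ^ n * x)) = w • (0 : R ⧸ Ideal.ofList (gs ++ ts))
      rw [smul_zero, ← hx]
      rfl
  refine ⟨Groth.Agent.Ega4dB.RegIdeal3.isRegular_of_mem_maximalIdeal hm hsplit.1, ?_⟩
  apply le_antisymm
  · rw [hS, Ideal.span_le]
    intro x hx
    obtain ⟨n, hn⟩ := hsat x hx
    apply hsat' n x
    refine (Ideal.span_le.2 ?_ : Ideal.ofList (hs ++ gs) ≤ Ideal.ofList (gs ++ ts)) hn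
    intro r hr
    rcases List.mem_append.1 hr with h | h
    · rw [← hts] at h
      obtain ⟨t, ht, rfl⟩ := List.mem_map.1 h
      exact Ideal.mul_mem_left _ _ (Ideal.subset_span (List.mem_append_right _ ht))
    · exact Ideal.subset_span (List.mem_append_left _ h)
  · exact Ideal.span_le.2 fun r hr => hmem r hr

end K484.StrictRegAlg
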