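import Groth.Agent.BlowUp.K484.StrictKer
import Groth.Agent.BlowUp.K484.StrictRegAlg
import Groth.Agent.BlowUp.K484.RegGens
import Groth.Agent.BlowUp.K484.RegChart
import Groth.Agent.BlowUp.K484.RegSpread
import Groth.Agent.Ega4dB.RelCI1
import Groth.Agent.Ega4dB.RegDescent
import Groth.Agent.Flat2C.BlowProper
import Groth.Agent.Divis.BlowUpFormal
import Groth.Prelude.Def_RegImm

/-!
# Strict transforms of regularly embedded subschemes
-/

set_option autoImplicit false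
universe u

open CategoryTheory AlgebraicGeometry TopologicalSpace IsLocalRing BlowUp
open RingTheory.Sequence
open Groth.Agent.Divis.CartierBasic Groth.Agent.Divis.CartierStalk Groth.Agent.Divis.BlowChart2
open Groth.Agent.Divis.IdealComap Groth.Agent.Divis.RegImm Groth.Agent.Divis.RegStalk
open K484.StalkAux K484.StrictClosed K484.StrictKer

namespace K484.StrictReg

variable {Z Z' Y Y' : Scheme.{u}}

theorem stalkMap_eq_zero (b : Z' ⟶ Z) (i : Y ⟶ Z) [IsClosedImmersion i] (b' : Y' ⟶ Y) (k : Y' ⟶ Z')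
    (hk : k ≫ b = b' ≫ i) (y' : Y') (U : Z.affineOpens) (hU : b (k y') ∈ U.1) (h : Γ(Z, U.1))
    (hh : h ∈ i.ker.ideal U) :
    (k.stalkMap y').hom ((b.stalkMap (k y')).hom (Z.presheaf.germ U.1 (b (k y')) hU h)) = 0 := by
  rw [← germ_appLE b U.1 (b ⁻¹ᵁ U.1) le_rfl (k y') hU hU,
    ← germ_appLE k (b ⁻¹ᵁ U.1) (k ⁻¹ᵁ (b ⁻¹ᵁ U.1)) le_rfl y' hU hU]
  have hle : k ⁻¹ᵁ (b ⁻¹ᵁ U.1) ≤ b' ⁻¹ᵁ (i ⁻¹ᵁ U.1) := by
    rw [← Scheme.Hom.comp_preimage, hk, Scheme.Hom.comp_preimage]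
  have h1 : b.appLE U.1 (b ⁻¹ᵁ U.1) le_rfl ≫ k.appLE (b ⁻¹ᵁ U.1) (k ⁻¹ᵁ (b ⁻¹ᵁ U.1)) le_rfl =
      i.appLE U.1 (i ⁻¹ᵁ U.1) le_rfl ≫ b'.appLE (i ⁻¹ᵁ U.1) (k ⁻¹ᵁ (b ⁻¹ᵁ U.1)) hle := by
    rw [Scheme.Hom.appLE_comp_appLE, Scheme.Hom.appLE_comp_appLE]
    simp_rw [hk]
  have h2 := congr($(congrArg CommRingCat.Hom.hom h1) h)
  rw [CommRingCat.hom_comp, CommRingCat.hom_comp, RingHom.comp_apply, RingHom.comp_apply] at h2
  rw [h2, Scheme.Hom.appLE_eq_app]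
  rw [Scheme.Hom.ker_apply, RingHom.mem_ker] at hh
  rw [hh, map_zero, map_zero]

/-- Over a point of the centre, one of the members `w` of `ws` defines a chart around the point. -/
theorem exists_mem_chart (b : Z' ⟶ Z) (𝓘 : Z.IdealSheafData) (hb : IsBlowUp b 𝓘) (i : Y ⟶ Z)
    [IsClosedImmersion i] (b' : Y' ⟶ Y) (hb' : IsBlowUp b' (𝓘.comap i)) (k : Y' ⟶ Z')
    (hk : k ≫ b = b' ≫ i) (y' : Y') (U : Z.affineOpens) (hU : b (k y') ∈ U.1)
    (hs ws : List Γ(Z, U.1)) (hI : 𝓘.ideal U = Ideal.ofList (hs ++ ws)) (hhs : ∀ h ∈ hs, h ∈ i.ker.ideal U) :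
    ∃ w ∈ ws, k y' ∈ chart b 𝓘 U w := by
  let φ := (k.stalkMap y').hom
  let β : Γ(Z, U.1) →+* Z'.presheaf.stalk (k y') :=
    (b.stalkMap (k y')).hom.comp (Z.presheaf.germ U.1 (b (k y')) hU).hom
  have hE : stalkIdeal (𝓘.comap b) (k y') = (𝓘.ideal U).map β := by
    rw [stalkIdeal_comap 𝓘 b, stalkIdeal_eq 𝓘 U hU, Ideal.map_map]
  have hE' : stalkIdeal ((𝓘.comap i).comap b') y' = (stalkIdeal (𝓘.comap b) (k y')).map φ := by
    rw [← stalkIdeal_comap, ← Scheme.IdealSheafData.comap_comp, ← Scheme.IdealSheafData.comap_comp, hk]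
  obtain ⟨e', he', hEe'⟩ := exists_stalkIdeal_eq_span hb'.1 y'
  obtain ⟨e, he, hEe⟩ := exists_stalkIdeal_eq_span hb.1 (k y')
  -- the germs of elements of the ideal of `Y` vanish
  have hkill : ∀ h ∈ hs, φ (β h) = 0 := fun h hh => stalkMap_eq_zero b i b' k hk y' U hU h (hhs h hh)
  have hbot : (Ideal.ofList hs).map (φ.comp β) = ⊥ := by
    rw [Ideal.map_ofList, eq_bot_iff, Ideal.span_le]
    intro x hx
    obtain ⟨h, hh, rfl⟩ := List.mem_map.1 hx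
    exact hkill h hh
  have hsup : ⨆ j : {w // w ∈ ws}, Ideal.span {(φ.comp β) j.1} = Ideal.span {e'} := by
    rw [← hEe', hE', hE, Ideal.map_map, hI, Ideal.ofList_append, Ideal.map_sup, hbot, bot_sup_eq,
      Ideal.map_ofList]
    apply le_antisymm
    · refine iSup_le fun j => ?_
      rw [Ideal.span_singleton_le_iff_mem]
      exact Ideal.subset_span (List.mem_map_of_mem j.2)
    · refine Ideal.span_le.2 ?_
      intro x hx
      obtain ⟨w, hw, rfl⟩ := List.mem_map.1 hx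
      exact le_iSup (fun j : {w // w ∈ ws} => Ideal.span {(φ.comp β) j.1}) ⟨w, hw⟩
        (Ideal.mem_span_singleton_self _)
  obtain ⟨⟨w, hw⟩, hwe⟩ := exists_eq_of_iSup_eq_span he' hsup
  have hwI : w ∈ 𝓘.ideal U := by
    rw [hI]; exact Ideal.subset_span (List.mem_append_right _ hw)
  refine ⟨w, hw, (mem_chart_iff_stalk b 𝓘 U hb.1 hwI _).2 ⟨hU, ?_⟩⟩
  change _ = Ideal.span {β w}
  dsimp only at hwe
  have h1 : β w ∈ Ideal.span {e} := by
    rw [← hEe, hE]; exact Ideal.mem_map_of_mem _ hwI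
  obtain ⟨u, hu⟩ := Ideal.mem_span_singleton.1 h1
  have h2 : Ideal.span {φ e} = Ideal.span {e'} := by
    rw [← hEe', hE', hEe, Ideal.map_span, Set.image_singleton]
  have h3 : φ e ∈ nonZeroDivisors (Y'.presheaf.stalk y') := by
    have h4 : e' ∈ Ideal.span {φ e} := by rw [h2]; exact Ideal.mem_span_singleton_self _
    obtain ⟨c, hc⟩ := Ideal.mem_span_singleton.1 h4
    rw [hc] at he'
    exact (mul_mem_nonZeroDivisors.1 he').1
  have h4 : IsUnit (φ u) := by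
    have h5 : φ e ∈ Ideal.span {φ (β w)} := by
      have h6 : Ideal.span {φ (β w)} = Ideal.span {φ e} := by rw [h2]; exact hwe
      rw [h6]; exact Ideal.mem_span_singleton_self _
    obtain ⟨c, hc⟩ := Ideal.mem_span_singleton.1 h5
    refine IsUnit.of_mul_eq_one c ?_
    apply (mul_cancel_left_mem_nonZeroDivisors h3).1
    rw [← mul_assoc, ← map_mul, ← hu, ← hc, mul_one]
  have h5 : IsUnit u := isUnit_of_map_unit (k.stalkMap y').hom u h4
  rw [hEe, hu]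
  exact (Ideal.span_singleton_mul_right_unit h5 _).symm

/-- The strict transform is regularly embedded at points over the centre. -/
theorem regAt_ker_of_gens [IsLocallyNoetherian Z] [IsLocallyNoetherian Z'] (b : Z' ⟶ Z)
    (𝓘 : Z.IdealSheafData) (hb : IsBlowUp b 𝓘) (i : Y ⟶ Z)
    [IsClosedImmersion i] (b' : Y' ⟶ Y) (hb' : IsBlowUp b' (𝓘.comap i)) (k : Y' ⟶ Z')
    [IsClosedImmersion k] (hk : k ≫ b = b' ≫ i) (y' : Y') (hz : b (k y') ∈ 𝓘.support)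
    (hs ws gs : List (Z.presheaf.stalk (b (k y')))) (hreg : IsRegular (Z.presheaf.stalk (b (k y'))) (hs ++ ws))
    (hI : Ideal.ofList (hs ++ ws) = stalkIdeal 𝓘 (b (k y')))
    (hJ : Ideal.ofList (hs ++ gs) = stalkIdeal i.ker (b (k y')))
    (hgs : IsWeaklyRegular (Z.presheaf.stalk (b (k y')) ⧸ stalkIdeal 𝓘 (b (k y'))) gs) :
    RegAt k.ker (k y') := by
  obtain ⟨U, hU, hs', ws', gs', -, -, -, hreg', hI', hJ', hgs'⟩ :=
    K484.RegSpread.exists_spread 𝓘 i.ker (b (k y')) hs ws gs hreg.toIsWeaklyRegular hI hJ hgs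
  obtain ⟨w, hw, hchart⟩ := exists_mem_chart b 𝓘 hb i b' hb' k hk y' U hU hs' ws' hI' (by
    intro h hh
    rw [hJ']; exact Ideal.subset_span (List.mem_append_left _ hh))
  have hwI : w ∈ 𝓘.ideal U := by
    rw [hI']; exact Ideal.subset_span (List.mem_append_right _ hw)
  have haff : IsAffineOpen (chart b 𝓘 U w) := isAffineOpen_chart b 𝓘 U hb hwI
  obtain ⟨ts, hts, htreg⟩ := K484.RegChart.exists_chart_list hs' ws' gs' hreg' (𝓘.ideal U) hI' hgs' w hw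
  obtain ⟨θ, hθ⟩ := exists_ringEquiv_chart b 𝓘 U hb hwI
  -- the ring homs
  let φ := (k.stalkMap y').hom
  let c₁ : Γ(Z, U.1) →+* Γ(Z', chart b 𝓘 U w) :=
    (b.appLE U.1 (chart b 𝓘 U w) (chart_le b 𝓘 U w)).hom
  let γ : Γ(Z', chart b 𝓘 U w) →+* Z'.presheaf.stalk (k y') :=
    (Z'.presheaf.germ (chart b 𝓘 U w) (k y') hchart).hom
  have hγflat : γ.Flat := by
    let := Z'.presheaf.algebra_section_stalk (⟨k y', hchart⟩ : chart b 𝓘 U w)
    have hloc := haff.isLocalization_stalk ⟨k y', hchart⟩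
    change (algebraMap Γ(Z', chart b 𝓘 U w) (Z'.presheaf.stalk (k y'))).Flat
    rw [RingHom.flat_algebraMap_iff]
    exact IsLocalization.flat _ (haff.primeIdealOf ⟨k y', hchart⟩).asIdeal.primeCompl
  let θ' : affineAlgebra Γ(Z, U.1) (𝓘.ideal U) w →+* Γ(Z', chart b 𝓘 U w) := θ.toRingHom
  have hθ' : ∀ x, θ' (algebraMap Γ(Z, U.1) (affineAlgebra Γ(Z, U.1) (𝓘.ideal U) w) x) = c₁ x := hθ
  have hθflat : θ'.Flat := RingHom.Flat.of_bijective (f := θ') θ.bijective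
  have hreg1 : IsWeaklyRegular (Z'.presheaf.stalk (k y'))
      ([γ (c₁ w)] ++ (gs'.map (γ.comp c₁) ++ ts.map (γ.comp θ'))) := by
    have h1 := isWeaklyRegular_map_of_flat θ' hθflat htreg
    have h2 := isWeaklyRegular_map_of_flat γ hγflat h1
    simp only [List.map_append, List.map_map, List.map_singleton] at h2
    have e1 : γ ∘ θ' ∘ (algebraMap Γ(Z, U.1) (affineAlgebra Γ(Z, U.1) (𝓘.ideal U) w)) =
        γ.comp c₁ := by
      funext x
      exact congrArg γ (hθ' x)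
    rw [e1] at h2
    have e3 : (γ (θ' (algebraMap Γ(Z, U.1) (affineAlgebra Γ(Z, U.1) (𝓘.ideal U) w) w))) =
        γ (c₁ w) := by rw [hθ']
    rw [e3] at h2
    exact h2
  -- the germs
  have hgerm : ∀ x : Γ(Z, U.1), γ (c₁ x) =
      (b.stalkMap (k y')).hom (Z.presheaf.germ U.1 (b (k y')) hU x) := fun x =>
    germ_appLE b U.1 (chart b 𝓘 U w) (chart_le b 𝓘 U w) (k y') hchart hU x
  have hkill : ∀ h ∈ i.ker.ideal U, φ (γ (c₁ h)) = 0 := by
    intro h hh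
    rw [hgerm]
    exact stalkMap_eq_zero b i b' k hk y' U hU h hh
  have hEw : stalkIdeal (𝓘.comap b) (k y') = Ideal.span {γ (c₁ w)} := by
    obtain ⟨hx, h⟩ := (mem_chart_iff_stalk b 𝓘 U hb.1 hwI _).1 hchart
    rw [h, hgerm]
  obtain ⟨e', he', hEe'⟩ := exists_stalkIdeal_eq_span hb'.1 y'
  have hφw : φ (γ (c₁ w)) ∈ nonZeroDivisors (Y'.presheaf.stalk y') := by
    have h2 : Ideal.span {φ (γ (c₁ w))} = Ideal.span {e'} := by
      rw [← hEe', ← Scheme.IdealSheafData.comap_comp, ← hk, Scheme.IdealSheafData.comap_comp,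
        stalkIdeal_comap _ k, hEw, Ideal.map_span, Set.image_singleton]
    have h4 : e' ∈ Ideal.span {φ (γ (c₁ w))} := by rw [h2]; exact Ideal.mem_span_singleton_self _
    obtain ⟨c, hc⟩ := Ideal.mem_span_singleton.1 h4
    rw [hc] at he'
    exact (mul_mem_nonZeroDivisors.1 he').1
  have hwm : γ (c₁ w) ∈ maximalIdeal (Z'.presheaf.stalk (k y')) := by
    have h1 : k y' ∈ (𝓘.comap b).support := (mem_support_comap_iff 𝓘 b (k y')).2 hz
    have h2 := (mem_support_iff_stalkIdeal_ne_top (𝓘.comap b) (k y')).1 h1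
    have h3 := le_maximalIdeal h2
    rw [hEw] at h3
    exact h3 (Ideal.mem_span_singleton_self _)
  -- the kernel
  have hker : RingHom.ker φ = Ideal.span (γ '' {x | (k.app (chart b 𝓘 U w)).hom x = 0}) := by
    have h1 : RingHom.ker φ = stalkIdeal k.ker (k y') := ker_stalkMap k y'
    rw [h1, stalkIdeal_eq k.ker ⟨chart b 𝓘 U w, haff⟩ hchart, Scheme.Hom.ker_apply]
    rfl
  obtain ⟨hR, hK⟩ := K484.StrictRegAlg.ker_eq_ofList φ (γ (c₁ w)) hwm hφw
    (hs'.map (γ.comp c₁)) (gs'.map (γ.comp c₁)) (ts.map (γ.comp θ')) (by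
      have h1 := congrArg (List.map (γ.comp θ')) hts
      rw [List.map_map, List.map_map] at h1
      rw [List.map_map]
      have e1 : ((γ.comp θ') ∘ fun t => algebraMap Γ(Z, U.1)
          (affineAlgebra Γ(Z, U.1) (𝓘.ideal U) w) w * t) = (fun t => γ (c₁ w) * t) ∘ (γ.comp θ') := by
        funext t
        simp only [Function.comp_apply, RingHom.comp_apply, map_mul, hθ']
      have e2 : (γ.comp θ') ∘ (algebraMap Γ(Z, U.1) (affineAlgebra Γ(Z, U.1) (𝓘.ideal U) w)) =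
          γ.comp c₁ := by
        funext x
        exact congrArg γ (hθ' x)
      rw [e1, e2] at h1
      exact h1)
    (by
      intro g hg
      obtain ⟨g, hg', rfl⟩ := List.mem_map.1 hg
      refine hkill g ?_
      rw [hJ']; exact Ideal.subset_span (List.mem_append_right _ hg'))
    (by
      intro h hh
      obtain ⟨h, hh', rfl⟩ := List.mem_map.1 hh
      refine hkill h ?_
      rw [hJ']; exact Ideal.subset_span (List.mem_append_left _ hh'))
    hreg1 _ hker (by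
      rintro _ ⟨x, hx, rfl⟩
      obtain ⟨n, hn⟩ := exists_pow_mul_mem b 𝓘 hb i b' hb' k hk U hwI x hx
      refine ⟨n, ?_⟩
      rw [hJ'] at hn
      have h1 := Ideal.mem_map_of_mem γ hn
      rw [Ideal.map_map, Ideal.map_ofList, List.map_append, map_mul, map_pow] at h1
      exact h1)
  rw [regAt_ker_iff]
  exact ⟨_, hR, hK⟩

theorem isRegularIdeal_map_mk (𝓘 𝓙 : Z.IdealSheafData)
    (h : RegImm.IsRegularIdeal RegImm.Kind.regular (𝓘.comap 𝓙.subschemeι)) (z : Z)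
    (h1 : z ∈ 𝓘.support) (h2 : z ∈ 𝓙.support) :
    CInt.IsRegularIdeal ((stalkIdeal 𝓘 z).map (Ideal.Quotient.mk (stalkIdeal 𝓙 z))) := by
  have h3 : z ∈ Set.range 𝓙.subschemeι := by
    rw [Scheme.IdealSheafData.range_subschemeι]; exact h2
  obtain ⟨y, rfl⟩ := h3
  have hy : y ∈ (𝓘.comap 𝓙.subschemeι).support := (mem_support_comap_iff 𝓘 𝓙.subschemeι y).2 h1
  have hreg : RegAt (𝓘.comap 𝓙.subschemeι) y := by
    obtain ⟨U, hyU, rs, hrs, hI⟩ := h y hy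
    exact ⟨U, hyU, rs, hrs.toIsWeaklyRegular, hI⟩
  have h4 := Groth.Agent.Ega4dB.RelCI1.isRegularIdeal_stalkIdeal hreg hy
  rw [stalkIdeal_comap, ← Groth.Agent.Ega4dB.RegDescent.isRegularIdeal_map_surjective_iff _
    (𝓙.subschemeι.stalkMap_surjective y)] at h4
  have h5 : RingHom.ker (𝓙.subschemeι.stalkMap y).hom = stalkIdeal 𝓙 (𝓙.subschemeι y) :=
    ker_stalkMap_subschemeι 𝓙 y
  rw [h5] at h4
  exact h4

theorem isRegularIdeal_stalkIdeal' (𝓘 : Z.IdealSheafData)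
    (h : RegImm.IsRegularIdeal RegImm.Kind.regular 𝓘) (z : Z) (h1 : z ∈ 𝓘.support) :
    CInt.IsRegularIdeal (stalkIdeal 𝓘 z) := by
  refine Groth.Agent.Ega4dB.RelCI1.isRegularIdeal_stalkIdeal ?_ h1
  obtain ⟨U, hyU, rs, hrs, hI⟩ := h z h1
  exact ⟨U, hyU, rs, hrs.toIsWeaklyRegular, hI⟩

/-- Away from the centre, the ideal of the strict transform is the inverse image ideal. -/
theorem ideal_chart_one (b : Z' ⟶ Z) (𝓘 : Z.IdealSheafData) (hb : IsBlowUp b 𝓘) (i : Y ⟶ Z)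
    [IsClosedImmersion i] (b' : Y' ⟶ Y) (hb' : IsBlowUp b' (𝓘.comap i)) (k : Y' ⟶ Z')
    [IsClosedImmersion k] (hk : k ≫ b = b' ≫ i) (U : Z.affineOpens) (h1 : (1 : Γ(Z, U.1)) ∈ 𝓘.ideal U) :
    k.ker.ideal ⟨chart b 𝓘 U 1, isAffineOpen_chart b 𝓘 U hb h1⟩ =
      (i.ker.comap b).ideal ⟨chart b 𝓘 U 1, isAffineOpen_chart b 𝓘 U hb h1⟩ := by
  rw [ideal_comap i.ker b U ⟨chart b 𝓘 U 1, isAffineOpen_chart b 𝓘 U hb h1⟩ (chart_le b 𝓘 U 1)]
  apply le_antisymm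
  · intro x hx
    rw [Scheme.Hom.ker_apply, RingHom.mem_ker] at hx
    obtain ⟨n, hn⟩ := exists_pow_mul_mem b 𝓘 hb i b' hb' k hk U h1 x hx
    rw [map_one, one_pow, one_mul] at hn
    exact hn
  · rw [Ideal.map_le_iff_le_comap]
    intro h hh
    rw [Ideal.mem_comap, Scheme.Hom.ker_apply, RingHom.mem_ker]
    have hle : k ⁻¹ᵁ (chart b 𝓘 U 1) ≤ b' ⁻¹ᵁ (i ⁻¹ᵁ U.1) := by
      rw [← Scheme.Hom.comp_preimage, ← hk, Scheme.Hom.comp_preimage]
      exact k.preimage_mono (chart_le b 𝓘 U 1)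
    have h3 : b.appLE U.1 (chart b 𝓘 U 1) (chart_le b 𝓘 U 1) ≫ k.app (chart b 𝓘 U 1) =
        i.appLE U.1 (i ⁻¹ᵁ U.1) le_rfl ≫ b'.appLE (i ⁻¹ᵁ U.1) (k ⁻¹ᵁ (chart b 𝓘 U 1)) hle := by
      rw [← Scheme.Hom.appLE_eq_app, Scheme.Hom.appLE_comp_appLE, Scheme.Hom.appLE_comp_appLE]
      simp_rw [hk]
    have h2 := congr($(congrArg CommRingCat.Hom.hom h3) h)
    rw [CommRingCat.hom_comp, CommRingCat.hom_comp, RingHom.comp_apply, RingHom.comp_apply] at h2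
    refine h2.trans ?_
    rw [Scheme.Hom.appLE_eq_app]
    rw [Scheme.Hom.ker_apply, RingHom.mem_ker] at hh
    rw [hh, map_zero]

theorem ideal_eq_top_of_disjoint (I : Z.IdealSheafData) (V : Z.affineOpens)
    (h : ∀ x ∈ V.1, x ∉ I.support) : I.ideal V = ⊤ := by
  rw [← PrimeSpectrum.zeroLocus_empty_iff_eq_top]
  have h1 := I.coe_support_inter V
  have h2 := V.2.fromSpec_image_zeroLocus (I.ideal V)
  rw [← h1] at h2
  have h3 : ((I.support : Set Z) ∩ (V.1 : Set Z)) = ∅ := by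
    ext x
    simp only [Set.mem_inter_iff, Set.mem_empty_iff_false, iff_false, not_and]
    exact fun hx hV => h x hV hx
  rw [h3, Set.image_eq_empty] at h2
  exact h2

theorem regAt_comap_of_notMem (b : Z' ⟶ Z) (𝓘 𝓙 : Z.IdealSheafData) (hb : IsBlowUp b 𝓘)
    (z' : Z') (hz : b z' ∉ 𝓘.support) (h : RegAt 𝓙 (b z')) : RegAt (𝓙.comap b) z' := by
  have hiso : IsIso (b ∣_ 𝓘.support.compl) :=
    Groth.Agent.Divis.BlowUpFormal.isIso_morphismRestrict_compl_support hb _ disjoint_compl_left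
  let f : (b ⁻¹ᵁ 𝓘.support.compl).toScheme ⟶ Z := (b ⁻¹ᵁ 𝓘.support.compl).ι ≫ b
  have hf : f = (b ∣_ 𝓘.support.compl) ≫ Scheme.Opens.ι 𝓘.support.compl :=
    (morphismRestrict_ι b _).symm
  have hflat : Flat f := by rw [hf]; infer_instance
  have hmem : z' ∈ b ⁻¹ᵁ 𝓘.support.compl := hz
  have h1 : RegAt (𝓙.comap f) ⟨z', hmem⟩ := RegAt.comap f h
  rw [Scheme.IdealSheafData.comap_comp] at h1
  exact (regAt_comap_iff_of_isOpenImmersion (b ⁻¹ᵁ 𝓘.support.compl).ι).1 h1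

theorem isRegularImmersion_of_regAt (k : Y' ⟶ Z') [IsClosedImmersion k]
    (h : ∀ y', RegAt k.ker (k y')) : RegImm.IsRegularImmersion RegImm.Kind.regular k := by
  refine ⟨inferInstance, fun y' => ?_⟩
  obtain ⟨U, hyU, rs, hrs, hI⟩ := h y'
  refine ⟨U, hyU, inferInstance, rs, (isRegular_iff_ne_top rs).2 ⟨hrs, ?_⟩, ?_⟩
  · rw [← hI]
    exact ideal_ne_top_of_mem_support (mem_support_ker k y') hyU
  · rw [← Scheme.Hom.ker_apply]; exact hI

theorem main [IsLocallyNoetherian Z] (𝓘W 𝓘Y : Z.IdealSheafData)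
    (hW : RegImm.IsRegularIdeal RegImm.Kind.regular 𝓘W)
    (hY : RegImm.IsRegularIdeal RegImm.Kind.regular 𝓘Y)
    (hXY : RegImm.IsRegularIdeal RegImm.Kind.regular (𝓘W.comap 𝓘Y.subschemeι))
    (hXW : RegImm.IsRegularIdeal RegImm.Kind.regular (𝓘Y.comap 𝓘W.subschemeι))
    (b : Z' ⟶ Z) (hb : BlowUp.IsBlowUp b 𝓘W)
    (b' : Y' ⟶ 𝓘Y.subscheme) (hb' : BlowUp.IsBlowUp b' (𝓘W.comap 𝓘Y.subschemeι))
    (k : Y' ⟶ Z') (hk : k ≫ b = b' ≫ 𝓘Y.subschemeι) :
    RegImm.IsRegularImmersion RegImm.Kind.regular k := by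
  have hclosed : IsClosedImmersion k :=
    K484.StrictClosed.isClosedImmersion b 𝓘W hb 𝓘Y.subschemeι b' hb' k hk
  have hft : BlowUp.IsFiniteTypeIdeal 𝓘W := by
    intro U
    have : IsNoetherianRing Γ(Z, U.1) := IsLocallyNoetherian.component_noetherian U
    exact IsNoetherian.noetherian _
  have hproper : IsProper b := Groth.Agent.Flat2C.BlowProper.isProper_of_isBlowUp hb hft
  have hZ' : IsLocallyNoetherian Z' := LocallyOfFiniteType.isLocallyNoetherian b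
  apply isRegularImmersion_of_regAt
  intro y'
  have hzY : b (k y') ∈ 𝓘Y.support := by
    have h1 : b (k y') = 𝓘Y.subschemeι (b' y') := by
      rw [← Scheme.Hom.comp_apply, hk, Scheme.Hom.comp_apply]
    have h2 : b (k y') ∈ Set.range 𝓘Y.subschemeι := ⟨b' y', h1.symm⟩
    rw [Scheme.IdealSheafData.range_subschemeι] at h2
    exact h2
  by_cases hz : b (k y') ∈ 𝓘W.support
  · obtain ⟨hs, ws, gs, hreg, hI, hJ, hgs⟩ := K484.RegGens.exists_generators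
      (stalkIdeal 𝓘W (b (k y'))) (stalkIdeal 𝓘Y (b (k y')))
      (isRegularIdeal_stalkIdeal' 𝓘W hW _ hz) (isRegularIdeal_stalkIdeal' 𝓘Y hY _ hzY)
      (isRegularIdeal_map_mk 𝓘W 𝓘Y hXY _ hz hzY) (isRegularIdeal_map_mk 𝓘Y 𝓘W hXW _ hzY hz)
    refine regAt_ker_of_gens b 𝓘W hb 𝓘Y.subschemeι b' hb' k hk y' hz hs ws gs hreg hI ?_ hgs
    rw [Scheme.IdealSheafData.ker_subschemeι]
    exact hJ
  · have hregY : RegAt 𝓘Y (b (k y')) := by
      obtain ⟨U, hyU, rs, hrs, hI⟩ := hY _ hzY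
      exact ⟨U, hyU, rs, hrs.toIsWeaklyRegular, hI⟩
    have h1 := regAt_comap_of_notMem b 𝓘W 𝓘Y hb (k y') hz hregY
    obtain ⟨U, hU, hxU, hUW⟩ := exists_isAffineOpen_mem_and_subset (U := 𝓘W.support.compl)
      (x := b (k y')) hz
    have hone : (1 : Γ(Z, U)) ∈ 𝓘W.ideal ⟨U, hU⟩ := by
      rw [← Ideal.eq_top_iff_one]
      exact ideal_eq_top_of_disjoint 𝓘W ⟨U, hU⟩ fun x hx => hUW hx
    have hch := ideal_chart_one b 𝓘W hb 𝓘Y.subschemeι b' hb' k hk ⟨U, hU⟩ hone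
    rw [Scheme.IdealSheafData.ker_subschemeι] at hch
    refine Groth.Agent.Ega4dB.RelCI1.regAt_of_stalkIdeal_eq (chart b 𝓘W ⟨U, hU⟩ 1) ?_ ?_ h1
    · intro z' hz'
      rw [stalkIdeal_eq _ ⟨chart b 𝓘W ⟨U, hU⟩ 1, isAffineOpen_chart b 𝓘W ⟨U, hU⟩ hb hone⟩ hz',
        stalkIdeal_eq _ ⟨chart b 𝓘W ⟨U, hU⟩ 1, isAffineOpen_chart b 𝓘W ⟨U, hU⟩ hb hone⟩ hz', hch]
    · refine (mem_chart_iff_stalk b 𝓘W ⟨U, hU⟩ hb.1 hone _).2 ⟨hxU, ?_⟩
      rw [map_one, map_one, Ideal.span_singleton_one, stalkIdeal_comap 𝓘W b,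
        stalkIdeal_eq 𝓘W ⟨U, hU⟩ hxU, (Ideal.eq_top_iff_one _).2 hone, Ideal.map_top, Ideal.map_top]

end K484.StrictReg
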